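import Cfsg.Agent.H594.PQ.KillE8_m3
import Cfsg.Agent.H996.PQ.BigSum_m3
import Cfsg.Agent.H766.PQ.A01_m3
import Cfsg.Agent.H526.Van.Chev
import Cfsg.Agent.KFacts.RgdChevCoord
import Cfsg.Agent.FixBN.ChevGood
import Cfsg.Agent.Lib.FinFast
import Cfsg.Agent.H355.PQ.CoreUse_m3
import Cfsg.Agent.H61.PQ.Cd2_m3
import Cfsg.Agent.H755.PQ.TorDualT
import Cfsg.Agent.H755.PQ.TorTw
import Cfsg.Agent.H947.PQ.Own_m3
import Cfsg.Agent.S1062
import Cfsg.Agent.H61.PQ.NegOne_m3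
import Cfsg.Agent.H996.Eight.TabE7a
import Cfsg.Agent.H996.Eight.TabTwEa_mg_m3
import Cfsg.Agent.S1064
import Cfsg.Agent.H792.PQ.KqX
import Mathlib
import Cfsg.Agent.H154.PQE.Opp
import Cfsg.Agent.S0242
import Cfsg.Agent.S1035
import Cfsg.Agent.H996.PQ.KqB
import Cfsg.Agent.H710.R4.Sph_m3
import Cfsg.Agent.CharactersDeep.NormalInd
import Cfsg.Agent.H292.S38.Tor
import Cfsg.Agent.H115.HC.TwoLin
import Mathlib.NumberTheory.LegendreSymbol.QuadraticChar.Basic
import Cfsg.Agent.FastGrp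
import Cfsg.Agent.Prune
set_option linter.all false

section
prune_inst 0x7ffcfdf8afa8afffdfff7e3ffef9dffd91a08fffa6dff943ffe8e19f0b9f13004be5fb8f0de010fe0ed6e2b410b87853fb7eeeffe86bdc7ffffd5ff41ffbee0fe5f7b50811d49c240f340ff703f0778e6f3fffffffffffffffffffffffffffbefffffbfeffff

-- part: H526/PQ/Split
section
set_option linter.all false
open scoped Cfsg.Agent.FastGrp

/-!
# S4612, linear characters of the Chevalley groups (helper526)

`lin_F4`, `lin_E6`, `lin_E7`, `lin_E8`, `linTwo_F4`, ... : the primes dividing `q - 1`.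
-/

set_option autoImplicit false
set_option linter.unusedSectionVars false

open Cfsg

namespace Cfsg.Agent.H526.PQ

open Cfsg.Lie Cfsg.Agent.ChevalleyStructure Cfsg.Agent.ChevalleyStructure.Elts
  Cfsg.Agent.ChevalleyStructure.RootVec Cfsg.Agent.ChevalleyStructure.RootVecTab
  Cfsg.Agent.ChevalleyStructure.NPerm Cfsg.Agent.ChevalleyStructure.CoxeterGeomTypes
open Cfsg.Agent.Nodes Cfsg.Agent.Nodes.RGDChev Cfsg.Agent.H35.ExcIdx
open CoxeterSystem Cfsg.Agent.ChevalleyStructure.CoxeterGeom Cfsg.Agent.Tits.Roots Cfsg.Agent.Tits.Core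
  Cfsg.Agent.Tits.Exchange Cfsg.Agent.Nodes.Reps Cfsg.Agent.Nodes.BNOf Cfsg.Agent.Nodes.StabComb
  Cfsg.Agent.Nodes.Bruhat Cfsg.Agent.Nodes.OppDec Cfsg.Agent.Nodes.LeviDec
open Cfsg.Agent.H317.PQ Cfsg.Agent.H996.PQ Cfsg.Agent.H632.PQ Cfsg.Agent.H526.Van
open Cfsg.Agent.KFacts.RgdField

universe u

/-- for every root `r ≠ s` some simple coroot has values on `s`, `r` with difference `±1`, `±2` -/
def ChkDiff (D : ChevalleyDatum) (s : ℕ) : Bool :=
  (List.range D.nroots).all fun r => decide (r = s) ||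
    (List.range D.rank).any fun j => decide ((D.cartan j s - D.cartan j r).natAbs = 1) ||
      decide ((D.cartan j s - D.cartan j r).natAbs = 2)

/-- `tor c` centralises the roots with `j₀`-th coordinate zero, and acts on `s` with exponent 2 -/
def ChkCen (D : ChevalleyDatum) (c : List ℤ) (j₀ s : ℕ) : Bool :=
  decide (expo D (fun i => c.getD i 0) s = 2) &&
    (List.range D.nroots).all fun r => decide (rt D r j₀ = 0 → expo D (fun i => c.getD i 0) r = 0)

variable {D : ChevalleyDatum} {l : ℕ} {M : CoxeterMatrix (Fin l)} (hp : IsType D l M) {K : Type u} [Field K]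

include hp in
/-- **the split groups**: `c` of order `p` (`p` odd) or of order `4` (`p = 2`) -/
theorem not_same_split [Fintype K] {s : ℕ} (hs : s < D.nroots)
    (hD : ∀ r < D.nroots, r ≠ s → (∀ i, 0 ≤ vec D l r i) → D.commTerms r s = []) {j₀ : Fin l} {Dl : Fin l → ℤ}
    (hi : Hi (cartanOf D l) j₀ (vec D l s) Dl) (h1 : ChkDiff D s = true) {c : List ℤ} (h2 : ChkCen D c j₀ s = true)
    (r : ℕ) [hrf : Fact r.Prime] [CharP K r] {p q : ℕ} (hpp : p.Prime) (hq : q.Prime) (hpq : p ≠ q) (hrq : r ≠ q)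
    {t : Kˣ} (ht1 : p ∣ orderOf t) (ht2 : p ∣ orderOf (t ^ 2)) : ¬ Same p q ↥(D.group K) := by
  classical
  have hW : Finite M.Group := finite_W hp M.toCoxeterSystem
  have : Finite ↥(D.group K) := H53.HC.ExcRows.finite_group (K := K) D
  have hfin : Finite K := inferInstance
  set cs := M.toCoxeterSystem with hcs
  have R := rgd (K := K) hp cs r
  have C := KFacts.RgdChevCoord.coords (K := K) hp cs r
  have hr0 : IsRoot cs hp.isCartan (vec D l s) := isRoot_vec hp cs hs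
  have hc0 := C.coord _ hr0
  have hord : ∀ d : ℤ, d.natAbs = 1 ∨ d.natAbs = 2 → p ∣ orderOf ((t ^ d : Kˣ)) := by
    intro d hd
    rcases Int.natAbs_eq d with h3 | h3
    · rcases hd with h4 | h4
      · rw [h3, h4, zpow_natCast, pow_one]; exact ht1
      · rw [h3, h4, zpow_natCast]; exact ht2
    · rcases hd with h4 | h4
      · rw [h3, h4, zpow_neg, orderOf_inv, zpow_natCast, pow_one]; exact ht1
      · rw [h3, h4, zpow_neg, orderOf_inv, zpow_natCast]; exact ht2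
  refine not_same_of_rgd' (F := K) (x := KFacts.RgdChevCoord.xc hp (vec D l s))
    (χ := KFacts.RgdChevCoord.ch hp (vec D l s)) R hpp hq hpq hrq (GG_eq_top hp K cs) hi
    (H241.PQ.cen_split hp K cs hs hD hi.nonneg) hr0 (fun a => (hc0.mem _).2 ⟨a, rfl⟩) hc0.inj hc0.act ?_
    (z := torG hp (fun i => c.getD i 0) t) (torG_mem hp _ t) ?_ ?_ ?_
  · -- the torus elements
    intro w hw k hk
    obtain ⟨ρ, hρ, e⟩ := (isRoot_iff hp cs _).1 (hr0.act w)
    have hρs : ρ ≠ s := by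
      rintro rfl
      exact hw e.symm
    have h3 := List.all_eq_true.1 h1 ρ (List.mem_range.2 hρ)
    rw [Bool.or_eq_true, decide_eq_true_eq, or_iff_right hρs, List.any_eq_true] at h3
    obtain ⟨j, hj, h4⟩ := h3
    rw [Bool.or_eq_true, decide_eq_true_eq, decide_eq_true_eq] at h4
    have hjl : j < l := by rw [← hp.rank_eq]; exact List.mem_range.1 hj
    have hu0 : ((t : Kˣ) : K) ≠ 0 := t.ne_zero
    have hmem := KFacts.RgdChevCoord.hc_mem hp (K := K) ⟨j, hjl⟩ hu0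
    refine ⟨KFacts.RgdChevCoord.hc hp ⟨j, hjl⟩ (t : K), hmem, ?_⟩
    have h5 : KFacts.RgdChevCoord.ch hp (vec D l s) (k⁻¹ * KFacts.RgdChevCoord.hc hp ⟨j, hjl⟩ (t : K) * k) =
        KFacts.RgdChevCoord.ch hp (vec D l ρ) (KFacts.RgdChevCoord.hc hp ⟨j, hjl⟩ (t : K)) := by
      have h6 := C.chi_rp R.nsys hk hr0 (conj_mem_T R hk hmem)
      rw [← e] at h6
      rw [← h6]
      congr 1
      group
    rw [h5, KFacts.RgdChevCoord.ch_hc hp _ hu0 hs, KFacts.RgdChevCoord.ch_hc hp _ hu0 hρ]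
    have h6 : (t : K) ^ D.cartan j s / (t : K) ^ D.cartan j ρ = (((t ^ (D.cartan j s - D.cartan j ρ) : Kˣ)) : K) := by
      rw [zpow_sub, Units.val_mul, Units.val_zpow_eq_zpow_val, Units.val_inv_eq_inv_val, Units.val_zpow_eq_zpow_val,
        div_eq_mul_inv]
    rw [show ((⟨j, hjl⟩ : Fin l) : ℕ) = j from rfl, h6, orderOf_units]
    exact hord _ h4
  · intro x hx
    exact Subtype.ext (FixBN.ChevGood.diag_comm K hp hx (torG_mem hp (fun i => c.getD i 0) t))
  · intro y hy hy0 a ha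
    obtain ⟨ρ, hρ, rfl⟩ := (isRoot_iff hp cs y).1 hy
    have ha' : (a : GL D.Idx K) ∈ D.rootSubgroup K ρ := by
      rw [← XV_vec hp K hρ]
      exact ha
    obtain ⟨b, hb⟩ := (mem_rootSubgroup_iff hp.inList ρ _).1 ha'
    have h3 := (Bool.and_eq_true _ _ ▸ h2).2
    have h4 := of_decide_eq_true (List.all_eq_true.1 h3 ρ (List.mem_range.2 hρ)) hy0
    apply Subtype.ext
    have h5 := tor_mul_xG (K := K) hp.inList (fun i => c.getD i 0) t hρ b
    rw [h4, zpow_zero, Units.val_one, one_mul] at h5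
    rw [Subgroup.coe_mul, Subgroup.coe_mul, hb]
    exact h5.symm
  · -- the scalar of `z`
    have h3 := of_decide_eq_true (Bool.and_eq_true _ _ ▸ h2).1
    have h4 : KFacts.RgdChevCoord.ch hp (vec D l s) (torG hp (fun i => c.getD i 0) t) = ((t ^ (2 : ℤ) : Kˣ) : K) := by
      apply KFacts.RgdChevCoord.ch_eq hp hs (torG_mem hp _ t)
      apply Subtype.ext
      rw [Subgroup.coe_mul, Subgroup.coe_mul, Subgroup.coe_inv, KFacts.RgdChevCoord.coe_xc hp hs,
        KFacts.RgdChevCoord.coe_xc hp hs, mul_inv_eq_iff_eq_mul]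
      have h5 := tor_mul_xG (K := K) hp.inList (fun i => c.getD i 0) t hs 1
      rw [h3, mul_one] at h5
      exact h5
    rw [h4, orderOf_units, zpow_ofNat]
    exact ht2

include hp in
/-- **odd primes dividing `q - 1`** -/
theorem lin_split [Fintype K] {s : ℕ} (hs : s < D.nroots)
    (hD : ∀ r < D.nroots, r ≠ s → (∀ i, 0 ≤ vec D l r i) → D.commTerms r s = []) {j₀ : Fin l} {Dl : Fin l → ℤ}
    (hi : Hi (cartanOf D l) j₀ (vec D l s) Dl) (h1 : ChkDiff D s = true) {c : List ℤ} (h2 : ChkCen D c j₀ s = true) :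
    Lin ↥(D.group K) (Fintype.card K) := by
  intro p q hpp hq hp2 hpq hqr hpq1 _
  obtain ⟨r, hcr⟩ := CharP.exists K
  obtain ⟨f, hr, hK⟩ := FiniteField.card K r
  have hrf : Fact r.Prime := ⟨hr⟩
  have := Fact.mk hpp
  obtain ⟨t, ht⟩ := exists_unit_order (F := K) hpq1
  have hrq : r ≠ q := by
    rintro rfl
    apply hqr
    rw [hK]
    exact dvd_pow_self _ f.pos.ne'
  refine not_same_split hp hs hD hi h1 h2 r hpp hq hpq hrq (t := t) (by rw [ht]) ?_
  rw [orderOf_pow' _ two_ne_zero, ht, Nat.Coprime.gcd_eq_one ((Nat.coprime_primes hpp Nat.prime_two).2 hp2), Nat.div_one]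

include hp in
/-- **`p = 2`, `q ≡ 1 mod 4`** -/
theorem linTwo_split [Fintype K] {s : ℕ} (hs : s < D.nroots)
    (hD : ∀ r < D.nroots, r ≠ s → (∀ i, 0 ≤ vec D l r i) → D.commTerms r s = []) {j₀ : Fin l} {Dl : Fin l → ℤ}
    (hi : Hi (cartanOf D l) j₀ (vec D l s) Dl) (h1 : ChkDiff D s = true) {c : List ℤ} (h2 : ChkCen D c j₀ s = true) :
    LinTwo ↥(D.group K) (Fintype.card K) := by
  intro h4 q hq hq2 hqr _
  obtain ⟨r, hcr⟩ := CharP.exists K
  obtain ⟨f, hr, hK⟩ := FiniteField.card K r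
  have hrf : Fact r.Prime := ⟨hr⟩
  have h5 : 4 ∣ Fintype.card K - 1 := by omega
  obtain ⟨t, ht⟩ := exists_unit_four (F := K) h5
  have hrq : r ≠ q := by
    rintro rfl
    apply hqr
    rw [hK]
    exact dvd_pow_self _ f.pos.ne'
  refine not_same_split hp hs hD hi h1 h2 r Nat.prime_two hq hq2.symm hrq (t := t) (by rw [ht]; norm_num) ?_
  rw [orderOf_pow' _ two_ne_zero, ht]
  norm_num

theorem diff_F4 : ChkDiff chevF4 47 = true := by decide +kernel
private noncomputable def _root_.Cfsg.Agent.LsF.f6d6e7b_0 : {f // @Cfsg.Lie.ChevalleyDatum.cartan = f} := ⟨_, by first | (delta Cfsg.Lie.ChevalleyDatum.cartan; rewrite [Cfsg.Agent.LsF.agetD_eq]; exact rfl) | exact rfl⟩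
private noncomputable def _root_.Cfsg.Agent.LsF.f6d6e7b_1 : {f // @Cfsg.Agent.H526.PQ.ChkDiff = f} := ⟨_, by first | (delta Cfsg.Agent.H526.PQ.ChkDiff; rewrite [Cfsg.Agent.LsF.f6d6e7b_0.2, Cfsg.Agent.LsF.isub_pat, Cfsg.Agent.LsF.or_eq, Cfsg.Agent.LsF.instDecEq_eq, Cfsg.Agent.LsF.all_eq, Cfsg.Agent.LsF.any_eq, Cfsg.Agent.LsF.range_eq, Cfsg.Agent.LsF.natAbs_eq, Cfsg.Agent.LsF.decide_eq]; exact rfl) | exact rfl⟩
theorem diff_E6 : ChkDiff chevE6 71 = true := by ((try (rewrite [Cfsg.Agent.LsF.f6d6e7b_1.2])); decide +kernel)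
theorem diff_E7 : ChkDiff chevE7 125 = true := by ((try (rewrite [Cfsg.Agent.LsF.f6d6e7b_1.2])); decide +kernel)
theorem diff_E8 : ChkDiff chevE8 239 = true := by ((try (rewrite [Cfsg.Agent.LsF.f6d6e7b_1.2])); decide +kernel)

theorem ccen_F4 : ChkCen chevF4 [1, 2, 3, 2] ((3 : Fin 4) : ℕ) 47 = true := by decide +kernel
private noncomputable def _root_.Cfsg.Agent.LsF.f6d6e7b_2 : {f // @Cfsg.Agent.H526.Van.expo = f} := ⟨_, by first | (delta Cfsg.Agent.H526.Van.expo; rewrite [Cfsg.Agent.LsF.f6d6e7b_0.2, Cfsg.Agent.LsF.imul_pat, Cfsg.Agent.LsF.map_eq, Cfsg.Agent.LsF.range_eq, Cfsg.Agent.LsF.sum_eq, Cfsg.Agent.LsF.instIAdd_eq]; exact rfl) | exact rfl⟩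
private noncomputable def _root_.Cfsg.Agent.LsF.f6d6e7b_3 : {f // @Cfsg.Agent.ChevalleyStructure.RootVecTab.dig = f} := ⟨_, by first | (delta Cfsg.Agent.ChevalleyStructure.RootVecTab.dig; rewrite [Cfsg.Agent.LsF.nmul_pat]; exact rfl) | exact rfl⟩
private noncomputable def _root_.Cfsg.Agent.LsF.f6d6e7b_4 : {f // @Cfsg.Agent.ChevalleyStructure.RootVecTab.packTab = f} := ⟨_, by first | (delta Cfsg.Agent.ChevalleyStructure.RootVecTab.packTab; rewrite [Cfsg.Agent.LsF.instDecEq_eq, Cfsg.Agent.LsF.ite_eq]; exact rfl) | exact rfl⟩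
private noncomputable def _root_.Cfsg.Agent.LsF.f6d6e7b_5 : {f // @Cfsg.Agent.ChevalleyStructure.RootVecTab.code = f} := ⟨_, by first | (delta Cfsg.Agent.ChevalleyStructure.RootVecTab.code; rewrite [Cfsg.Agent.LsF.f6d6e7b_4.2, Cfsg.Agent.LsF.nmul_pat, Cfsg.Agent.LsF.npow_pat]; exact rfl) | exact rfl⟩
private noncomputable def _root_.Cfsg.Agent.LsF.f6d6e7b_6 : {f // @Cfsg.Agent.ChevalleyStructure.RootVec.rt = f} := ⟨_, by first | (delta Cfsg.Agent.ChevalleyStructure.RootVec.rt; rewrite [Cfsg.Agent.LsF.f6d6e7b_3.2, Cfsg.Agent.LsF.f6d6e7b_5.2, Cfsg.Agent.LsF.nsub_pat, Cfsg.Agent.LsF.isub_pat, Cfsg.Agent.LsF.icast_pat, Cfsg.Agent.LsF.decLt_eq, Cfsg.Agent.LsF.dAnd_eq, Cfsg.Agent.LsF.ite_eq]; exact rfl) | exact rfl⟩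
private noncomputable def _root_.Cfsg.Agent.LsF.f6d6e7b_7 : {f // @Cfsg.Agent.H526.PQ.ChkCen = f} := ⟨_, by first | (delta Cfsg.Agent.H526.PQ.ChkCen; rewrite [Cfsg.Agent.LsF.f6d6e7b_2.2, Cfsg.Agent.LsF.f6d6e7b_6.2, Cfsg.Agent.LsF.and_eq, Cfsg.Agent.LsF.all_eq, Cfsg.Agent.LsF.range_eq, Cfsg.Agent.LsF.getD_eq, Cfsg.Agent.LsF.instIDecEq_eq, Cfsg.Agent.LsF.decide_eq]; exact rfl) | exact rfl⟩
theorem ccen_E6 : ChkCen chevE6 [1, 2, 2, 3, 2, 1] ((1 : Fin 6) : ℕ) 71 = true := by ((try (rewrite [Cfsg.Agent.LsF.f6d6e7b_7.2])); decide +kernel)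
theorem ccen_E7 : ChkCen chevE7 [2, 2, 3, 4, 3, 2, 1] ((0 : Fin 7) : ℕ) 125 = true := by ((try (rewrite [Cfsg.Agent.LsF.f6d6e7b_7.2])); decide +kernel)
theorem ccen_E8 : ChkCen chevE8 [2, 3, 4, 6, 5, 4, 3, 2] ((7 : Fin 8) : ℕ) 239 = true := by ((try (rewrite [Cfsg.Agent.LsF.f6d6e7b_7.2])); decide +kernel)

variable {F : Type u} [Field F] [Fintype F]

theorem hid_F4 : 47 < chevF4.nroots ∧
    (∀ r < chevF4.nroots, r ≠ 47 → (∀ i, 0 ≤ vec chevF4 4 r i) → chevF4.commTerms r 47 = []) ∧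
    Hi (cartanOf chevF4 4) 3 (vec chevF4 4 47) (![1, 1, 2, 2]) :=
  ⟨by decide +kernel, by decide +kernel,
    ⟨by decide +kernel, by decide +kernel, by decide +kernel, by decide +kernel, by decide +kernel⟩⟩

private noncomputable def _root_.Cfsg.Agent.LsF.f6d6e7b_8 : {f // @Cfsg.Agent.Nodes.RGDChev.vec = f} := ⟨_, by first | (delta Cfsg.Agent.Nodes.RGDChev.vec; rewrite [Cfsg.Agent.LsF.f6d6e7b_6.2]; exact rfl) | exact rfl⟩
private noncomputable def _root_.Cfsg.Agent.LsF.f6d6e7b_9 : {f // @Cfsg.Lie.ChevalleyDatum.chainEntry = f} := ⟨_, by first | (delta Cfsg.Lie.ChevalleyDatum.chainEntry; rewrite [Cfsg.Agent.LsF.instDecEq_eq, Cfsg.Agent.LsF.find?_eq, Cfsg.Agent.LsF.agetD_eq, Cfsg.Agent.LsF.decide_eq]; (try delta Cfsg.Lie.ChevalleyDatum.chainEntry.match_1); (try delta Option.casesOn); exact rfl) | exact rfl⟩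
private noncomputable def _root_.Cfsg.Agent.LsF.f6d6e7b_10 : {f // @Cfsg.Lie.ChevalleyDatum.chainRoot = f} := ⟨_, by first | (delta Cfsg.Lie.ChevalleyDatum.chainRoot; rewrite [Cfsg.Agent.LsF.f6d6e7b_9.2, Cfsg.Agent.LsF.nsub_pat, Cfsg.Agent.LsF.instGetElem?_eq]; exact rfl) | exact rfl⟩
private noncomputable def _root_.Cfsg.Agent.LsF.f6d6e7b_11 : {f // @Cfsg.Lie.ChevalleyDatum.chainM = f} := ⟨_, by first | (delta Cfsg.Lie.ChevalleyDatum.chainM; rewrite [Cfsg.Agent.LsF.f6d6e7b_9.2, Cfsg.Agent.LsF.nsub_pat, Cfsg.Agent.LsF.instGetElem?_eq, Cfsg.Agent.LsF.ogetD_eq]; exact rfl) | exact rfl⟩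
private noncomputable def _root_.Cfsg.Agent.LsF.f6d6e7b_12 : {f // @Cfsg.Lie.ChevalleyDatum.commTerms = f} := ⟨_, by first | (delta Cfsg.Lie.ChevalleyDatum.commTerms; rewrite [Cfsg.Agent.LsF.f6d6e7b_10.2, Cfsg.Agent.LsF.f6d6e7b_11.2, Cfsg.Agent.LsF.imul_pat, Cfsg.Agent.LsF.ineg_pat, Cfsg.Agent.LsF.filterMap_eq, Cfsg.Agent.LsF.ogetD_eq]; exact rfl) | exact rfl⟩
theorem hid_E6 : 71 < chevE6.nroots ∧
    (∀ r < chevE6.nroots, r ≠ 71 → (∀ i, 0 ≤ vec chevE6 6 r i) → chevE6.commTerms r 71 = []) ∧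
    Hi (cartanOf chevE6 6) 1 (vec chevE6 6 71) (fun _ => 1) :=
  ⟨by decide +kernel, by (refine of_decide_eq_true ?_; (try (rewrite [Cfsg.Agent.LsF.f6d6e7b_8.2, Cfsg.Agent.LsF.f6d6e7b_12.2, Cfsg.Agent.LsF.instDecEq_eq, Cfsg.Agent.LsF.idecLe_eq, Cfsg.Agent.LsF.dNot_eq, Cfsg.Agent.LsF.dBallLT_eq, Cfsg.Agent.LsF.dForallFin_eq, Cfsg.Agent.LsF.decide_eq])); decide +kernel),
    ⟨by decide +kernel, by decide +kernel, by decide +kernel, by decide +kernel, by decide +kernel⟩⟩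

private noncomputable def _root_.Cfsg.Agent.LsF.f6d6e7b_13 : {f // @Cfsg.Lie.ChevalleyDatum.simple = f} := ⟨_, by first | (delta Cfsg.Lie.ChevalleyDatum.simple; rewrite [Cfsg.Agent.LsF.agetD_eq]; exact rfl) | exact rfl⟩
private noncomputable def _root_.Cfsg.Agent.LsF.f6d6e7b_14 : {f // @Cfsg.Agent.ChevalleyStructure.CoxeterGeomTypes.cartanOf = f} := ⟨_, by first | (delta Cfsg.Agent.ChevalleyStructure.CoxeterGeomTypes.cartanOf; rewrite [Cfsg.Agent.LsF.f6d6e7b_0.2, Cfsg.Agent.LsF.f6d6e7b_13.2]; exact rfl) | exact rfl⟩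
theorem hid_E7 : 125 < chevE7.nroots ∧
    (∀ r < chevE7.nroots, r ≠ 125 → (∀ i, 0 ≤ vec chevE7 7 r i) → chevE7.commTerms r 125 = []) ∧
    Hi (cartanOf chevE7 7) 0 (vec chevE7 7 125) (fun _ => 1) :=
  ⟨by decide +kernel, by (refine of_decide_eq_true ?_; (try (rewrite [Cfsg.Agent.LsF.f6d6e7b_8.2, Cfsg.Agent.LsF.f6d6e7b_12.2, Cfsg.Agent.LsF.instDecEq_eq, Cfsg.Agent.LsF.idecLe_eq, Cfsg.Agent.LsF.dNot_eq, Cfsg.Agent.LsF.dBallLT_eq, Cfsg.Agent.LsF.dForallFin_eq, Cfsg.Agent.LsF.decide_eq])); decide +kernel),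
    ⟨by (refine of_decide_eq_true ?_; (try (rewrite [Cfsg.Agent.LsF.f6d6e7b_14.2, Cfsg.Agent.LsF.imul_pat, Cfsg.Agent.LsF.instIDecEq_eq, Cfsg.Agent.LsF.dForallFin_eq, Cfsg.Agent.LsF.decide_eq])); decide +kernel), by decide +kernel, by decide +kernel, by (refine of_decide_eq_true ?_; (try (rewrite [Cfsg.Agent.LsF.f6d6e7b_14.2, Cfsg.Agent.LsF.f6d6e7b_8.2, Cfsg.Agent.LsF.imul_pat, Cfsg.Agent.LsF.finFintype_eq, Cfsg.Agent.LsF.fsum_eq, Cfsg.Agent.LsF.iACM_eq, Cfsg.Agent.LsF.instIDecEq_eq, Cfsg.Agent.LsF.dNot_eq, Cfsg.Agent.LsF.dFinEq_eq, Cfsg.Agent.LsF.dForallFin_eq, Cfsg.Agent.LsF.decide_eq])); decide +kernel), by decide +kernel⟩⟩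

theorem hid_E8 : 239 < chevE8.nroots ∧
    (∀ r < chevE8.nroots, r ≠ 239 → (∀ i, 0 ≤ vec chevE8 8 r i) → chevE8.commTerms r 239 = []) ∧
    Hi (cartanOf chevE8 8) 7 (vec chevE8 8 239) (fun _ => 1) :=
  ⟨by decide +kernel, by (refine of_decide_eq_true ?_; (try (rewrite [Cfsg.Agent.LsF.f6d6e7b_8.2, Cfsg.Agent.LsF.f6d6e7b_12.2, Cfsg.Agent.LsF.instDecEq_eq, Cfsg.Agent.LsF.idecLe_eq, Cfsg.Agent.LsF.dNot_eq, Cfsg.Agent.LsF.dBallLT_eq, Cfsg.Agent.LsF.dForallFin_eq, Cfsg.Agent.LsF.decide_eq])); decide +kernel),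
    ⟨by (refine of_decide_eq_true ?_; (try (rewrite [Cfsg.Agent.LsF.f6d6e7b_14.2, Cfsg.Agent.LsF.imul_pat, Cfsg.Agent.LsF.instIDecEq_eq, Cfsg.Agent.LsF.dForallFin_eq, Cfsg.Agent.LsF.decide_eq])); decide +kernel), by decide +kernel, by decide +kernel, by (refine of_decide_eq_true ?_; (try (rewrite [Cfsg.Agent.LsF.f6d6e7b_14.2, Cfsg.Agent.LsF.f6d6e7b_8.2, Cfsg.Agent.LsF.imul_pat, Cfsg.Agent.LsF.finFintype_eq, Cfsg.Agent.LsF.fsum_eq, Cfsg.Agent.LsF.iACM_eq, Cfsg.Agent.LsF.instIDecEq_eq, Cfsg.Agent.LsF.dNot_eq, Cfsg.Agent.LsF.dFinEq_eq, Cfsg.Agent.LsF.dForallFin_eq, Cfsg.Agent.LsF.decide_eq])); decide +kernel), by decide +kernel⟩⟩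

/-- `Lin` for `F4(q)` -/
theorem lin_F4 : Lin ↥(chevF4.group F) (Fintype.card F) :=
  lin_split hpF4 hid_F4.1 hid_F4.2.1 hid_F4.2.2 diff_F4 ccen_F4

/-- `LinTwo` for `F4(q)` -/
theorem linTwo_F4 : LinTwo ↥(chevF4.group F) (Fintype.card F) :=
  linTwo_split hpF4 hid_F4.1 hid_F4.2.1 hid_F4.2.2 diff_F4 ccen_F4

/-- `Lin` for `E6(q)` -/
theorem lin_E6 : Lin ↥(chevE6.group F) (Fintype.card F) :=
  lin_split hpE6 hid_E6.1 hid_E6.2.1 hid_E6.2.2 diff_E6 ccen_E6

/-- `LinTwo` for `E6(q)` -/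
theorem linTwo_E6 : LinTwo ↥(chevE6.group F) (Fintype.card F) :=
  linTwo_split hpE6 hid_E6.1 hid_E6.2.1 hid_E6.2.2 diff_E6 ccen_E6

/-- `Lin` for `E7(q)` -/
theorem lin_E7 : Lin ↥(chevE7.group F) (Fintype.card F) :=
  lin_split hpE7 hid_E7.1 hid_E7.2.1 hid_E7.2.2 diff_E7 ccen_E7

/-- `LinTwo` for `E7(q)` -/
theorem linTwo_E7 : LinTwo ↥(chevE7.group F) (Fintype.card F) :=
  linTwo_split hpE7 hid_E7.1 hid_E7.2.1 hid_E7.2.2 diff_E7 ccen_E7

/-- `Lin` for `E8(q)` -/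
theorem lin_E8 : Lin ↥(chevE8.group F) (Fintype.card F) :=
  lin_split hpE8 hid_E8.1 hid_E8.2.1 hid_E8.2.2 diff_E8 ccen_E8

/-- `LinTwo` for `E8(q)` -/
theorem linTwo_E8 : LinTwo ↥(chevE8.group F) (Fintype.card F) :=
  linTwo_split hpE8 hid_E8.1 hid_E8.2.1 hid_E8.2.2 diff_E8 ccen_E8

end Cfsg.Agent.H526.PQ

private theorem dce_0b45c2490f50 : _root_.True := by
  try have : _root_.True := by simp only [_root_.Cfsg.Agent.KFacts.RgdChevCoord.hc.congr_simp]
  exact _root_.True.intro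
end

-- part: H604/PQ/FourRow
section
set_option linter.all false
open scoped Cfsg.Agent.FastGrp

/-!
# S4612: the row `F₄(q)` (helper604)

* `killTwo_F4` : the pairs `2`, `l` for `q` odd: all constituents of `1_P^G` are in the principal `2`-block;
* `es_F4` : the orders which occur;
* `row_F4` : principal blocks of `F₄(q)` for different primes are different.
-/

set_option autoImplicit false

open Cfsg Cfsg.Agent Cfsg.Agent.H317.PQ Cfsg.Agent.H996.PQ Cfsg.Agent.H996.Eight.Cert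
open Cfsg.Lie

namespace Cfsg.Agent.H604.PQ

universe u

/-- values of integral polynomials at odd numbers modulo two -/
theorem evZ_two {q : ℤ} (hq : q % 2 = 1) : ∀ L : List ℤ, (2 : ℤ) ∣ evZ q L - L.sum
  | [] => by simp [evZ]
  | a :: L => by
    have h1 := evZ_two hq L
    have h2 : evZ q (a :: L) = a + q * evZ q L := rfl
    rw [h2, List.sum_cons]
    obtain ⟨k, hk⟩ := h1
    obtain ⟨m, hm⟩ : ∃ m, q = 2 * m + 1 := ⟨q / 2, by omega⟩
    refine ⟨m * evZ q L + k, ?_⟩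
    rw [hm] at hk ⊢
    linear_combination hk

/-- **`F₄(q)`, `q` odd**: the prime `2` and odd primes of order at least three. -/
theorem killTwo_ge (K : Type u) [Field K] [Fintype K] (h2 : Fintype.card K % 2 = 1) :
    ∀ f ∈ [3, 4, 6, 8, 12], KillTwo ↥(chevF4.group K) (Fintype.card K) f := by
  intro f hf l hl hl2 hlG hfl hS
  obtain ⟨S, h0, hTp, hTl⟩ := FullF4d.sepX Nat.prime_two hl hS
  have hq : 2 ≤ Fintype.card K := Fintype.one_lt_card
  have hall : ∀ i, i ∈ S := by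
    intro i
    refine (hTp.blk 0 i fun c => ?_).1 h0
    have hqz : ((Fintype.card K : ℕ) : ℤ) % 2 = 1 := by omega
    have h1 := evZ_two hqz (FullF4d.lam 0 c)
    have h3 := evZ_two hqz (FullF4d.lam i c)
    have h4 : ∀ i c : Fin 5, (2 : ℤ) ∣ (FullF4d.lam 0 c).sum - (FullF4d.lam i c).sum := by decide +kernel
    have h5 := h4 i c
    push_cast
    omega
  have hmem : f ∈ [2, 3, 4, 6, 8, 12] := List.mem_cons_of_mem _ hf
  have hP := pat_of hq hl hl2 hfl hmem h0 hTl.toTst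
  unfold Pat at hP
  simp only [hall, not_true_eq_false, false_and, and_false, or_false] at hP

/-- the orders which occur in `F₄(q)` -/
theorem es_F4 (K : Type u) [Field K] [Fintype K] {r : ℕ} (hr : ∀ p : ℕ, p.Prime → p ∣ Fintype.card K → p = r) :
    ∀ p : ℕ, p.Prime → p ∣ Nat.card ↥(chevF4.group K) →
      p = r ∨ p ∣ Fintype.card K - 1 ∨ ord (Fintype.card K) p ∈ [2, 3, 4, 6, 8, 12] := by
  intro p hp hd
  have hq : 1 ≤ Fintype.card K := Fintype.card_pos
  rw [S1062.result rfl] at hd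
  by_cases hpq : p ∣ Fintype.card K
  · exact Or.inl (hr p hp hpq)
  right
  have hpos := ord_pos hp hpq
  have h1 : ord (Fintype.card K) p ∣ 8 ∨ ord (Fintype.card K) p ∣ 12 := by
    rcases (Nat.Prime.dvd_mul hp).1 hd with hd | hd
    · rcases (Nat.Prime.dvd_mul hp).1 hd with hd | hd
      · rcases (Nat.Prime.dvd_mul hp).1 hd with hd | hd
        · rcases (Nat.Prime.dvd_mul hp).1 hd with hd | hd
          · exact absurd (hp.dvd_of_dvd_pow hd) hpq
          · exact Or.inl (((ord_dvd hq).2 hd).trans (by norm_num))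
        · exact Or.inr (((ord_dvd hq).2 hd).trans (by norm_num))
      · exact Or.inl ((ord_dvd hq).2 hd)
    · exact Or.inr ((ord_dvd hq).2 hd)
  rw [← ord_eq_one hq]
  generalize ord (Fintype.card K) p = e at h1 hpos ⊢
  have h2 : e ≤ 12 := by
    rcases h1 with h1 | h1
    · exact (Nat.le_of_dvd (by norm_num) h1).trans (by norm_num)
    · exact Nat.le_of_dvd (by norm_num) h1
  interval_cases e <;> revert h1 <;> decide

/-- **`F₄(q)`**: the principal blocks for different primes are different. -/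
theorem row_F4 (K : Type) [Field K] [Fintype K] : Row ↥(chevF4.group K) := by
  obtain ⟨r, hc⟩ := CharP.exists K
  have hr : r.Prime := (CharP.char_is_prime_or_zero K r).resolve_right (CharP.char_ne_zero_of_finite K r)
  obtain ⟨n, -, hn⟩ := FiniteField.card K r
  have hrq : ∀ p : ℕ, p.Prime → p ∣ Fintype.card K → p = r := by
    intro p hp hd
    rw [hn] at hd
    exact (Nat.prime_dvd_prime_iff_eq hp hr).1 (hp.dvd_of_dvd_pow hd)
  have hlie : IsLieTypeChar r ↥(chevF4.group K) :=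
    Or.inr (Or.inr (Or.inr (Or.inr (Or.inr (Or.inr (Or.inl
      ⟨K, inferInstance, inferInstance, hc, Or.inr (Or.inl ⟨MulEquiv.refl _⟩)⟩))))))
  refine row_of_kill hrq (fun l hl hlr hlG => H947.PQ.row_own hr hl hlr hlie hlG) H526.PQ.lin_F4
    H526.PQ.linTwo_F4 [2, 3, 4, 6, 8, 12] (es_F4 K hrq) ?_ ?_
  · intro e he f hf hef
    rcases hef.lt_or_eq with h | h
    · exact diff_F4 K e he f hf h
    · subst h
      exact H755.PQ.tor_F4 K e he
  · intro h4 f hf
    have h2 : Fintype.card K % 2 = 1 := by omega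
    rcases List.mem_cons.1 hf with h | h
    · subst h
      exact H755.PQ.killTwo_F4 K h2
    · exact killTwo_ge K h2 f h

end Cfsg.Agent.H604.PQ
end

-- part: H766/PQ/Cls_mg
section

end

-- part: H792/PQ/RowE7c
section
prune_inst 0x302075057500020000040010420026a5f7000590002b800160e60b460e89e34080020f20ae80130200c4b2843030400811100070420000000a003400011f01a080a81600b019ac0c96008f801084010000000000000000000000000000000000004010000
set_option linter.all false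
open scoped Cfsg.Agent.FastGrp

-- part: H996/PQ/FullE7a
section
/-!
# Full certificate: `E₇`, node `6` (helper996, for S4612; made by a program)

`|G : P| = 1*q^0*P2^3*P6*P7*P10*P14*P18`, number of the long root subgroups `1*q^0*P2*P3*P6*P7*P9*P12*P14*P18` (`Pn` the cyclotomic
polynomials at `q`). Constituents (degree, `D`):
* `0`: degree `1*q^0 / 1`, `D = 0`
* `1`: degree `1*q^1*P7*P12*P14 / 1`, `D = 1*q^16*P2*P3*P6*P9*P18`
* `2`: degree `1*q^2*P3^2*P6^2*P9*P12*P18 / 1`, `D = 1*q^16*P2*P7*P8*P14`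
* `3`: degree `1*q^3*P7*P9*P14*P18 / 1`, `D = 1*q^16*P2*P3*P5*P6*P10*P12`
-/

set_option autoImplicit false
set_option maxRecDepth 20000

namespace Cfsg.Agent.H996.PQ.FullE7a

open Cfsg.Agent.H967.Sph Cfsg.Agent.H64.Dl.Sph Cfsg.Agent.H996.Eight Cfsg.Agent.H996.Eight.Cert Cfsg.Agent.H996.Eight.En

def c0 : Crt 4 := ⟨[], fun _ => [1], [], [1], 1⟩

/-- the certificates -/
def C (i : Fin 4) : Crt 4 := ([c0, TabE7a.c1, TabE7a.c2, TabE7a.c3] : List (Crt 4)).getD i c0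


/-- the polynomials -/
def pol : Pol 4 where
  N := [1, 1, 1, 1, 1, 2, 2, 2, 2, 3, 3, 3, 3, 3, 3, 3, 3, 3, 3, 2, 2, 2, 2, 1, 1, 1, 1, 1]
  dn i := (C i).dn
  den i := (C i).den
  D i := ([[], (let yq1 : List ℤ := (let yq2 : List ℤ := (let yq3 : List ℤ := %[1, 1, 1, 1, 1 | []];
  %[1, 1, 1, 1 | yq3]);
  (let yq4 : type_of% yq2 := %[1, 1, 1, 1 | yq2];
  %[1, 1, 1, 1 | yq4]));
  (let yq5 : type_of% yq1 := (let yq6 : type_of% yq1 := %[0, 0, 0, 0, 1 | yq1];
  %[0, 0, 0, 0 | yq6]);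
  (let yq7 : type_of% yq5 := %[0, 0, 0, 0 | yq5];
  %[0, 0, 0, 0 | yq7]))), (let yq8 : List ℤ := (let yq9 : List ℤ := (let yq10 : List ℤ := %[2, 1, 1, 1, 1 | []];
  %[2, 2, 2, 2 | yq10]);
  (let yq11 : type_of% yq9 := %[2, 2, 2, 2 | yq9];
  %[1, 1, 1, 2 | yq11]));
  (let yq12 : type_of% yq8 := (let yq13 : type_of% yq8 := %[0, 0, 0, 0, 1 | yq8];
  %[0, 0, 0, 0 | yq13]);
  (let yq14 : type_of% yq12 := %[0, 0, 0, 0 | yq12];
  %[0, 0, 0, 0 | yq14]))), (let yq15 : List ℤ := (let yq16 : List ℤ := (let yq17 : List ℤ := %[2, 1, 1, 1, 1 | []];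
  %[3, 2, 2, 2 | yq17]);
  (let yq18 : type_of% yq16 := %[2, 2, 2, 3 | yq16];
  %[1, 1, 1, 2 | yq18]));
  (let yq19 : type_of% yq15 := (let yq20 : type_of% yq15 := %[0, 0, 0, 0, 1 | yq15];
  %[0, 0, 0, 0 | yq20]);
  (let yq21 : type_of% yq19 := %[0, 0, 0, 0 | yq19];
  %[0, 0, 0, 0 | yq21])))] : List (List ℤ)).getD i []
  o := 0
  nu i := (C i).nu

/-- the long roots -/
def rt : RTab 7 63 where
  V := 3873222968231703687278468810929741583741972455588405215650574477141682445634109645232793080414578078382140457859352902091769555428435338825587286911464856346009055822631901228400418115201692206499984534956441838125702133155515309457348364193267527849698834153963741964674951477010240601422731008495874235556679444799854235633039872214343780233544844633264963031644469422154680185925807065313062813427547062475836564726560506556879601674692505769316110845403252345113773268190252749750267524645637589842698024276020512899874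
  S := 262830772539133951542118485302570572268192502568423075016101281014802815484560926336030777964425719769816343674964634083764231163191436476679459619640584184383710587909692491222942435524164012072366289069702157292987401403765973845563714239623199269306911802699327953186992198403127691107964027654120999454666792819241422505086613043557037480421995280423800938761378540139727681900060777149752595936330820070610382473905677507593588709600248759903168928397688204939514523119586838938702628177241332087914949891881464003846947368472051598679963765497055049419711663403505467744507466602180424809232507897439207779600283933018190741817978874445648436339707568385738300378025285300150814798711513083427562875943157695382050105390591644564739951573029878653358263416465273984085874504479826298475271883573339639841429287115950093113963785332110937917811656333457322112732891365845224071508801616433915813043885355882462825073474510733128379770766731913693668760174371680374179801900075734708541816401724641845315274850468421487235880446818127251513580576020763770881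
  P := 7237005550492136888816159464980983237289113347922155751814053495367898764064
  Q := 32164456531457402204468303681508422296660100604734339836290737793386151936

/-- **The full certificate.** -/
def full : Full TabE7a.A 6 56 4 ![2, 2, 3, 4, 3, 2, 1] where
  Da := TabE7a.data
  C := C
  i₀ := 0
  P := pol
  hP := ⟨rfl, rfl, rfl, by decide +kernel⟩
  hN := by (simp only [Cfsg.Agent.H996.Eight.Kq.pEq_eq]; decide +kernel)
  triv := ⟨by decide +kernel, rfl, rfl⟩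
  ok := fun i => match i with
    | 0 => fun h => absurd rfl h
    | 1 => fun _ => ⟨ok1_of_ok TabE7a.ok1, TabE7a.dvd1⟩
    | 2 => fun _ => ⟨ok1_of_ok TabE7a.ok2, TabE7a.dvd2⟩
    | 3 => fun _ => ⟨ok1_of_ok TabE7a.ok3, TabE7a.dvd3⟩
  uq := fun i => match i with
    | 0 => fun h => absurd rfl h
    | 1 => fun _ => uq_of_ok TabE7a.ok1
    | 2 => fun _ => uq_of_ok TabE7a.ok2
    | 3 => fun _ => uq_of_ok TabE7a.ok3
  FF := [0, 0, 0, 0, 0, 0, 0, 0, 0, 0, 0, 0, 1, 1, 1]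
  LL := 1
  cf i := ([[0, 0, 0, 0, 0, 0, 0, 0, 0, 0, 0, 0, 1, 1, 1], [0, 0, 0, 0, 1, 0, 1, 0, 1, 0, 1, 0, 1, 0, 1, 0, 1], [1, 0, 1, -1, 1, -1, 1, -1, 1, 0, 1], [1, 0, 1, -1, 1, -1, 2, -1, 2, -1, 2, -1, 2, -1, 1, -1, 1, 0, 1]] : List (List ℤ)).getD i []
  hF := by decide +kernel
  hcf := by (simp only [Cfsg.Agent.H996.Eight.Kq.pEq_eq]; decide +kernel)
  hsum := by (simp only [Cfsg.Agent.H996.Eight.Kq.pEq_eq, Cfsg.Agent.H996.Eight.Kq.pZero_eq]; decide +kernel)
  hne := by (simp only [Cfsg.Agent.H996.Eight.Kq.pNV_eq]; decide +kernel)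
  NL := (let yq22 : List ℤ := (let yq23 : List ℤ := (let yq24 : List ℤ := %[2, 1, 1, 1, 1 | []];
  %[4, 3, 3, 2 | yq24]);
  (let yq25 : type_of% yq23 := %[6, 5, 5, 4 | yq23];
  %[7, 6, 6, 6 | yq25]));
  (let yq26 : type_of% yq22 := (let yq27 : type_of% yq22 := %[6, 6, 6, 6, 7 | yq22];
  %[4, 4, 5, 5 | yq27]);
  (let yq28 : type_of% yq26 := %[2, 2, 3, 3 | yq26];
  %[1, 1, 1, 1 | yq28])))
  nr := 63
  nz := ⟨by decide⟩
  Z := rt
  hZ := FullE7c.full.hZ
  kap n := ([0, 1] : List (Fin 4)).getD n 0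
  hkap := by decide +kernel
  VV c := ([[1, 1, 1, 1, 1, 2, 2, 2, 2, 3, 3, 3, 3, 3, 3, 3, 3, 2, 2, 1, 1, 1], [0, 0, 0, 0, 0, 0, 0, 0, 0, 0, 0, 0, 0, 0, 0, 0, 0, 1, 1, 1, 1, 1, 2, 1, 1, 1, 1, 1], [], []] : List (List ℤ)).getD c []
  hVV := by decide +kernel
  hD := by (simp only [Cfsg.Agent.H996.Eight.Kq.pEq_eq]; decide +kernel)

end Cfsg.Agent.H996.PQ.FullE7a
end

-- part: H996/PQ/FullE7b
section
/-!
# Full certificate: `E₇`, node `0` (helper996, for S4612; made by a program)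

`|G : P| = 1*q^0*P2*P3*P6*P7*P9*P12*P14*P18`, number of the long root subgroups `1*q^0*P2*P3*P6*P7*P9*P12*P14*P18` (`Pn` the cyclotomic
polynomials at `q`). Constituents (degree, `D`):
* `0`: degree `1*q^0 / 1`, `D = 0`
* `1`: degree `1*q^1*P7*P12*P14 / 1`, `D = 1*q^16*P2*P3*P6*P9*P18`
* `2`: degree `1*q^2*P3^2*P6^2*P9*P12*P18 / 1`, `D = 1*q^16*P2*P7*P8*P14`
* `3`: degree `1*q^3*P5*P7*P8*P12*P14*P18 / 2`, `D = 1*q^15*P2*P3*P6*P9*(-1 + 2*q + 1*q^3 + -1*q^4 + 1*q^7)`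
* `4`: degree `1*q^3*P2^4*P6^2*P7*P10*P14*P18 / 2`, `D = 1*q^15*P3*P4*P8*P9*P12`
-/

set_option autoImplicit false
set_option maxRecDepth 20000

namespace Cfsg.Agent.H996.PQ.FullE7b

open Cfsg.Agent.H967.Sph Cfsg.Agent.H64.Dl.Sph Cfsg.Agent.H996.Eight Cfsg.Agent.H996.Eight.Cert Cfsg.Agent.H996.Eight.En

def c0 : Crt 5 := ⟨[], fun _ => [1], [], [1], 1⟩

/-- the certificates -/
def C (i : Fin 5) : Crt 5 := ([c0, TabE7b.c1, TabE7b.c2, TabE7b.c3, TabE7b.c4] : List (Crt 5)).getD i c0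


/-- the polynomials -/
def pol : Pol 5 where
  N := (let yq29 : List ℤ := (let yq30 : List ℤ := (let yq31 : List ℤ := %[2, 1, 1, 1, 1 | []];
  %[4, 3, 3, 2 | yq31]);
  (let yq32 : type_of% yq30 := %[6, 5, 5, 4 | yq30];
  %[7, 6, 6, 6 | yq32]));
  (let yq33 : type_of% yq29 := (let yq34 : type_of% yq29 := %[6, 6, 6, 6, 7 | yq29];
  %[4, 4, 5, 5 | yq34]);
  (let yq35 : type_of% yq33 := %[2, 2, 3, 3 | yq33];
  %[1, 1, 1, 1 | yq35])))
  dn i := (C i).dn
  den i := (C i).den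
  D i := ([[], (let yq36 : List ℤ := (let yq37 : List ℤ := (let yq38 : List ℤ := %[1, 1, 1, 1, 1 | []];
  %[1, 1, 1, 1 | yq38]);
  (let yq39 : type_of% yq37 := %[1, 1, 1, 1 | yq37];
  %[1, 1, 1, 1 | yq39]));
  (let yq40 : type_of% yq36 := (let yq41 : type_of% yq36 := %[0, 0, 0, 0, 1 | yq36];
  %[0, 0, 0, 0 | yq41]);
  (let yq42 : type_of% yq40 := %[0, 0, 0, 0 | yq40];
  %[0, 0, 0, 0 | yq42]))), (let yq43 : List ℤ := (let yq44 : List ℤ := (let yq45 : List ℤ := %[2, 1, 1, 1, 1 | []];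
  %[2, 2, 2, 2 | yq45]);
  (let yq46 : type_of% yq44 := %[2, 2, 2, 2 | yq44];
  %[1, 1, 1, 2 | yq46]));
  (let yq47 : type_of% yq43 := (let yq48 : type_of% yq43 := %[0, 0, 0, 0, 1 | yq43];
  %[0, 0, 0, 0 | yq48]);
  (let yq49 : type_of% yq47 := %[0, 0, 0, 0 | yq47];
  %[0, 0, 0, 0 | yq49]))), (let yq50 : List ℤ := (let yq51 : List ℤ := (let yq52 : List ℤ := %[2, 1, 1, 1, 1 | []];
  %[3, 3, 3, 2 | yq52]);
  (let yq53 : type_of% yq51 := %[3, 3, 3, 4 | yq51];
  %[1, 1, 2, 2 | yq53]));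
  (let yq54 : type_of% yq50 := (let yq55 : type_of% yq50 := %[0, 0, 0, -1, 1 | yq50];
  %[0, 0, 0, 0 | yq55]);
  (let yq56 : type_of% yq54 := %[0, 0, 0, 0 | yq54];
  %[0, 0, 0, 0 | yq56]))), (let yq57 : List ℤ := (let yq58 : List ℤ := (let yq59 : List ℤ := %[2, 1, 1, 1, 1 | []];
  %[3, 3, 3, 2 | yq59]);
  (let yq60 : type_of% yq58 := %[3, 3, 3, 2 | yq58];
  %[1, 1, 2, 2 | yq60]));
  (let yq61 : type_of% yq57 := (let yq62 : type_of% yq57 := %[0, 0, 0, 1, 1 | yq57];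
  %[0, 0, 0, 0 | yq62]);
  (let yq63 : type_of% yq61 := %[0, 0, 0, 0 | yq61];
  %[0, 0, 0, 0 | yq63])))] : List (List ℤ)).getD i []
  o := 0
  nu i := (C i).nu

/-- the long roots -/
def rt : RTab 7 63 where
  V := 3873222968231703687278468810929741583741972455588405215650574477141682445634109645232793080414578078382140457859352902091769555428435338825587286911464856346009055822631901228400418115201692206499984534956441838125702133155515309457348364193267527849698834153963741964674951477010240601422731008495874235556679444799854235633039872214343780233544844633264963031644469422154680185925807065313062813427547062475836564726560506556879601674692505769316110845403252345113773268190252749750267524645637589842698024276020512899874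
  S := 262830772539133951542118485302570572268192502568423075016101281014802815484560926336030777964425719769816343674964634083764231163191436476679459619640584184383710587909692491222942435524164012072366289069702157292987401403765973845563714239623199269306911802699327953186992198403127691107964027654120999454666792819241422505086613043557037480421995280423800938761378540139727681900060777149752595936330820070610382473905677507593588709600248759903168928397688204939514523119586838938702628177241332087914949891881464003846947368472051598679963765497055049419711663403505467744507466602180424809232507897439207779600283933018190741817978874445648436339707568385738300378025285300150814798711513083427562875943157695382050105390591644564739951573029878653358263416465273984085874504479826298475271883573339639841429287115950093113963785332110937917811656333457322112732891365845224071508801616433915813043885355882462825073474510733128379770766731913693668760174371680374179801900075734708541816401724641845315274850468421487235880446818127251513580576020763770881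
  P := 7237005550492136888816159464980983237289113347922155751814053495367898764064
  Q := 32164456531457402204468303681508422296660100604734339836290737793386151936

/-- **The full certificate.** -/
def full : Full TabE7b.A 0 126 5 ![2, 2, 3, 4, 3, 2, 1] where
  Da := TabE7b.data
  C := C
  i₀ := 0
  P := pol
  hP := ⟨rfl, rfl, rfl, by decide +kernel⟩
  hN := by (simp only [Cfsg.Agent.H996.Eight.Kq.pEq_eq]; decide +kernel)
  triv := ⟨by decide +kernel, rfl, rfl⟩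
  ok := fun i => match i with
    | 0 => fun h => absurd rfl h
    | 1 => fun _ => ⟨ok1_of_ok TabE7b.ok1, TabE7b.dvd1⟩
    | 2 => fun _ => ⟨ok1_of_ok TabE7b.ok2, TabE7b.dvd2⟩
    | 3 => fun _ => ⟨ok1_of_ok TabE7b.ok3, TabE7b.dvd3⟩
    | 4 => fun _ => ⟨ok1_of_ok TabE7b.ok4, TabE7b.dvd4⟩
  uq := fun i => match i with
    | 0 => fun h => absurd rfl h
    | 1 => fun _ => uq_of_ok TabE7b.ok1
    | 2 => fun _ => uq_of_ok TabE7b.ok2
    | 3 => fun _ => uq_of_ok TabE7b.ok3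
    | 4 => fun _ => uq_of_ok TabE7b.ok4
  FF := [0, 0, 0, 0, 0, 0, 0, 0, 0, 0, 0, 0, 0, 0, 0, 1, 0, 1, 0, 1, 1, 1, 1, 0, 1, 0, 1]
  LL := 2
  cf i := ([[0, 0, 0, 0, 0, 0, 0, 0, 0, 0, 0, 0, 0, 0, 0, 2, 0, 2, 0, 2, 2, 2, 2, 0, 2, 0, 2], [0, 0, 0, 0, 0, 0, 0, 2, 0, 2, 0, 4, 0, 6, 0, 6, 0, 8, 0, 8, 0, 6, 0, 6, 0, 4, 0, 2, 0, 2], [0, 0, 0, 2, 0, 0, 0, 2, 0, 2, 0, 2, 0, 2, 0, 2, 0, 2, 0, 2, 0, 0, 0, 2], [1, -1, 1, -2, 4, -3, 5, -7, 8, -7, 11, -11, 12, -12, 14, -12, 14, -12, 12, -11, 11, -7, 8, -7, 5, -3, 4, -2, 1, -1, 1], [1, 0, 2, 0, 2, 1, 2, 2, 2, 3, 2, 4, 2, 4, 2, 4, 2, 4, 2, 3, 2, 2, 2, 1, 2, 0, 2, 0, 1]] : List (List ℤ)).getD i []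
  hF := by decide +kernel
  hcf := by (simp only [Cfsg.Agent.H996.Eight.Kq.pEq_eq]; decide +kernel)
  hsum := by (simp only [Cfsg.Agent.H996.Eight.Kq.pEq_eq, Cfsg.Agent.H996.Eight.Kq.pZero_eq]; decide +kernel)
  hne := by (simp only [Cfsg.Agent.H996.Eight.Kq.pNV_eq]; decide +kernel)
  NL := (let yq64 : List ℤ := (let yq65 : List ℤ := (let yq66 : List ℤ := %[2, 1, 1, 1, 1 | []];
  %[4, 3, 3, 2 | yq66]);
  (let yq67 : type_of% yq65 := %[6, 5, 5, 4 | yq65];
  %[7, 6, 6, 6 | yq67]));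
  (let yq68 : type_of% yq64 := (let yq69 : type_of% yq64 := %[6, 6, 6, 6, 7 | yq64];
  %[4, 4, 5, 5 | yq69]);
  (let yq70 : type_of% yq68 := %[2, 2, 3, 3 | yq68];
  %[1, 1, 1, 1 | yq70])))
  nr := 63
  nz := ⟨by decide⟩
  Z := rt
  hZ := FullE7c.full.hZ
  kap n := ([0, 1, 4] : List (Fin 5)).getD n 0
  hkap := by decide +kernel
  VV c := ([[1, 1, 1, 1, 2, 2, 3, 3, 4, 4, 5, 5, 6, 6, 6, 6, 7, 6, 5, 5, 4, 4, 2, 2, 1, 1], (let yq71 : List ℤ := (let yq72 : List ℤ := (let yq73 : List ℤ := %[2, 2, 1, 1, 1 | []];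
  %[3, 3, 3, 3 | yq73]);
  (let yq74 : type_of% yq72 := %[2, 2, 3, 3 | yq72];
  %[0, 1, 1, 1 | yq74]));
  (let yq75 : type_of% yq71 := (let yq76 : type_of% yq71 := %[0, 0, 0, 0 | yq71];
  %[0, 0, 0, 0 | yq76]);
  (let yq77 : type_of% yq75 := %[0, 0, 0, 0 | yq75];
  %[0, 0, 0, 0 | yq77]))), [], [], (let yq78 : List ℤ := (let yq79 : List ℤ := (let yq80 : List ℤ := %[0, 0, 0, 0, 1 | []];
  %[0, 0, 0, 0 | yq80]);
  (let yq81 : type_of% yq79 := %[0, 0, 0, 0 | yq79];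
  %[0, 0, 0, 0 | yq81]));
  (let yq82 : type_of% yq78 := (let yq83 : type_of% yq78 := %[0, 0, 0, 0, 0 | yq78];
  %[0, 0, 0, 0 | yq83]);
  (let yq84 : type_of% yq82 := %[0, 0, 0, 0 | yq82];
  %[0, 0, 0, 0 | yq84])))] : List (List ℤ)).getD c []
  hVV := by decide +kernel
  hD := by (simp only [Cfsg.Agent.H996.Eight.Kq.pEq_eq]; decide +kernel)

end Cfsg.Agent.H996.PQ.FullE7b
end

-- part: H996/PQ/RowE7
section
/-!
# The separation theorem and the polynomials: `E₇(q)`, nodes `6`, `0` (helper996, for S4612; made by a program)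
-/

set_option autoImplicit false

namespace Cfsg.Agent.H996.PQ.FullE7a

open Cfsg Cfsg.Agent.H317.PQ Cfsg.Agent.H996.Eight Cfsg.Agent.H996.Eight.Cert Cfsg.Agent.H35.ExcIdx
open Cfsg.Lie Cfsg.Agent.ChevalleyStructure.CoxeterGeomTypes Cfsg.Agent.Nodes.RGDChev

universe u

/-- the degrees: `evdn` -/
theorem deg {x : ℕ} (hx : 2 ≤ x) (i : Fin 4) : (pol.den i : ℤ) * (pol.deg x i : ℤ) = evZ x (pol.dn i) :=
  full.degZ hx i

theorem hA : cartanOf chevE7 7 = TabE7a.A := FullE7c.hA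

end Cfsg.Agent.H996.PQ.FullE7a

namespace Cfsg.Agent.H996.PQ.FullE7b

open Cfsg Cfsg.Agent.H317.PQ Cfsg.Agent.H996.Eight Cfsg.Agent.H996.Eight.Cert Cfsg.Agent.H35.ExcIdx
open Cfsg.Lie Cfsg.Agent.ChevalleyStructure.CoxeterGeomTypes Cfsg.Agent.Nodes.RGDChev

universe u

theorem evdn3 (x : ℤ) : evZ x (pol.dn 3) = x ^ 3 * (x ^ 4 + x ^ 3 + x ^ 2 + x + 1) * (x ^ 6 + x ^ 5 + x ^ 4 + x ^ 3 + x ^ 2 + x + 1) * (x ^ 4 + 1) * (x ^ 4 - x ^ 2 + 1) * (x ^ 6 - x ^ 5 + x ^ 4 - x ^ 3 + x ^ 2 - x + 1) * (x ^ 6 - x ^ 3 + 1) := by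
  show evZ x (let yq85 : List ℤ := (let yq86 : List ℤ := (let yq87 : List ℤ := %[2, 0, 1, 1, 1 | []];
  %[4, 1, 3, 1 | yq87]);
  (let yq88 : type_of% yq86 := %[6, 1, 5, 1 | yq86];
  %[6, 0, 6, 2 | yq88]));
  (let yq89 : type_of% yq85 := (let yq90 : type_of% yq85 := %[1, 5, 1, 6, 2 | yq85];
  %[1, 3, 1, 4 | yq90]);
  (let yq91 : type_of% yq89 := %[1, 1, 0, 2 | yq89];
  %[0, 0, 0, 1 | yq91]))) = _
  simp only [evZ]
  ring

/-- the degrees: `evdn` -/
theorem deg {x : ℕ} (hx : 2 ≤ x) (i : Fin 5) : (pol.den i : ℤ) * (pol.deg x i : ℤ) = evZ x (pol.dn i) :=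
  full.degZ hx i

theorem hA : cartanOf chevE7 7 = TabE7b.A := FullE7c.hA

end Cfsg.Agent.H996.PQ.FullE7b
end

-- part: H996/PQ/RowE7X
section
/-!
# The extended separation theorem: `E₇(q)`, nodes `6`, `0` (helper996, for S4612; made by a program)
-/

set_option autoImplicit false
set_option maxRecDepth 20000

namespace Cfsg.Agent.H996.PQ.FullE7a

open Cfsg Cfsg.Agent.H317.PQ Cfsg.Agent.H64.Dl.Sph Cfsg.Agent.H996.Eight Cfsg.Agent.H996.Eight.Cert Cfsg.Agent.H35.ExcIdx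
open Cfsg.Lie Cfsg.Agent.ChevalleyStructure.CoxeterGeomTypes Cfsg.Agent.Nodes.RGDChev

universe u

/-- the eigenvalues of the double cosets: row `i` (constituent), column `c` (double coset) -/
def lamL : List (List (List ℤ)) :=
  [[[1], [0, 1, 1, 1, 1, 2, 2, 2, 2, 3, 2, 2, 2, 2, 1, 1, 1, 1], [0, 0, 0, 0, 0, 0, 0, 0, 0, 0, 1, 1, 1, 1, 2, 2, 2, 2, 3, 2, 2, 2, 2, 1, 1, 1, 1], [0, 0, 0, 0, 0, 0, 0, 0, 0, 0, 0, 0, 0, 0, 0, 0, 0, 0, 0, 0, 0, 0, 0, 0, 0, 0, 0, 1]],
   [[1], [-1, 0, 0, 0, 0, 1, 1, 1, 1, 2, 1, 1, 1, 1], [0, 0, 0, 0, 0, -1, -1, -1, -1, -2, -1, -1, -1, -1, 0, 0, 0, 0, 1], [0, 0, 0, 0, 0, 0, 0, 0, 0, 0, 0, 0, 0, 0, 0, 0, 0, 0, -1]],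
   [[1], [-1, 0, 0, 0, -1, 0, 0, 0, 0, 1], [0, 0, 0, 0, 1, 0, 0, 0, 0, -1, 0, 0, 0, -1], [0, 0, 0, 0, 0, 0, 0, 0, 0, 0, 0, 0, 0, 1]],
   [[1], [-1, 0, 0, 0, -1, 0, 0, 0, -1], [0, 0, 0, 0, 1, 0, 0, 0, 1, 0, 0, 0, 1], [0, 0, 0, 0, 0, 0, 0, 0, 0, 0, 0, 0, -1]]]

/-- the eigenvalue of the double coset `c` on the constituent `i` -/
def lam (i c : Fin 4) : List ℤ := (lamL.getD i []).getD c []

theorem lam_ok : full.Lam lam := by
  show ∀ i c, pEq (pMul (lam i c) (full.P.nu i full.P.o)) (pMul (full.Da.kk c) (full.P.nu i c)) = true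
  (simp only [Cfsg.Agent.H996.Eight.Kq.pEq_eq]; decide +kernel)

/-- **The extended theorem.** -/
theorem sepX {K : Type u} [Field K] [Fintype K] {p l : ℕ} (hp : p.Prime) (hl : l.Prime)
    (hS : Same p l ↥(chevE7.group K)) : SepX pol lam (Fintype.card K) p l (Nat.card ↥(chevE7.group K)) 0 :=
  split_sepX (hpE7) K hA full lam_ok (by decide +kernel)
    H241.PQ.hi_E7 TabE7b.data (by decide +kernel) (by decide +kernel) hp hl hS

end Cfsg.Agent.H996.PQ.FullE7a

namespace Cfsg.Agent.H996.PQ.FullE7b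

open Cfsg Cfsg.Agent.H317.PQ Cfsg.Agent.H64.Dl.Sph Cfsg.Agent.H996.Eight Cfsg.Agent.H996.Eight.Cert Cfsg.Agent.H35.ExcIdx
open Cfsg.Lie Cfsg.Agent.ChevalleyStructure.CoxeterGeomTypes Cfsg.Agent.Nodes.RGDChev

universe u

/-- the eigenvalues of the double cosets: row `i` (constituent), column `c` (double coset) -/
def lamL : List (List (List ℤ)) :=
  [[[1], [0, 1, 1, 1, 2, 2, 3, 3, 3, 3, 3, 3, 2, 2, 1, 1, 1], [0, 0, 0, 0, 0, 0, 0, 0, 1, 1, 2, 2, 4, 4, 5, 5, 6, 6, 5, 5, 4, 4, 2, 2, 1, 1], (let yq92 : List ℤ := (let yq93 : List ℤ := (let yq94 : List ℤ := %[2, 2, 1, 1, 1 | []];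
  %[3, 3, 3, 3 | yq94]);
  (let yq95 : type_of% yq93 := %[2, 2, 3, 3 | yq93];
  %[0, 1, 1, 1 | yq95]));
  (let yq96 : type_of% yq92 := (let yq97 : type_of% yq92 := %[0, 0, 0, 0 | yq92];
  %[0, 0, 0, 0 | yq97]);
  (let yq98 : type_of% yq96 := %[0, 0, 0, 0 | yq96];
  %[0, 0, 0, 0 | yq98]))), (let yq99 : List ℤ := (let yq100 : List ℤ := (let yq101 : List ℤ := %[0, 0, 0, 0, 1 | []];
  %[0, 0, 0, 0 | yq101]);
  (let yq102 : type_of% yq100 := %[0, 0, 0, 0 | yq100];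
  %[0, 0, 0, 0 | yq102]));
  (let yq103 : type_of% yq99 := (let yq104 : type_of% yq99 := %[0, 0, 0, 0, 0 | yq99];
  %[0, 0, 0, 0 | yq104]);
  (let yq105 : type_of% yq103 := %[0, 0, 0, 0 | yq103];
  %[0, 0, 0, 0 | yq105])))],
   [[1], [-1, 0, 0, 0, 1, 1, 2, 2, 3, 2, 2, 2, 1, 1], [0, 0, 0, 0, -1, -1, -2, -2, -3, -2, -2, -1, 0, 1, 2, 2, 3, 2, 2, 1, 1], [0, 0, 0, 0, 0, 0, 0, 0, 0, 0, 0, -1, -1, -2, -2, -2, -3, -2, -2, -1, -1, 0, 0, 0, 1], [0, 0, 0, 0, 0, 0, 0, 0, 0, 0, 0, 0, 0, 0, 0, 0, 0, 0, 0, 0, 0, 0, 0, 0, -1]],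
   [[1], [-1, 0, 0, -1, 0, 0, 1, 1, 1, 1, 1, 1], [0, 0, 0, 1, 0, 0, -1, -1, -2, -2, -2, -2, -1, -1, 0, 0, 1], [0, 0, 0, 0, 0, 0, 0, 0, 1, 1, 1, 1, 1, 1, 0, 0, -1, 0, 0, -1], [0, 0, 0, 0, 0, 0, 0, 0, 0, 0, 0, 0, 0, 0, 0, 0, 0, 0, 0, 1]],
   [[1], [-1, 0, 0, -1, 0, -1, 0, 0, -1], [0, 0, 0, 1, 0, 1, 0, 1, 1, 0, 1, 0, 1], [0, 0, 0, 0, 0, 0, 0, -1, 0, 0, -1, 0, -1, 0, 0, -1], [0, 0, 0, 0, 0, 0, 0, 0, 0, 0, 0, 0, 0, 0, 0, 1]],
   [[1], [-1, 0, 0, -1, 0, -1, 0, 0, 1], [0, 0, 0, 1, 0, 1, 0, 1, -1, 0, -1, 0, -1], [0, 0, 0, 0, 0, 0, 0, -1, 0, 0, 1, 0, 1, 0, 0, 1], [0, 0, 0, 0, 0, 0, 0, 0, 0, 0, 0, 0, 0, 0, 0, -1]]]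

/-- the eigenvalue of the double coset `c` on the constituent `i` -/
def lam (i c : Fin 5) : List ℤ := (lamL.getD i []).getD c []

theorem lam_ok : full.Lam lam := by
  show ∀ i c, pEq (pMul (lam i c) (full.P.nu i full.P.o)) (pMul (full.Da.kk c) (full.P.nu i c)) = true
  (simp only [Cfsg.Agent.H996.Eight.Kq.pEq_eq]; decide +kernel)

/-- **The extended theorem.** -/
theorem sepX {K : Type u} [Field K] [Fintype K] {p l : ℕ} (hp : p.Prime) (hl : l.Prime)
    (hS : Same p l ↥(chevE7.group K)) : SepX pol lam (Fintype.card K) p l (Nat.card ↥(chevE7.group K)) 0 :=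
  split_sepX (hpE7) K hA full lam_ok (by decide +kernel)
    H241.PQ.hi_E7 TabE7b.data (by decide +kernel) (by decide +kernel) hp hl hS

end Cfsg.Agent.H996.PQ.FullE7b
end

-- part: H792/PQ/RowE7
section
/-!
# S4612, the row `E₇(q)`: the tests with the nodes `6` and `0` (helper792)

* `kill_AB` : `Kill G q e f` for all pairs `e < f` of orders except `(3,9)`, `(4,5)`, `(4,8)`, `(4,12)`, `(5,8)`,
  `(5,10)`, `(7,14)` (list `LC`); for `(3,5)`, `(5,9)` the constituent 3 of node `0` has defect zero for the primes of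
  order 5;
* `killTwo` : `KillTwo G q f` for `f ≥ 3`.
-/

set_option autoImplicit false
set_option maxRecDepth 20000

namespace Cfsg.Agent.H792.PQ.E7

open Cfsg Cfsg.Agent.H317.PQ Cfsg.Agent.H996.PQ Cfsg.Agent.H996.Eight.Cert Cfsg.Agent.H64.Dl.Sph Cfsg.Lie

universe u

/-- the orders -/
def es : List ℕ := [2, 3, 4, 5, 6, 7, 8, 9, 10, 12, 14, 18]

/-- the certificates for node `6` -/
def CA : ℕ → Cert 4
  | 2 => ⟨[(0, 1), (0, 2), (0, 3)], []⟩
  | 3 => ⟨[(1, 3)], [(2, [0, 1], 1)]⟩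
  | 4 => ⟨[], [(1, [1, -1], 2), (2, [1, -1], 4), (3, [1, -1], 6)]⟩
  | 5 => ⟨[], [(1, [-1, -1, 0, -1], 1), (2, [-1, -1, 0, -1], 1)]⟩
  | 6 => ⟨[(0, 1), (0, 3)], [(2, [-2, 1], 3)]⟩
  | 7 => ⟨[(0, 2)], [(1, [0, 0, 1, 0, 0, 1], 1), (3, [-1, 0, -1, 0, 0, -1], 1)]⟩
  | 8 => ⟨[], [(1, [1, -1, 1, -1], 2), (3, [1, -1, 1, -1], 2)]⟩
  | 9 => ⟨[], [(2, [0, -1, 0, 0, -1], 1), (3, [1, 0, 2, 2, 0, 1], 3)]⟩
  | 10 => ⟨[(1, 2), (0, 3)], [(1, [1, 3, -2, 1], 5), (2, [1, 3, -2, 1], 5)]⟩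
  | 12 => ⟨[], [(1, [0, 0, -1, 1], 2), (2, [0, 0, -1, 1], 1)]⟩
  | 14 => ⟨[(0, 2)], [(1, [-4, 8, -5, 2, -6, 3], 7), (3, [-1, 2, -3, 4, 2, -1], 7)]⟩
  | 18 => ⟨[(0, 1)], [(2, [4, -1, -2, -2, -1, 4], 3), (3, [-3, 2, 0, 0, 2, -3], 3)]⟩
  | _ => ⟨[], []⟩

/-- the certificates for node `0` -/
def CB : ℕ → Cert 5
  | 2 => ⟨[(0, 1), (0, 2), (0, 3)], [(4, [-1], 4)]⟩
  | 3 => ⟨[(0, 3), (1, 4)], [(2, [0, 1], 1)]⟩
  | 4 => ⟨[(2, 3)], [(1, [1, -1], 2), (2, [1, -1], 4), (3, [1, -1], 4)]⟩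
  | 5 => ⟨[], [(1, [-1, -1, 0, -1], 1), (2, [-1, -1, 0, -1], 1), (4, [1, -1, 1], 1)]⟩
  | 6 => ⟨[(0, 1), (0, 3)], [(2, [-2, 1], 3), (4, [-1], 4)]⟩
  | 7 => ⟨[(0, 2)], [(1, [0, 0, 1, 0, 0, 1], 1), (4, [-1, -1, 0, -2, 0, -2], 1)]⟩
  | 8 => ⟨[(2, 4)], [(1, [1, -1, 1, -1], 2), (3, [1, -1, -1, -1], 4)]⟩
  | 9 => ⟨[(0, 3), (1, 4)], [(2, [0, -1, 0, 0, -1], 1)]⟩
  | 10 => ⟨[(1, 2)], [(1, [1, 3, -2, 1], 5), (2, [1, 3, -2, 1], 5), (3, [3, -1, -1, -2], 5), (4, [1, 1, 1], 1)]⟩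
  | 12 => ⟨[(0, 4)], [(1, [0, 0, -1, 1], 2), (2, [0, 0, -1, 1], 1), (3, [1, 0, 0, 1], 4)]⟩
  | 14 => ⟨[(0, 2)], [(1, [-4, 8, -5, 2, -6, 3], 7), (4, [-1, 1], 1)]⟩
  | 18 => ⟨[(0, 1)], [(2, [4, -1, -2, -2, -1, 4], 3), (3, [0, 1, 0, -2, 0, 1], 6), (4, [0, 1, -2, 2, -2, 1], 2)]⟩
  | _ => ⟨[], []⟩

/-- the pairs of orders killed by node `6` -/
def LA : List (ℕ × ℕ) :=
  (let yq106 : List (ℕ × ℕ) := (let yq107 : List (ℕ × ℕ) := (let yq108 : List (ℕ × ℕ) := %[(9, 14), (10, 14), (10, 18), (12, 14), (12, 18), (14, 18) | []];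
  %[(7, 12), (7, 18), (8, 10), (8, 18), (9, 10) | yq108]);
  (let yq109 : type_of% yq107 := %[(6, 10), (6, 12), (6, 14), (6, 18), (7, 9), (7, 10) | yq107];
  %[(5, 14), (5, 18), (6, 7), (6, 8), (6, 9) | yq109]));
  (let yq110 : type_of% yq106 := (let yq111 : type_of% yq106 := %[(4, 7), (4, 10), (4, 14), (4, 18), (5, 6), (5, 7) | yq106];
  %[(3, 7), (3, 10), (3, 14), (3, 18), (4, 6) | yq111]);
  (let yq112 : type_of% yq110 := %[(2, 8), (2, 9), (2, 10), (2, 12), (2, 14), (2, 18) | yq110];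
  %[(2, 3), (2, 4), (2, 5), (2, 6), (2, 7) | yq112])))

/-- the pairs of orders killed by node `0` -/
def LB : List (ℕ × ℕ) :=
  [(3, 4), (3, 6), (3, 8), (3, 12), (4, 9), (5, 12), (7, 8), (8, 9), (8, 12), (8, 14), (9, 12), (9, 18), (10, 12)]

theorem okA : ∀ e ∈ es, (CA e).ok FullE7a.pol FullE7a.lam e = true := by (delta Cfsg.Agent.H792.PQ.Cert.ok; simp only [Cfsg.Agent.H996.Eight.Kq.chkDvd_eq, Cfsg.Agent.H996.Eight.Kq.chkR_eq]; decide +kernel)

theorem okB : ∀ e ∈ es, (CB e).ok FullE7b.pol FullE7b.lam e = true := by (delta Cfsg.Agent.H792.PQ.Cert.ok; simp only [Cfsg.Agent.H996.Eight.Kq.chkDvd_eq, Cfsg.Agent.H996.Eight.Kq.chkR_eq]; decide +kernel)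

theorem noA : ∀ x ∈ LA, ∀ S : Finset (Fin 4), 0 ∈ S → (CA x.1).Good S → (CA x.2).Good S → False :=
  fun x hx => Cfsg.Agent.H996.Eight.Kq.no_of ((by decide +kernel : ∀ x ∈ LA, Cfsg.Agent.H996.Eight.Kq.noK (CA x.1) (CA x.2) 0 = true) x hx)

theorem noB : ∀ x ∈ LB, ∀ S : Finset (Fin 5), 0 ∈ S → (CB x.1).Good S → (CB x.2).Good S → False :=
  fun x hx => Cfsg.Agent.H996.Eight.Kq.no_of ((by decide +kernel : ∀ x ∈ LB, Cfsg.Agent.H996.Eight.Kq.noK (CB x.1) (CB x.2) 0 = true) x hx)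

theorem memA : ∀ x ∈ LA, x.1 ∈ es ∧ x.2 ∈ es ∧ 2 ≤ x.1 ∧ 2 ≤ x.2 := by decide

theorem memB : ∀ x ∈ LB, x.1 ∈ es ∧ x.2 ∈ es ∧ 2 ≤ x.1 ∧ 2 ≤ x.2 := by decide

variable (F : Type u) [Field F] [Fintype F]

theorem kill_A : ∀ x ∈ LA, Kill ↥(chevE7.group F) (Fintype.card F) x.1 x.2 := fun x hx =>
  kill_of Fintype.card_pos (fun _ _ hp hl hS => FullE7a.sepX hp hl hS) (memA x hx).2.2.1 (memA x hx).2.2.2
    (okA _ (memA x hx).1) (okA _ (memA x hx).2.1) (noA x hx)

theorem kill_B : ∀ x ∈ LB, Kill ↥(chevE7.group F) (Fintype.card F) x.1 x.2 := fun x hx =>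
  kill_of Fintype.card_pos (fun _ _ hp hl hS => FullE7b.sepX hp hl hS) (memB x hx).2.2.1 (memB x hx).2.2.2
    (okB _ (memB x hx).1) (okB _ (memB x hx).2.1) (noB x hx)

/-! ### order 5: the constituent `3` of node `0` has defect zero -/

theorem fac_le {r g d c N P D : ℕ} (hr : r.Prime) (hr2 : r ≠ 2) (hd : d ≠ 0) (h1 : c * g = N * P) (h2 : ¬ r ∣ N)
    (h3 : 2 * d = P * D) : g.factorization r ≤ d.factorization r := by
  rw [← hr.pow_dvd_iff_le_factorization hd]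
  have h4 : r ^ g.factorization r ∣ N * P := h1 ▸ (Nat.ordProj_dvd g r).mul_left c
  have hc : Nat.Coprime (r ^ g.factorization r) N :=
    Nat.Coprime.pow_left _ ((Nat.Prime.coprime_iff_not_dvd hr).2 h2)
  have h5 : r ^ g.factorization r ∣ P := hc.dvd_of_dvd_mul_left h4
  have h6 : r ^ g.factorization r ∣ 2 * d := h3 ▸ h5.mul_right D
  have hc2 : Nat.Coprime (r ^ g.factorization r) 2 :=
    Nat.Coprime.pow_left _ ((Nat.coprime_primes hr Nat.prime_two).2 hr2)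
  exact hc2.dvd_of_dvd_mul_left h6

theorem not_three {r : ℕ} (hr : r.Prime) (hr2 : r ≠ 2) (he : ord (Fintype.card F) r = 5)
    (hrG : r ∣ Nat.card ↥(chevE7.group F)) {S : Finset (Fin 5)}
    (T : TstX FullE7b.pol FullE7b.lam (Fintype.card F) r (Nat.card ↥(chevE7.group F)) S) : (3 : Fin 5) ∉ S := by
  intro h3
  have h4 := T.dz 3 h3 hrG
  obtain ⟨q, hq⟩ : ∃ q, Fintype.card F = q := ⟨_, rfl⟩
  have hq2 : 2 ≤ q := by rw [← hq]; exact Fintype.one_lt_card
  have hq1 : 1 ≤ q := by omega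
  rw [hq] at h4 he
  have hcard := S1064.result hq
  have hdeg := FullE7b.deg (x := q) hq2 3
  rw [FullE7b.evdn3] at hdeg
  have hden : FullE7b.pol.den 3 = 2 := by decide +kernel
  rw [hden] at hdeg
  -- `r` divides only the factor `q ^ 10 - 1`
  have hn : ∀ n, ¬ 5 ∣ n → ¬ r ∣ q ^ n - 1 := fun n hn h => hn (by rw [← he, ord_dvd hq1]; exact h)
  have hrq : ¬ r ∣ q := by
    intro h
    have : Fact r.Prime := ⟨hr⟩
    have h0 : (q : ZMod r) = 0 := (ZMod.natCast_eq_zero_iff q r).2 h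
    rw [ord, h0] at he
    rw [orderOf_zero (ZMod r)] at he
    exact absurd he (by norm_num)
  have h5 : r ∣ q ^ 5 - 1 := by rw [← ord_dvd hq1, he]
  have hp5 : 1 ≤ q ^ 5 := Nat.one_le_pow _ _ hq1
  have h5' : ¬ r ∣ q ^ 5 + 1 := by
    intro h
    have h6 : r ∣ (q ^ 5 + 1) - (q ^ 5 - 1) := Nat.dvd_sub h h5
    have h7 : (q ^ 5 + 1) - (q ^ 5 - 1) = 2 := by omega
    rw [h7] at h6
    exact hr2 ((Nat.prime_dvd_prime_iff_eq hr Nat.prime_two).1 h6)
  have e10 : q ^ 10 - 1 = (q - 1) * (q ^ 5 + 1) * (q ^ 4 + q ^ 3 + q ^ 2 + q + 1) := by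
    obtain ⟨t, rfl⟩ : ∃ t, q = t + 1 := ⟨q - 1, by omega⟩
    have h6 : (t + 1) ^ 10 = (t + 1 - 1) * ((t + 1) ^ 5 + 1) *
        ((t + 1) ^ 4 + (t + 1) ^ 3 + (t + 1) ^ 2 + (t + 1) + 1) + 1 := by
      rw [Nat.add_sub_cancel]
      ring
    omega
  obtain ⟨N, hN⟩ : ∃ N, N = q ^ 63 * (q ^ 2 - 1) * (q ^ 6 - 1) * (q ^ 8 - 1) * ((q - 1) * (q ^ 5 + 1)) *
    (q ^ 12 - 1) * (q ^ 14 - 1) * (q ^ 18 - 1) := ⟨_, rfl⟩
  have hrN : ¬ r ∣ N := by
    rw [hN]
    have h1 := hn 1 (by norm_num)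
    rw [pow_one] at h1
    simp only [hr.dvd_mul, not_or]
    exact ⟨⟨⟨⟨⟨⟨⟨fun h => hrq (hr.dvd_of_dvd_pow h), hn 2 (by norm_num)⟩, hn 6 (by norm_num)⟩, hn 8 (by norm_num)⟩,
      h1, h5'⟩, hn 12 (by norm_num)⟩, hn 14 (by norm_num)⟩, hn 18 (by norm_num)⟩
  have h6 : Nat.gcd 2 (q - 1) * Nat.card ↥(chevE7.group F) = N * (q ^ 4 + q ^ 3 + q ^ 2 + q + 1) := by
    rw [hcard, e10, hN]
    ring
  obtain ⟨D, hD⟩ : ((q ^ 4 + q ^ 3 + q ^ 2 + q + 1 : ℕ) : ℤ) ∣ ((2 * FullE7b.pol.deg q 3 : ℕ) : ℤ) := by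
    refine ⟨(q : ℤ) ^ 3 * (q ^ 6 + q ^ 5 + q ^ 4 + q ^ 3 + q ^ 2 + q + 1) * (q ^ 4 + 1) *
      (q ^ 4 - q ^ 2 + 1) * (q ^ 6 - q ^ 5 + q ^ 4 - q ^ 3 + q ^ 2 - q + 1) * (q ^ 6 - q ^ 3 + 1), ?_⟩
    push_cast
    push_cast at hdeg
    rw [hdeg]
    ring
  have hDn : (q ^ 4 + q ^ 3 + q ^ 2 + q + 1) ∣ 2 * FullE7b.pol.deg q 3 := by
    rw [← Int.natCast_dvd_natCast]
    exact ⟨D, hD⟩
  obtain ⟨D', hD'⟩ := hDn
  have hd0 : FullE7b.pol.deg q 3 ≠ 0 := by
    intro h0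
    have h7 : (0 : ℚ) < ev (q : ℚ) (FullE7b.pol.dn 3) :=
      ev_pos (by exact_mod_cast hq2) (by decide +kernel)
    have h8 := FullE7b.deg (x := q) hq2 3
    rw [h0, Nat.cast_zero, mul_zero] at h8
    have h9 := evZ_cast (q : ℤ) (FullE7b.pol.dn 3)
    rw [← h8] at h9
    push_cast at h9
    rw [← h9] at h7
    exact lt_irrefl _ h7
  exact absurd h4 (not_lt.2 (fac_le hr hr2 hd0 h6 hrN hD'))

theorem kill_five {e : ℕ} (he : e = 3 ∨ e = 9) : Kill ↥(chevE7.group F) (Fintype.card F) e 5 := by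
  intro p l hp hl hp2 hl2 _ _ hlG h1 h2 hS
  obtain ⟨S, h0, T, T'⟩ := FullE7b.sepX hp hl hS
  refine not_three F hl hl2 h2 hlG T' ?_
  have hq : 1 ≤ Fintype.card F := Fintype.card_pos
  rcases he with rfl | rfl
  · exact ((Cert.good (okB 3 (by decide)) hq hp hp2 h1 (by norm_num) T).1 (0, 3) (by decide)).1 h0
  · exact ((Cert.good (okB 9 (by decide)) hq hp hp2 h1 (by norm_num) T).1 (0, 3) (by decide)).1 h0

/-- the pairs which are left -/
def LC : List (ℕ × ℕ) := [(3, 9), (4, 5), (4, 8), (4, 12), (5, 8), (5, 10), (7, 14)]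

/-- **All pairs but those of `LC`.** -/
theorem kill_AB : ∀ e ∈ es, ∀ f ∈ es, e < f → (e, f) ∉ LC → Kill ↥(chevE7.group F) (Fintype.card F) e f := by
  intro e he f hf hef hC
  have key : ∀ e ∈ es, ∀ f ∈ es, e < f → (e, f) ∉ LC → (e, f) ∈ LA ∨ (e, f) ∈ LB ∨ (e = 3 ∧ f = 5) ∨
      (e = 5 ∧ f = 9) := by decide
  rcases key e he f hf hef hC with h | h | ⟨rfl, rfl⟩ | ⟨rfl, rfl⟩
  · exact kill_A F _ h
  · exact kill_B F _ h
  · exact kill_five F (Or.inl rfl)
  · exact (kill_five F (Or.inr rfl)).symm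

/-! ### the prime 2 -/

theorem twoA : ∀ f ∈ es, f ≠ 2 → ∃ i : Fin 4, FullE7a.pol.den i = 1 ∧ evZ 1 (FullE7a.pol.dn i) % 2 = 1 ∧
    i ∈ (CA f).out.map Prod.fst := by decide +kernel

theorem killTwo (h : Fintype.card F % 2 = 1) : ∀ f ∈ es, f ≠ 2 →
    KillTwo ↥(chevE7.group F) (Fintype.card F) f := by
  intro f hf hf2
  obtain ⟨i, h1, h2, h3⟩ := twoA f hf hf2
  have hf' : 2 ≤ f := (by decide : ∀ f ∈ es, 2 ≤ f) f hf
  exact killTwo_of Fintype.card_pos h (fun _ _ hp hl hS => FullE7a.sepX hp hl hS) hf' (okA f hf) i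
    (FullE7a.deg Fintype.one_lt_card i) h1 h2 h3

end Cfsg.Agent.H792.PQ.E7
end

-- part: H792/PQ/AsmE7
section
/-!
# S4612, the row `E₇(q)`: assembly (helper792)

* `row_of` : the row, from the seven pairs of orders of `LC`.
-/

set_option autoImplicit false

namespace Cfsg.Agent.H792.PQ.E7

open Cfsg Cfsg.Agent.H317.PQ Cfsg.Lie

theorem isLie {F : Type} [Field F] [Fintype F] (r : ℕ) [hpc : CharP F r] : IsLieTypeChar r ↥(chevE7.group F) :=
  Or.inr (Or.inr (Or.inr (Or.inr (Or.inr (Or.inr (Or.inl ⟨F, inferInstance, inferInstance, hpc,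
    Or.inr (Or.inr (Or.inr (Or.inl ⟨MulEquiv.refl _⟩)))⟩))))))

/-- the orders of `q` modulo the primes dividing the order of `E₇(q)` -/
theorem hes {F : Type} [Field F] [Fintype F] {r q : ℕ} (hq : Fintype.card F = q)
    (hrq : ∀ p : ℕ, p.Prime → p ∣ q → p = r) (p : ℕ) (hp : p.Prime) (h : p ∣ Nat.card ↥(chevE7.group F)) :
    p = r ∨ p ∣ q - 1 ∨ ord q p ∈ es := by
  have hq1 : 1 ≤ q := by rw [← hq]; exact Fintype.card_pos
  have h1 : p ∣ Nat.gcd 2 (q - 1) * Nat.card ↥(chevE7.group F) := h.mul_left _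
  rw [S1064.result hq] at h1
  simp only [hp.dvd_mul] at h1
  have key : ∀ n, n ∈ [2, 6, 8, 10, 12, 14, 18] → p ∣ q ^ n - 1 → p = r ∨ p ∣ q - 1 ∨ ord q p ∈ es := by
    intro n hn h2
    right
    rw [← ord_dvd hq1] at h2
    rw [← ord_eq_one hq1]
    have h3 : ∀ n ∈ [2, 6, 8, 10, 12, 14, 18], ∀ d ∈ n.divisors, d = 1 ∨ d ∈ es := by decide
    refine h3 n hn _ (Nat.mem_divisors.2 ⟨h2, ?_⟩)
    rintro rfl
    simp at hn
  rcases h1 with ((((((h1 | h1) | h1) | h1) | h1) | h1) | h1) | h1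
  · exact Or.inl (hrq p hp (hp.dvd_of_dvd_pow h1))
  all_goals exact key _ (by simp) h1

/-- **The row `E₇(q)`**, from the pairs of `LC` -/
theorem row_of (F : Type) [Field F] [Fintype F]
    (hC : ∀ x ∈ LC, Kill ↥(chevE7.group F) (Fintype.card F) x.1 x.2) : Row ↥(chevE7.group F) := by
  classical
  have hfin : Finite ↥(chevE7.group F) := Nat.finite_of_card_ne_zero (by
    intro h0
    have h1 := S1064.result (F := F) rfl
    rw [h0, mul_zero] at h1
    have hq : 2 ≤ Fintype.card F := Fintype.one_lt_card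
    have h2 : ∀ n, n ≠ 0 → Fintype.card F ^ n - 1 ≠ 0 := fun n hn => by
      have := Nat.one_lt_pow hn hq
      omega
    have h3 : Fintype.card F ^ 63 ≠ 0 := pow_ne_zero _ (by omega)
    exact (mul_ne_zero (mul_ne_zero (mul_ne_zero (mul_ne_zero (mul_ne_zero (mul_ne_zero (mul_ne_zero h3
      (h2 2 (by norm_num))) (h2 6 (by norm_num))) (h2 8 (by norm_num))) (h2 10 (by norm_num))) (h2 12 (by norm_num)))
      (h2 14 (by norm_num))) (h2 18 (by norm_num))) h1.symm)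
  obtain ⟨r, hr⟩ := CharP.exists F
  have hrp : r.Prime := CharP.char_is_prime F r
  obtain ⟨q, hq⟩ : ∃ q, Fintype.card F = q := ⟨_, rfl⟩
  have hrq : ∀ p : ℕ, p.Prime → p ∣ q → p = r := by
    intro p hp h
    obtain ⟨n, -, hn⟩ := FiniteField.card F r
    rw [← hq, hn] at h
    exact (Nat.prime_dvd_prime_iff_eq hp hrp).1 (hp.dvd_of_dvd_pow h)
  have hlin := H526.PQ.lin_E7 (F := F)
  have hlin2 := H526.PQ.linTwo_E7 (F := F)
  rw [hq] at hlin hlin2
  refine row_of_kill (r := r) (q := q) hrq ?_ hlin hlin2 es (hes hq hrq) ?_ ?_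
  · intro l hl hlr hlG
    exact H947.PQ.row_own hrp hl hlr (isLie r) hlG
  · intro e he f hf hef
    rcases hef.eq_or_lt with rfl | hlt
    · have h1 := H755.PQ.tor_E7 F e he
      rwa [hq] at h1
    · by_cases hx : (e, f) ∈ LC
      · have h1 := hC _ hx
        rwa [hq] at h1
      · have h1 := kill_AB F e he f hf hlt hx
        rwa [hq] at h1
  · intro h3 f hf
    by_cases hf2 : f = 2
    · subst hf2
      have h1 := H755.PQ.killTwo_E7 F (by rw [hq]; exact h3)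
      rwa [hq] at h1
    · have h1 := killTwo F (by omega) f hf hf2
      rwa [hq] at h1

end Cfsg.Agent.H792.PQ.E7
end

-- part: H792/PQ/RowE7c
section
/-!
# S4612, the row `E₇(q)`: the tests with the node `1` (helper792)

* `kill_C` : `Kill G q e f` for the pairs `(4,5)`, `(4,8)`, `(4,12)`, `(7,14)`;
* `kill_five_eight` : `Kill G q 5 8` (the constituent `9` has defect zero for the primes of order 5);
* `row_of_left` : the row from the two pairs `(3, 9)` and `(5, 10)`.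
-/

set_option autoImplicit false
set_option maxRecDepth 20000

namespace Cfsg.Agent.H792.PQ.E7

open Cfsg Cfsg.Agent.H317.PQ Cfsg.Agent.H996.PQ Cfsg.Agent.H996.Eight.Cert Cfsg.Agent.H64.Dl.Sph Cfsg.Lie

universe u

/-- the certificates for node `1` -/
def CC : ℕ → Cert 10
  | 4 => ⟨[(2, 4), (0, 5), (1, 6), (3, 7), (3, 8), (0, 9)], [(1, [1, -1], 2), (2, [1, -1], 4), (3, [1, -1], 6), (4, [1, -1], 4), (6, [1, -1], 2), (7, [1, -1], 6), (8, [1, -1], 6)]⟩
  | 5 => ⟨[(5, 8)], [(1, [-1, -1, 0, -1], 1), (2, [-1, -1, 0, -1], 1), (5, [1, -1, 1], 1), (7, [3, 1, 1, 3], 1), (8, [1, -1, 1], 1)]⟩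
  | 7 => ⟨[(2, 7)], [(1, [0, 0, 1, 0, 0, 1], 1), (3, [-1, 0, -1, 0, 0, -1], 1), (5, [-1, -1, 0, -2, 0, -2], 1), (8, [0, 1, 0, 1, 1, 1], 2)]⟩
  | 8 => ⟨[(2, 5), (1, 7), (3, 8), (0, 9)], [(1, [1, -1, 1, -1], 2), (3, [1, -1, 1, -1], 2), (4, [1, -1, -1, -1], 4), (7, [1, -1, 1, -1], 2), (8, [1, -1, 1, -1], 2)]⟩
  | 12 => ⟨[(0, 5), (3, 7)], [(1, [0, 0, -1, 1], 2), (2, [0, 0, -1, 1], 1), (4, [1, 0, 0, 1], 4), (6, [3, -2, -2, 3], 4), (8, [-2, 2, 1, -1], 3), (9, [-2, 2, 1, -1], 6)]⟩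
  | 14 => ⟨[(0, 2)], [(1, [-4, 8, -5, 2, -6, 3], 7), (3, [-1, 2, -3, 4, 2, -1], 7), (5, [-1, 1], 1), (6, [-1, 5, -5, 1, 0, 2], 14), (7, [-1, 1, -1, 1], 2), (8, [-8, 9, -10, 11, -5, -1], 14)]⟩
  | _ => ⟨[], []⟩

/-- the pairs of orders killed by node `1` -/
def LD : List (ℕ × ℕ) := [(4, 5), (4, 8), (4, 12), (7, 14)]

/-- the orders -/
def esC : List ℕ := [4, 5, 7, 8, 12, 14]

theorem okC : ∀ e ∈ esC, (CC e).ok FullE7c.pol FullE7c.lam e = true := by (delta Cfsg.Agent.H792.PQ.Cert.ok; simp only [Cfsg.Agent.H996.Eight.Kq.chkDvd_eq, Cfsg.Agent.H996.Eight.Kq.chkR_eq]; decide +kernel)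

theorem noC : ∀ x ∈ LD, ∀ S : Finset (Fin 10), 0 ∈ S → (CC x.1).Good S → (CC x.2).Good S → False := by
  intro x hx S h0 h1 h2
  have hx' : x = (4, 5) ∨ x = (4, 8) ∨ x = (4, 12) ∨ x = (7, 14) := by simpa [LD] using hx
  rcases hx' with rfl | rfl | rfl | rfl
  · have a : (5 : Fin 10) ∈ S := (h1.1 (0, 5) (by decide)).1 h0
    exact h2.2 (5, [1, -1, 1], 1) (by decide) a
  · have a : (5 : Fin 10) ∈ S := (h1.1 (0, 5) (by decide)).1 h0
    have b : (2 : Fin 10) ∈ S := (h2.1 (2, 5) (by decide)).2 a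
    exact h1.2 (2, [1, -1], 4) (by decide) b
  · have a : (9 : Fin 10) ∈ S := (h1.1 (0, 9) (by decide)).1 h0
    exact h2.2 (9, [-2, 2, 1, -1], 6) (by decide) a
  · have a : (2 : Fin 10) ∈ S := (h2.1 (0, 2) (by decide)).1 h0
    have b : (7 : Fin 10) ∈ S := (h1.1 (2, 7) (by decide)).1 a
    exact h2.2 (7, [-1, 1, -1, 1], 2) (by decide) b

theorem memC : ∀ x ∈ LD, x.1 ∈ esC ∧ x.2 ∈ esC ∧ 2 ≤ x.1 ∧ 2 ≤ x.2 := by decide

variable (F : Type u) [Field F] [Fintype F]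

theorem kill_C : ∀ x ∈ LD, Kill ↥(chevE7.group F) (Fintype.card F) x.1 x.2 := fun x hx =>
  kill_of Fintype.card_pos (fun _ _ hp hl hS => FullE7c.sepX hp hl hS) (memC x hx).2.2.1 (memC x hx).2.2.2
    (okC _ (memC x hx).1) (okC _ (memC x hx).2.1) (noC x hx)

/-! ### order 5: the constituent `9` of node `1` has defect zero -/

theorem not_nine {r : ℕ} (hr : r.Prime) (hr2 : r ≠ 2) (he : ord (Fintype.card F) r = 5)
    (hrG : r ∣ Nat.card ↥(chevE7.group F)) {S : Finset (Fin 10)}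
    (T : TstX FullE7c.pol FullE7c.lam (Fintype.card F) r (Nat.card ↥(chevE7.group F)) S) : (9 : Fin 10) ∉ S := by
  intro h3
  have h4 := T.dz 9 h3 hrG
  obtain ⟨q, hq⟩ : ∃ q, Fintype.card F = q := ⟨_, rfl⟩
  have hq2 : 2 ≤ q := by rw [← hq]; exact Fintype.one_lt_card
  have hq1 : 1 ≤ q := by omega
  rw [hq] at h4 he
  have hcard := S1064.result hq
  have hdeg := FullE7c.deg (x := q) hq2 9
  rw [FullE7c.evdn9] at hdeg
  have hden : FullE7c.pol.den 9 = 1 := by decide +kernel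
  rw [hden] at hdeg
  -- `r` divides only the factor `q ^ 10 - 1`
  have hn : ∀ n, ¬ 5 ∣ n → ¬ r ∣ q ^ n - 1 := fun n hn h => hn (by rw [← he, ord_dvd hq1]; exact h)
  have hrq : ¬ r ∣ q := by
    intro h
    have : Fact r.Prime := ⟨hr⟩
    have h0 : (q : ZMod r) = 0 := (ZMod.natCast_eq_zero_iff q r).2 h
    rw [ord, h0] at he
    rw [orderOf_zero (ZMod r)] at he
    exact absurd he (by norm_num)
  have h5 : r ∣ q ^ 5 - 1 := by rw [← ord_dvd hq1, he]
  have hp5 : 1 ≤ q ^ 5 := Nat.one_le_pow _ _ hq1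
  have h5' : ¬ r ∣ q ^ 5 + 1 := by
    intro h
    have h6 : r ∣ (q ^ 5 + 1) - (q ^ 5 - 1) := Nat.dvd_sub h h5
    have h7 : (q ^ 5 + 1) - (q ^ 5 - 1) = 2 := by omega
    rw [h7] at h6
    exact hr2 ((Nat.prime_dvd_prime_iff_eq hr Nat.prime_two).1 h6)
  have e10 : q ^ 10 - 1 = (q - 1) * (q ^ 5 + 1) * (q ^ 4 + q ^ 3 + q ^ 2 + q + 1) := by
    obtain ⟨t, rfl⟩ : ∃ t, q = t + 1 := ⟨q - 1, by omega⟩
    have h6 : (t + 1) ^ 10 = (t + 1 - 1) * ((t + 1) ^ 5 + 1) *
        ((t + 1) ^ 4 + (t + 1) ^ 3 + (t + 1) ^ 2 + (t + 1) + 1) + 1 := by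
      rw [Nat.add_sub_cancel]
      ring
    omega
  obtain ⟨N, hN⟩ : ∃ N, N = q ^ 63 * (q ^ 2 - 1) * (q ^ 6 - 1) * (q ^ 8 - 1) * ((q - 1) * (q ^ 5 + 1)) *
    (q ^ 12 - 1) * (q ^ 14 - 1) * (q ^ 18 - 1) := ⟨_, rfl⟩
  have hrN : ¬ r ∣ N := by
    rw [hN]
    have h1 := hn 1 (by norm_num)
    rw [pow_one] at h1
    simp only [hr.dvd_mul, not_or]
    exact ⟨⟨⟨⟨⟨⟨⟨fun h => hrq (hr.dvd_of_dvd_pow h), hn 2 (by norm_num)⟩, hn 6 (by norm_num)⟩, hn 8 (by norm_num)⟩,
      h1, h5'⟩, hn 12 (by norm_num)⟩, hn 14 (by norm_num)⟩, hn 18 (by norm_num)⟩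
  have h6 : Nat.gcd 2 (q - 1) * Nat.card ↥(chevE7.group F) = N * (q ^ 4 + q ^ 3 + q ^ 2 + q + 1) := by
    rw [hcard, e10, hN]
    ring
  obtain ⟨D, hD⟩ : ((q ^ 4 + q ^ 3 + q ^ 2 + q + 1 : ℕ) : ℤ) ∣ ((2 * FullE7c.pol.deg q 9 : ℕ) : ℤ) := by
    refine ⟨2 * ((q : ℤ) ^ 6 * (q ^ 6 + q ^ 5 + q ^ 4 + q ^ 3 + q ^ 2 + q + 1) * (q ^ 6 + q ^ 3 + 1) *
      (q ^ 4 - q ^ 3 + q ^ 2 - q + 1) * (q ^ 4 - q ^ 2 + 1) *
      (q ^ 6 - q ^ 5 + q ^ 4 - q ^ 3 + q ^ 2 - q + 1) * (q ^ 6 - q ^ 3 + 1)), ?_⟩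
    push_cast
    push_cast at hdeg
    rw [one_mul] at hdeg
    rw [hdeg]
    ring
  have hDn : (q ^ 4 + q ^ 3 + q ^ 2 + q + 1) ∣ 2 * FullE7c.pol.deg q 9 := by
    rw [← Int.natCast_dvd_natCast]
    exact ⟨D, hD⟩
  obtain ⟨D', hD'⟩ := hDn
  have hd0 : FullE7c.pol.deg q 9 ≠ 0 := by
    intro h0
    have h7 : (0 : ℚ) < ev (q : ℚ) (FullE7c.pol.dn 9) :=
      ev_pos (by exact_mod_cast hq2) (by decide +kernel)
    have h8 := FullE7c.deg (x := q) hq2 9
    rw [h0, Nat.cast_zero, mul_zero] at h8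
    have h9 := evZ_cast (q : ℤ) (FullE7c.pol.dn 9)
    rw [← h8] at h9
    push_cast at h9
    rw [← h9] at h7
    exact lt_irrefl _ h7
  exact absurd h4 (not_lt.2 (fac_le hr hr2 hd0 h6 hrN hD'))

theorem kill_five_eight : Kill ↥(chevE7.group F) (Fintype.card F) 5 8 := by
  intro p l hp hl hp2 hl2 _ hpG _ h1 h2 hS
  obtain ⟨S, h0, T, T'⟩ := FullE7c.sepX hp hl hS
  have hq : 1 ≤ Fintype.card F := Fintype.card_pos
  exact not_nine F hp hp2 h1 hpG T
    (((Cert.good (okC 8 (by decide)) hq hl hl2 h2 (by norm_num) T').1 (0, 9) (by decide)).1 h0)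

/-- the pairs which are left -/
def LE : List (ℕ × ℕ) := [(3, 9), (5, 10)]

/-- **All pairs of `LC` but `(3, 9)` and `(5, 10)`.** -/
theorem kill_LC (h : ∀ x ∈ LE, Kill ↥(chevE7.group F) (Fintype.card F) x.1 x.2) :
    ∀ x ∈ LC, Kill ↥(chevE7.group F) (Fintype.card F) x.1 x.2 := by
  intro x hx
  have key : ∀ x ∈ LC, x ∈ LE ∨ x ∈ LD ∨ x = (5, 8) := by decide
  rcases key x hx with h1 | h1 | rfl
  · exact h x h1
  · exact kill_C F x h1
  · exact kill_five_eight F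

/-- **The row `E₇(q)` from the pairs `(3, 9)` and `(5, 10)`.** -/
theorem row_of_left (F : Type) [Field F] [Fintype F] (h39 : Kill ↥(chevE7.group F) (Fintype.card F) 3 9)
    (h510 : Kill ↥(chevE7.group F) (Fintype.card F) 5 10) : Row ↥(chevE7.group F) := by
  refine row_of F (kill_LC F fun x hx => ?_)
  have hx' : x = (3, 9) ∨ x = (5, 10) := by simpa [LE] using hx
  rcases hx' with rfl | rfl
  · exact h39
  · exact h510

end Cfsg.Agent.H792.PQ.E7
end

private theorem dce_e1c1180e1298 : _root_.True := by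
  try have : _root_.True := by simp only [_root_.Cfsg.Agent.H792.PQ.E7.LD.eq_1]
  try have : _root_.True := by simp only [_root_.Cfsg.Agent.H792.PQ.E7.LE.eq_1]
  exact _root_.True.intro
end

-- part: H792/PQ/RowE7d
section
prune_inst 0x100005014500020000040000400022853300040000430000002600040088ca400002060100200012000080000030000000100060400000000a00040000050120808006002001a00c86008f801084010000000000000000000000000000000000004010000
set_option linter.all false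
open scoped Cfsg.Agent.FastGrp
private noncomputable def lq260c0d98e3 {T : Sort _} (f :
    type_of% (@_root_.List.cons.{0}) →
    type_of% (@_root_.List.nil.{0}) →
    type_of% (@_root_.Nat.add) →
    type_of% (@_root_.Nat.shiftLeft) →
    type_of% (@_root_.Prod.mk.{0, 0}) →
    ((List (List Int)) → (List (List Int))) →
    type_of% (@_root_.Cfsg.Agent.H996.Eight.Cert.pMul) →
    type_of% (@_root_.Cfsg.Agent.H64.Dl.Sph.pEq) → T) : T :=
  f (@_root_.List.cons.{0}) (@_root_.List.nil.{0}) (@_root_.Nat.add) (@_root_.Nat.shiftLeft) (@_root_.Prod.mk.{0, 0}) (fun x => x) (@_root_.Cfsg.Agent.H996.Eight.Cert.pMul) (@_root_.Cfsg.Agent.H64.Dl.Sph.pEq)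

-- part: H632/PQ/TabE7f
section
/-!
# The large table of the spherical machine: `E₇`, node `5` (for S4612; made by helper996's program)

756 states, 13 classes.
-/

set_option autoImplicit false
set_option maxRecDepth 20000

namespace Cfsg.Agent.H632.PQ.TabE7f

open Cfsg.Agent.H967.Sph Cfsg.Agent.H64.Dl.Sph Cfsg.Agent.H996.Eight.Cert Cfsg.Agent.H996.PQ.Big

/-- the Cartan matrix -/
def A (i k : Fin 7) : ℤ := (beta% delta% lq260c0d98e3 fun a b _ _ _ g _ _ =>
 (((a (a 2<|a 0<|a (-1)<|a 0<|a 0<|a 0<|a 0<|b)<|a (a 0<|a 2<|a 0<|a (-1)<|a 0<|a 0<|a 0<|b)<|a (a (-1)<|a 0<|a 2<|a (-1)<|a 0<|a 0<|a 0<|b)<|a (a 0<|a (-1)<|a (-1)<|a 2<|a (-1)<|a 0<|a 0<|b)<|a (a 0<|a 0<|a 0<|a (-1)<|a 2<|a (-1)<|a 0<|b)<|a (a 0<|a 0<|a 0<|a 0<|a (-1)<|a 2<|a (-1)<|b)<|a (a 0<|a 0<|a 0<|a 0<|a 0<|a (-1)<|a 2<|b)<|b) :type_of% (g _)).getD i b).getD k 0)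

/-- the exponents of the parameters -/
def e (i : Fin 7) : ℕ := ([1, 1, 1, 1, 1, 1, 1] : List ℕ).getD i 0

/-- the encoded table -/
def B : Bg 7 756 13 where
  V := (by refine (?fq1 : ((beta% delta% lq260c0d98e3 fun _ _ d e _ _ _ _ =>
 d (d (d (nat_lit 0x78899700813778889900b1f7788898003116a88887003106a887890061c6a887880030f6a879880061b6a879870061a6a878890030e6a798780061a6a79877006196a79779006186a789780030d6a78898006196a78897006186a78799006176a77998006166a698880030d69988780061969988770061869987790061769979780030c69978980061869978970061769977990061669969980061669898680030b69897880061769897870061669896890030a698898700616698898600309698888900a22698888700615698878a00a216988789006156987a8700614698798900a2069879880061569878a800615697a77800614697997700613697987900a1f697987800614697979800613697899700612697889900a1e69788980061568a788800614689977800613689897700612689887900a1e689887800613689879800612689799700611689789900a1d689789800611688988700610688978900a1c68897880060f688898800a1b688898700a1a6888889)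 (e (d (nat_lit 0x40f78899760040f78897970040e788977a00b2778897780040e78896990081a78896980040e7888a770081a7888a760040e78889960040d788897900b26788897700819788887a00b2578888790040d788879a00b2678887980040d7887a97008197887a960040c788799900b25788799700818788789a00b24788789900818787a8680040d787a78800819787a78700818787a6890040c78799870081878799860040b787988900b24787988700817787978a00b237879789008177878a8700816787898900b2278789880081778788a80040e77a88780081a77a88770081977a87790081877a79780040d77a78980081977a78970081877a77990081777a69980081777998680040c77997880081877997870081777996890040b77989870081777989860040a779888900b23779888700816779878a00b227798789008167797a8700815779798900b2177979880081677978a800816778a77800815778997700814778987900b207789878008157789798008147) (e (nat_lit 0x98779a004107986a980081c7986a970081b798699900412797a86700411797a7690081d797a76800412797a6880041079799680081c79799670010379798880081c79798860081b79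798690081b797968a004117978a860041179788a700410797888a00b2979788880041079787a90081c79787a80081a7977a880040f79779a80081b79779a70081a79778a90040f796a8780081b796a8770081a796a7790081979699780040e79698980081a79698970081979697990081879689980041378a87780041278a79770041178a78790081d78a78780041278a77980041178a69970041078a68990081c78a68980041178998670041078997690081c78997680041178996880040f78989680081b78989670010278988880081b78988860081a78988690081a789868a004107897a860041078978a70040f789788a00b2878978880040f78977a90081b78977a8008197896a880040e78969a80081a78969a70081978968a900410788a7770040f788a6790081b788a678) (nat_lit 3000))) (nat_lit 3000))) (e (d (nat_lit 0x4177a88779004167a879780010b7a87898004177a87897004167a87799004157a86998004157a798680010a7a79788004167a79787004157a79689001097a78987004157a78986001087a78889008217a78887004147a7878a008207a78789004147a77a87004137a779890081f7a77988004147a778a8004147a6a778004137a69977004127a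698790081e7a69878004137a69798004127a68997004117a688990081d7a6889800414799886800109799878800415799878700414799868900108799798700414799798600107799788900820799788700413799778a0081f7997789004137996a870041279969890081e79969880041379968a80010779898770041379898760010679897790081f798977700412798967a0081e79896790010579889780081e79889760010679888970041279888960010579887990081e79887970081d798877a00411798869a0081d7988699004117987a780081d7987a770010479879980081d79879960081c79879790081c7) (e (d (nat_lit 0x7989780091f87989760020787988970051387988960020687987990091f87987970091e879877a00512879869a0091e8798699005128797a780091e8797a770020587979980091e87979960091d87979790091d879779a005118796a980091d8796a970091c879699900513878a86700512878a7690091e878a76800713878a6880051187899680091d87899670020487898880091d87898860091c87898690091c878968a007128788a860051287888a700711878888a00c2a87888880051187887a90091d87887a80091b8787a880051087879a80091c87879a70091b87878a900510877a8780091c877a8770091b877a7790091a87799780050f87798980091b87798970091a87797990091987789980051286a88870051186a87890091d86a87880051086a79880091c86a79870091b86a78890050f86998780091b86998770091a86997790091986989780050e86988980091a86988970091986987990091886979980091786898880010c7a88878004187a88877)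 (e (nat_lit 0x2088887a88009218887a860020988879a70051588879a60020888878a90092188878a700920888788a0051488877aa0092088877a9005148886aa70051388869a90091f88869a800209887a87700515887a87600208887a77900921887a77700514887a67a00920887a6790020788799780092088799760020888798970051488798960020788797990092088797970091f887977a00513887969a0091f8879699005138878a780091f8878a770020688789980091f88789960091e88789790091e887879a005128877a980091e8877a970091d887799900513886a88700512886a7890091e886a7880051188699880091d88699870091c88698890071587a88680020a87a87880051687a87870051587a86890020987a79870051587a79860020887a78890092187a78870051487a778a0092087a77890051487a6a870051387a69890091f87a69880071487a68a800208879987700514879987600207879977900920879977700513879967a0091f8799679002068) (nat_lit 3000))) (nat_lit 3000))) (nat_lit 9000))) (e (d (d (nat_lit 0x97789900716896a8680020b896a78800517896a78700516896a6890020a89699870051689699860020989698890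0922896988700515896978a009218969789005158968a870051489689890092089689880071589688a80020e88a78870020d88a77890051988a77880020c88a69880051888a69870051788a68890020d88997770020c88996790051888996780020c88989760020c88987970020b889877a0092488987780020b88986990051788986980020b8897a77005178897a760020b88979960020a889797900923889797700516889787a0092288978790020a889779a0092388977980020a8896a97005168896a9600209889699900922889699700515889689a0092188968990020b888a76800517888a76700516888a6690020a88899670051688899660020a888988600209888986900922888986700515888976a00921888976900209888968a009228889688005158888a670051488889690092088889680020a88887a80051688887a70051588886a9) (e (d (nat_lit 0x51c8a78878002118a78798002108a779970020f8a778990051b8a778980020f8a698870020e8a697890051a8a697880020d8a68988005198a68987005188a688890021189987780021089979770020f89978790051b89978780021089977980020f89969970020e89968990051a89968980020f89898670020e898976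90051a89897680020f89896880020d898896800519898896700000898888800719898888600518898886900718898868a0020e8987a860020e89878a70020d898788a0092689878880020d89877a90051989877a8007178986a880020c89869a80051889869a70051789868a90020e897a7770020d897a67900519897a6780020d89799760020d89797970020c897977a0092589797780020c89796990051889796980020c8978a77005188978a760020c89789960020b897897900924897897700517897887a0092389788790020b897879a0092489787980020b8977a97005178977a960020a897799900923897799700516897789a009228) (e (nat_lit 0x788a77008199788a760040d97889960040c978897900b25978897700818978887a00b2497888790040c978879a00b2597887980040c9787a97008189787a960040b978799900b24978799700817978789a00b23978789900817977a8680040c977a78800818977a78700817977a6890040b97799870081797799860040a977988900b23977988700816977978a00b229779789008169778a8700815977898900b2197789880081697788a80040d96a88780081996a88770081896a87790081796a79780040c96a78980081896a78970081796a77990081696a69980081696998680040b96997880081796997870081696996890040a969898700816969898600409969888900b22969888700815969878a00b219698789008159697a8700814969798900b2096979880081596978a800815968a77800814968997700813968987900b1f968987800814968979800813968899700812968889900b1e9688898002138a87888002128a79778002118a78977002108a78879)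 (nat_lit 3000))) (nat_lit 3000))) (e (d (d (nat_lit 0x411987a6880040f98799680081b98799670010298798880081b98798860081a98798690081a987968a004109878a860041098788a70040f987888a00b2898788880040f98787a90081b98787a8008199877a880040e98779a80081a98779a70081998778a90040e986a8780081a986a87700819986a7790081898699780040d98698980081998698970081898697990081798689980041297a87780041197a79770041097a78790081c97a78780041197a77980041097a69970040f97a68990081b97a68980041097998670040f97997690081b97997680041097996880040e97989680081a97989670010197988880081a979888600819979886900819979868a0040f9797a860040f97978a70040e979788a00b2797978880040e97977a90081a97977a8008189796a880040d97969a80081997969a70081897968a90040f978a7770040e978a6790081a978a6780040e97899760040e97897970040d978977a00b2697897780040d97896990081997896980040d9) (e (nat_lit 0x97986800109997978800415997978700414997968900108997898700414997898600107997888900820997888700413997878a0081f9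978789004139977a870041299779890081e99779880041399778a800413996a7780041299699770041199698790081d99698780041299697980041199689970041099688990081c99688980041398988680010898987880041498987870041398986890010798979870041398979860010698978890081f989788700412989778a0081e9897789004129896a870041198969890081d98969880041298968a80010698898770041298898760010598897790081e988977700411988967a0081d98896790010498889780081d98889760010598888970041198888960010498887990081d98887970081c988877a00410988869a0081c9888699004109887a780081c9887a770010398879980081c98879960081b98879790081b988779a0040f9886a980081b9886a970081a988699900411987a86700410987a7690081c987a768) (nat_lit 3000))) (e (d (nat_lit 0x30da87987800619a87987700618a87977900617a8789780030ca87889800618a87889700617a87879900616a87799800615a8698880030ca79887800618a79887700617a79877900616a7979780030ba79789800617a79789700616a79779900615a79699800615a7898680030aa78978800616a78978700615a78968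900309a78898700615a78898600308a78888900a21a78888700614a78878a00a20a78878900614a787a8700613a78798900a1fa78798800614a7878a800614a77a77800613a77997700612a77987900a1ea77987800613a77979800612a77899700611a77889900a1da77889800614a6a788800613a69977800612a69897700611a69887900a1da69887800612a69879800611a69799700610a69789900a1ca69789800610a6898870060fa68978900a1ba6897880060ea68898800a1aa68898700a19a6888890010b99888780041799888770041699887790041599879780010a9987898004169987897004159987799004149986998004149) (e (nat_lit 0x310a8888870030fa8887890061ba8887880030ea8879880061aa88798700619a887889) (nat_lit 3000))) (nat_lit 6000))) (nat_lit 9000))) (nat_lit 18000)) :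
 ℕ)) = ?xq1 → Nat) ?hq1; (case hq1 => (conv => lhs; whnf)); intro _; exact OfNat.ofNat ?xq1 : Nat)
  S := (by refine (?fq2 : ((beta% delta% lq260c0d98e3 fun _ _ d e _ _ _ _ =>
 d (d (d (d (nat_lit 0x15c330a8290982bb84560c8240a8250a6e01543108c280b028b7c540c02209c2b09ade14c2f084250a827b74520b81609829096dc144240a42405c24b6c5008c280802308eda13c2209c1f08821b644e084260682108ad813420080230801eb5c4c07c1f0881f072d612c1e0781e07820b544a0741d0741d06ed41241c070190701fb4c4806c1b0601b076d211c1a0542106819b4446064140701906ad01141804c1b06018b3c4405c1205c2405ece10c0d0941504816b34420301a05811052cc1040b0641404015b2c400281804c0f04eca0fc0905c1105812b243e0201104815042c80f4070401005011b1c3c0180f03c1303ec60382d0340e0380eb140d0580e03009036c4030150300d0200bb0c0b0500b02c07032c2028130280a0180ab0409048090200d026c0020110140903007afc070400401c0b022be0180f00c0602806af4050140801405012bc0100401c0201005aec0300c060040300eba008020080400802ae4010040100c01002b8000000000000001)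 (e (nat_lit 0x27c50154591561009c9e13c541605383c262744e148571520e0949c10c53158528342419c56144441460c08c661544d1405082c22194541304f13a0a0846414c471384f8242018c4d1404d12e0807c621304f1304981c1e1844b12c4b13606074601284a128488141c17c49118491320406c5e120451204a80c1a174421384711a020645c10449118478041816c40120451160005c5a0fc44144447fc1610c521083f10dfe0544211c430f8417f414104461043d109fc04c40114400f0407ec120fc440f8430fdfa0443e0f83f1083d7e4100f43d0f4410f9f803c3c0f03c1003cbcd0a0ec3b0ec3b0eaf24243a0e8380e83bbc5080e4390dc390e6f041c380d43a0e038bbd060dc340e4370daee414360cc360d837bb5040b0380d4310d6ec40c2b0dc340c033bad020a8360c82f0d2ea404290c8330b832ba5000a0310c4350c6e83fc270c0300d02fb9cfe0982f0b8330c2e63f4250b42f0c82eb94fc0382e0b42d0b6e4164350b02c0a02cb8c580d02b0ac270aae2) (nat_lit 3000))) (e (d (nat_lit 0x1908022c818ec7f1fc961f07b1fa3a1f87e254761e07f8e47d1f4941d4771f6381f07c2247f1d07a8dc7b1ec881d07f1e2361e87a21c731bc7c8d4791e4861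c86e1e6341e0782146d1f87b8cc771dc841b07d1de321d8761d87e1b4738c4751d4751f46c1c6301d0741d07b1f06f8bc731cc731e86b1da2e1c8721c8791a8708b4711c4711c4691d62c1c0701c0701a0728ac6f1bc6f1ac7a1d22a1b86e1b86a1e46e8a46d1b4631e0761ae281b06c188771d46989c6b1ac611bc731b6261a86a1806e1c868894691a45f1a4711b2241a068178681c06a88c671448319c5a19e221985020863198668846513c8118865192201904e2005d1906587c631346d198631861e1884c1b0651885f8746112c6b1846118e1c1804a1a8601805e86c5f124691705f18a1a178481a05b178608645d11c5d1905d17218170461705f1705d85c5b1145b1785b16e16168441685a19c5a8542c28c5916455166140aca2160581505784c2a2845715853162120a4a0144571485684428) (e (nat_lit 0x2acab2b666464862a8aa2a8aa99518214a9298b62b26445c842a0a52d4a898d1620ca02b8a729e624548227ca92cca6985142049e2a0b22926044c80274a42bca597d12164ba28c9f28e5e444582e4a2278a19751015cb82809d28a5c43c5629ca1270a096d0e154a627ca327e5a434542949e2889d9650c14ca4270a127a5842c522709d2809c95c9b3949b2689726e56268e424c9b258999549938c922649526a54260e2244982509894c97384902589b25e52258e01fc97268959449537c7e2549925a50250de1f4942609493c932dc9a24c8824a4e248b62648f21493934912d498238842464c240b425c892409092c8f2cc8f2488223e4a238b2238912048b9248d2c48d2348d23648230b02308c2308a91c8b2bc8b22c8023a46228ae228832288c914892b47c2408921e44220ac1ec8824c8590c872ac7a21c8722642218aa1e48621886904852a4782089222240210a81dc81244848fc8329c672288320e3e208a61988523c828f481294652108e2023c200a4)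 (nat_lit 3000))) (nat_lit 6000))) (e (d (d (nat_lit 0x358d4a45443accb348d53629050cea328d1350d6a3d423a4b7368d334a8e504e82d8d5348d3a354039cb5350d13468c4fce62d0d0374d0a2d3e33cd933cc73368a4f4ce360ce318cba253c334d7324c533e884eccc358c8310caa1d3a32cd5300c233a864e4ca350bf304cca1538324c9334be326844dcc8320cc2f4c3a0d3631cc731ccf316824d4c6318c6338c2a0534314c52f8cd31e804ccc4310bd330c19fd3230cc32f0bb3227e4c4c2308ba32cc69f530304c12e4ca3127c4bcc02cccb2e8c09ed2e2fcb2328b92f27a4b4be2c4c5324be9e52c2f4b0310c82ee784acbc2bcc32e0bf9dd2a2ecae2e0c32f6764a4ba28cc2300ba9d5282e4a2304bf2e27449cb8284bb2f0b99cd2624cd32dcac2da7249492348b32a4b79c524244d12c8a82d67048c90340ad2d0b49bd2223cc02d8a62ce6e4848e2fcb5294af9b520234be2c4b12c66c47c8c2f4b02c0ae9ad1e22cbc2bca42ca6a4748a2eca72b8b09a51c224ad2d0ad2ae6846c882b0ac2dca999d1a21cab) (e (nat_lit 0x405000c50e40100411003fc30434ff3fd033f8fe0bd0c3f8fd408ff3f42e42cfc3f9013f4fc0b4fc3f4fc3f0fcade153ecfb3ecf73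eeb6850fa3e8fa3d8f9ad6133e4f93e0f53eab4848f83ccf93d0f8ace113dcf23dcfb3deb2840f63c4f63e8f5ac60f3d4f03d0f93dab0838f4394f53e0f4abe0d374f83cce63ceae830dc3dcef3c8f2ab60b36cf63b8f13c2ac828da3d4e93c0f1aae09364ef3c8ef3b6aa820d83b8f13b8ebaa60735ced3b4ed3bea8818d63b0ec3b0eaa9e05354eb3a0eb3baa6810d43a8e73a8eca960334ce43c0e93a2a4808d238ceb3a0e9a8e01344e23a8e739ea2800d0384e63cce6a85ff26cf4390e1396a07f89a3a4e5380e3a7dfd264e838cdf3929e7f09839ce2378e2a75fb25ce6380e53869c7e896380e1390dfa6df9254df37ce33829a7e094378de388dea654c3ccdd374d03769852cf2370d9370dca5d4a3c4db360db36a96524f0368d3368dba55483bccf370d935e9451cee338db360d5a4d463b4cd35cd736692514ec330d6) (nat_lit 3000))) (e (d (nat_lit 0x4acbc55d1e4c9274b92a2ed56475274c92c4a4ba555124c52f4a5282e554445304b92749cb854d104a92b4a1262dd265092646d25494b64954148918499242d5245012145d2448cb448d3f4712348d222cd224bd2545522484b24852e49114479202c5204b5204812047cb047d2c47d1f4751e2bd1e4ad1e44d2147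4ae4752a4591d47d1c2b51c471234711a46cac46d1b46d264611a2ad1a4691a4691c464aa4651946519465182a518461154951b45ca845d174512445d1629d1643d1d45916454a64550e461224551429514435174851344ca444d0c44d1e4511228d044a51243912444a240d284450d441102850249d0f4311143ca0405164410b43d0e27d004550e4490e4349e3fd14435114310c274fe44d0b4410d42c9c3f50b4310f42d0a0ed524290a429094243a5450941d09429080e550421064210841c3853d044250741d060dd4e40d0841905414365350241505419040d51241d044010440c344450640cff409020cd10415013f9034043243d01408fd) (e (d (nat_lit 0x5592a5595357958555554a54f5755b55554551285395c5695354d5349d4d55957551525490a5b55254951545514256c53d5154950541085ad4e5415053d4f41d555454f53d4e53906551505394d5354d415535354d5394c375b45314c4fd4c52cdc6cd4b5214b52d4a36db25294752949524da6c5495094952948365b04f94b5214651cd86bd3d529475114635dae4f14651948514d66b53b5154550d44355ac4e9415114750cd46ad39501435154234daa4994950941504d26a5255114150940345a849143501404fcd069d234fd4c4fd3e33d6a5213e4d93c4f4ce5a5474f5354e93c33568519384d13e4eccc59d454dd334e53a32d665112f4c53d4e4ca595434b9304ed38325644e13c4b5384dcc858d374ed2c4c93631d624d9364f9344d4c6585354d53d4c534315604d12d4f1364ccc457d334b13b4c13230d5e4c92b4a9374c4c2575314a53a4d5303055c4c1284e5334bcc056d224e9294bd2e2fd5a485394a12b4b4be565204d1384b52c2f55847d334dd2a)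 (e (nat_lit 0x60593605715fd80601806497b5bd845fd7f5fd915e96e6057e5f97e641765f9835f57d5f58f5d57d5f57c5f17c5f1865b57b5ed7b5ed7b6016c5f17a5e97a5e97f5ad7a5e5795e5795d1885e5785e1785e17361d775dd775dd775b5865e1765d9765917e5d9765d5755d5635f5755c1745d17458979615725cd735cd615e1845bd725c97258172609745c5715c55f5c5815b9705c170579705c1755bd6f5bd5d5b1805cd6e5b96e5716b5fd715b56d5b5525dd7c5b16c5b16c5456f5ed6d5ad6b5ad505b97a5ad6a5a93e6396a589685a5694f58d5a561599685a13c631645816a59d674ed8b58d5f595665993a6295b57569595654e5895695c59d64591385d9685656458d634dd7559d5857962589365d1625a960585614d5735856957560581345c9595a16257d5f4cd71561675715e579325c157559635755d4c56f555665855c571305b9545955f56d5b4bd5b5995556d5a5692e5696555157565594b55958164565585612c5615f58d5655d574ad575795356956) (nat_lit 3000))) (nat_lit 3000))) (nat_lit 6000))) (nat_lit 12000))) (e (d (d (d (nat_lit 0x6d9a96b1af6ae1a50db56a1ab6b5aa865426a9b16a9a96a618505a96b1a96a9a885d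406a1ab6a1a869e164fda769db469da6699ee681a6699a5695a57b59f68da5699a4691ec679a2691a468da37ad88695a368da2689ea61da4689a1685a17a586685a1689a0681cc6999d6719f67d9f72da565d996819e679ca691966619e6759d7259d6819566d9c671c8671956819966d9b71d9b651906759a669c66699363d9a66599715996399f67198661c46618d6799865d9770d8567d8e65196659c26119e6359265595705836719d64194651c06099b6319764d936fd816698b64592649be6019262996645916f57f6458964d90641bc5f98c66d9563d8f6ed7d62d9a63d8e639ba5a99965d8c6358d6e569661966298c631b85a1906518e62d8b6dd6763d936258a629b65998a6498d625896d5656259162d886218868d855e58861d8761da26117861986619866857c5dd876158561597621746098461184659875cd8060d8360d9560d835f98260982651825c98560581) (e (nat_lit 0x741d7765d6915d6725dd759d475644755c8755e0749d490dd471dd4751d674e4274dc674dd374dd2905d2715cf77dd574640745c4739de745d08fdd06d1d7741d073e3e73db3749dc73dce8f5ce6c9d176dcd7363c735b1735d8739cc8eda078dc9721cb72e3a67de270dc5731ca8e59e785c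2711ca72638675d6731c171dc88dd9c755c1731c571e3666dd4701bc725c68d59a74dbf6edc671634665d26e9cb721c48cd98745b9729c470e3265dc372dba701c28c596709ca6e5be70630655c1721c96f1c08bd94701c76e1c36fe2e64dbf719b76f5be8b5926f9be6d9c26f62c645bd6f5b56fdbc8ad906f1b871dc16ee2a63dbb6ddc66edba8a58e6c1c570db86e628635af711c26d9b889d8c6b9bc701ba6de2662dad6edbf6d5b68958a6b1b66f9b96d624625ab6d5bd6ddb488d4c741b469db46ce2252dcf6c1b36cdb28854a739af6c9b16c620525cd6a9b16c9b087d486e9b36c1ae6be1e51db96c9af6b1ae875466e1ae6b9b06b61c515b76b5ad6adac86d44) (nat_lit 3000))) (e (d (nat_lit 0x80a03114e785dfc812018044439a167ee008360010ce57fe0e7f9fb7fc42391fe80dff7e9fd104e37f6027f5f97f840389fc805fc7e1fc0fce17ee007e9ff7ec3e381fa7e9fb7f9f90f4df7e5f97e5fd7e83c379f87e1f87f1f87dec67ddf67ddf77ddf6b15e87ddf57c9f67d6c479df57d9f17d1f4b0de67d1f47c1f57cec2795f37cdef7cdf2b05e47c9f17d9f27c6c078dee7c9f57c1f0afde27b5f07d1f17bebe785ec7bdf37bdeeaf5a67c5ee7b9ed7b6bc695f07aded7b9ecaeda47bdea7b1ec7aeba68deb7b5eb7adeaae5a27a9ec7a9e97a6b8685e97a5e97a9e895df67a1e7791e879e567d5e07a1e3799e6955f477de6789e7796547cdde795e1795e494df2775e37a1e478e527c5cc791e7789e2945f072de2799e3786507bdca785e5785e093de079de0755df77e4e77de6771d2781de935de795db745de7764c775e4759dd775dc92ddc771df73ddc76e4a76ddb779ce761da925da769da769da76648765d9765d975dd891dd8761d8735db75e4675dd7)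 (e (nat_lit 0x8c4706f62c8b22c8922e1bdbc8ae2b89e368c06e6ee2a8aa268d62a1b5ba8a61f8d23289c6c6e62887a338c6251adb889e1d8ae2f8a46a6de268722a8ba241a5b68961b8962d8a0686d62486a248b22619db48363f88e1688c666ce0c8fa1f88a22195b282e3d87a21880646c60a8f2198822118db08262988a1f874626be088a22187a1b185ae81e278761d87c606b60689a1c8721a17dac816258621b8785e6ae048921786a1c175aa80e19882198605c6a6028621b8621916da88061786a1785c5a69e0085a1688e16164fb97e1585611854583ea5e852148421315cf99761384a0f850563e25c8361383a12154f796e0c84615844543da5a82e108520f14cf59660a83a13840523d2587fe0f84a0e144f388e1283600834503ca22846098320c13cf1886108220b8284e3c22083e0382a0b134ef87e098320981c4c3ba1e8220b8220512ced8760781e078244a3b21c81a0681a04124eb86e0580a05820483aa1a812018120611ce9865fe82a03808463a2187f605) (nat_lit 3000))) (nat_lit 6000))) (e (d (d (nat_lit 0x26de8a865795a5395c9a79ea093e5794a55265e6a7e4e95651958987969e936549425425de4a764c94a5794c9678e9c8ee5395a512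55e2a6e3a94655948947869a8e6509525024de09ce5693e449389277e729564b9064f245de9c65492a40934907767094e459324c23ddc9be4b93a3e92c8e76e6e92a4d8f647235da9b649926499248c7666c922489224622dd89ae4791e3c9288a75e6a91a3f91a48225d69a6389324590c88756688de4493e4121dd499e3690e439148674e668d64290a42215d2996348fa4e91084746648ce3d9364020dd098e2391a3f8fc8273e6288a4192e3e205ce986219024a8f080736608823c91e3d1fdcc8ee528e2378e87e72e3a946328d23b1f5ca8e6508c6338e47c726389163b8c2361edc88de448c23b8d07a71e3690e2f8ae381e5c68d6428ba2a8d47871634906298ea371ddc48ce408a2398cc7670e328ca3a8a62f1d5c28c6318e6288b474706308c2378e22b1cdc08be2f8da278c8726fe2e8ba3589a2c1c5be8b62d8b625) (e (nat_lit 0xa0a82a0a82a2a7e31681a06819ea89a0cc4a0280a0279a227d30e7f9fe7f9e277a10c29fa7e9fa76a1e823067d9f67d9d686a00c09f27c9be879da7c2fe7b9ee6ea1a759e0be9ea7a9b681a167a2f6799e66ca02849dcbc9e2789ae7f9d27b2ee779de6a9d27f9e4ba9da7697e7e9f2762e6759d65e9f67b9d0b89d274976779e2752de7393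e8f9ce689c8b69ca4ea3a6f996732d6719368d9ba649c4b49c24ca32699c2702ce6f92e7c9ca629bcb29ba4a9ee719866b2c66d9267a9b66d9b4b09b2489e66c9b26a2be6b91e789ae609b8ae9aa469de639aa6c2b669916699c26999cac9a2449a2689ce652ae6790e6799e679a4aa99a4299a6699a662a6659066598a729a0a899240992619c66429e638fe5c9aa6398ca698a3e96e659be62296618f65a9926e980a49823c966609ae6128e5f8567697e5b97ca297a149d65e96a5d2865d84e7497259978a09721298e5d9625c27e5b8466296e5f96c9e96a109865a97a592765983e609625d9689c9620e9625997258) (nat_lit 3000))) (e (d (nat_lit 0xa5eb2aaaadab0f0b6696ac6a5ab2ad3bed8a56ababaabaa4eeb5e94aaaadaaaa73b6d6a4ea9aa6a9aacecb5692aa2a8aa2a63aed4a46a7a92a7aa8eab4e90a9aa3a9aa83a6d2a3ea0ab2a5a90e8b468ea7ea7a92a539ed0a369ea9aa3a8ce6b3e8ca76a2abea2396ce95eb0a829da84e4b3656a96a1a729f38ecc956a4a7e9ba80e2b2e54a8e9ea6a9e386ca94ea2a72a1a74e0b2652a729da829b37ec89469ba6e9fa70deb1e50a6a9aa7a9a37699abe99a668ca64dca62aea6295a629836e97ab697a5297a58daa5aaca5a8fa5a9736695aae8ba6295a4cd8a52aaa2a97a529135e93aa689a4e93a54d6a4aa8a2292a4a9035691a9e87a3a91a50d4a42a6a1a8da429234e8fa9673a5a8fa38d2a3aa49ca91a3a8f3468da8e71a428da34d0a32a29c28ca668c33e8ba2e95a2e83a24cea2a8aa528aa0a8733689a2693a1681a2ccca2288a4a84a028632e87a1e919f27ea28caa1a86a427b9f68832685a1685a267aa14c8a1284a12889e67f31e83a0e83a0e8ba04c6)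 (e (d (nat_lit 0xb62dbb62d607eaab5ed7b6ad7b501eaa6d6b5ad6b5ad8076a8b56d5b56d5b4c1ca9ed4b52d1b52d706ea6b4ed3b42d3b541aa96d2b36d9b4ad1066a4b46ccb52d1b4818a8ed0b2ed3b42d005ea2b3ecab3edcb3c16a86c5b76cdb2ace056a0b12d2b3ac9b3014a7ec3b46ccb22cd04e9eb0ad0b2ec7b2c12a76c1b3ec9b3aca0469cb02c9b2acdb2010a6ebfb22c8b32c903e9aafac7b1ecbb1c0e7dee5b16c6b1ac6035f6b3ac6b12c1b140c7d6cdb12c5b02c302df4b32c3b0ebfb100a7cecbb0ac2afac2025f2b2ac1b02c5b04087c6c9af6c1b12bf01df0b22bcafec3b00067bec7aeebeb0abe015eeaf6c0af6bdaf0047b6bcafebaaf2bd00decaeebeae6bbaec027aebaaeabcaeaba005eaae6b9aeeb9ae0007a6b8ae2b8ae2b93eee4adeb7adeb3adcfab8eb6adab6acab53e6e2ad6b5ad2b1ad8f8b86b4abeb5ac2b43dee0aceaeaceb7accf6b7eb2ab6b2adab13d6deac6acac2b5ac8f4b76b0a86b1ad2b03cedca66b4abea2abcf2b6e98aceababaae3c6da) (e (nat_lit 0xeef3bcef3bcef3bc83abcaf2bcaf0bcaf30e6f1bc6f1bbef1bc438bc2f0bb6f2bc2f00deefbbeecbc6efbb836bbaeebaeeebbaef0d6edb92f0bb6e9bb434bb2e3bbeecba2eb0ceebb8aeebaae7bb032baae1baaebb9aea0c6e9b82e9ba6edba430ba2dfba2e8bb2e70bee7b7ae7b9aebba02eb9addb96e7baae60b6e5b1ae6b96e5b942cadeedb92e4b82e40aeb6bb2e3b8edfb882aad6ebb8ae1b7ae30a6b4baadcb8addb8428acee9b6ee0b92e009eb2ba2dab7ee3b7826ac6e7b66ddb8adf096b0b9aceb7ae1b7424abedcb86dcb3edc08eaeb6ee0b62dbb6c22ab6dab7ed7b6ad9086acb66deb4ad9b6820aaed8)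 (nat_lit 3000))) (nat_lit 3000))) (nat_lit 6000))) (nat_lit 12000))) (nat_lit 27000)) :
 ℕ)) = ?xq2 → Nat) ?hq2; (case hq2 => (conv => lhs; whnf)); intro _; exact OfNat.ofNat ?xq2 : Nat)
  w := 10
  R := 0x1197e2b83f1f946aba40207b5920925da
  o := 474
  cK k := ([34, 49, 66, 96, 75, 52, 27] : List ℤ).getD k 0

theorem hS0 : B.cSa 0 2 256 1 = true := by decide +kernel

theorem hC0 : B.cCa 0 = true := by decide +kernel

theorem hS1 : B.cSa 1 32 4096 1 = true := by decide +kernel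

theorem hC1 : B.cCa 1 = true := by decide +kernel

theorem hS2 : B.cSa 2 512 4097 1 = true := by decide +kernel

theorem hC2 : B.cCa 2 = true := by decide +kernel

theorem hS3 : B.cSa 3 8192 65808 1 = true := by decide +kernel

theorem hC3 : B.cCa 3 = true := by decide +kernel

theorem hS4 : B.cSa 4 131072 1052672 1 = true := by decide +kernel

theorem hC4 : B.cCa 4 = true := by decide +kernel

theorem hS5 : B.cSa 5 2097152 16842752 1 = true := by decide +kernel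

theorem hS6 : B.cSa 6 33554432 1048576 1 = true := by decide +kernel

theorem hC6 : B.cCa 6 = true := by decide +kernel

theorem hD : B.cD = true := by decide +kernel

theorem hI : B.cI = true := by decide +kernel

theorem hR : B.cR = true := by decide +kernel

theorem hQ : B.cQ 5 = true := by decide +kernel

theorem okB : B.Ok A 5 e where
  hA := by decide +kernel
  hc := by decide +kernel
  ho := by decide +kernel
  hv := by decide +kernel
  hw := by decide +kernel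
  hS i := match i with
    | 0 => ⟨_, _, by decide +kernel, by decide +kernel, hS0⟩
    | 1 => ⟨_, _, by decide +kernel, by decide +kernel, hS1⟩
    | 2 => ⟨_, _, by decide +kernel, by decide +kernel, hS2⟩
    | 3 => ⟨_, _, by decide +kernel, by decide +kernel, hS3⟩
    | 4 => ⟨_, _, by decide +kernel, by decide +kernel, hS4⟩
    | 5 => ⟨_, _, by decide +kernel, by decide +kernel, hS5⟩
    | 6 => ⟨_, _, by decide +kernel, by decide +kernel, hS6⟩
  hC i := match i with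
    | 0 => fun _ => hC0
    | 1 => fun _ => hC1
    | 2 => fun _ => hC2
    | 3 => fun _ => hC3
    | 4 => fun _ => hC4
    | 5 => fun h => absurd rfl h
    | 6 => fun _ => hC6
  hD := hD
  hI := hI
  hR := hR
  hQ := hQ

theorem hA2 : ∀ i, A i i = 2 := by decide +kernel

/-- the sums over the states -/
def Z : ℕ := (by refine (?fq3 : ((beta% delta% lq260c0d98e3 fun _ _ d e _ _ _ _ =>
 d (d (d (d (d (nat_lit 0x100000000000000000000000000000000000000000000000000000000000000000000000000000000000000000000000000000000000000000000000000000000000000000000000000000000000000000000000000000000000000000000000000000000000000000000000) (e (d (nat_lit 0x0) (e (nat_lit 0x0) (nat_lit 3000))) (nat_lit 3000))) (e (d (nat_lit 0x10000000000000000000000000000000000000000000000000000000000000000000000000000000000000000000000000000000000000000000000000000000000000000000000000000000000000000000000000000000000000000000000000000000000000000000000000000000000000000000000000000000000000000000000000000000000000000000000000000000000000000000000000000000000000000000000000000000000000000000000000000000000000000000000000000000000000000000000000000000000000000000000000000000000000000000000000000000000000000000000000000000000000000000000000000000000000000000000000000000000000000000000000000000000000000000000000000000000000000000000000000000000000000000000000000000000000000000000000000000)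 (e (d (nat_lit 0x10040100401000000000000000000000000000000000000000000000000000000000000000000000000000000000000000000000000000000000000000000000000000000000000000000000000000000000000000000000000000000000000000000000000000000000000000401004010040000000000000000000000000000000000000000000000000000000000000000000000000000000000000000000000000000000000000000000000000000000000000000000000000000000000000000000000000000000000000000000000000000000000000000040100802008010040000000000000000000000000000000000000000000000000000000000000000000000000000000000000000000000000000000000000000000000000000000000000000000000000000000000000000000000000000000000000000000000000000000001004020080200402000000000000000) (e (nat_lit 0x0) (nat_lit 3000))) (nat_lit 3000))) (nat_lit 9000))) (e (d (d (nat_lit 0x0) (e (d (nat_lit 0x40100802008010040000000000000000000000000000000000000000000000000000000000000000000000000000000000000000000000000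00000000000000000000000000000000000000000000000000000000000000000000000000000000000000000000000000000000000000000000000000000000000000000000000000000000000000000000000000000000000000000000000000000000000000000000000000000000000000000000000000000000000000000000000000000000000000000000000000000000000000000000000000000000000000000000000000000000000000000000000000000000000000000000000000000000000000000000000000000000000000000000000000000000000000000000000000000000000000000000000000000000000000000000000000000000000000000000000000000000000000000000000000000000000000000000000) (e (nat_lit 0x4020100501805010020040000000000000000000000000000000000000000000000000000000000000000000000000000000000000000000000000000000000000000000000000000000000000000000000000000000000000000000000000000000000000000000000000000000000000000000000000000000000000000000000000000000000000000000000000000000000000000000000000000000000000000000000000000000000000000000000000000000000000000000000000000000000000000000000000000000000000000000000000000000010080401406014040080100000000000000000000000000000000000)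 (nat_lit 3000))) (nat_lit 3000))) (e (d (nat_lit 0x4010080200801004000000000000000000000000000000000000000000000000000000000000000000000000000000000000000000000000000000000000000000000000000000000000000000000000000000000000000000) (e (d (nat_lit 0x0) (e (nat_lit 0x40100401004000000000000000000000000000000000000000000000000000000000000000000000000000000000000000000000000000000000000000000000000000000000000000000000000000000000000000000000000000000000000000000000000000000000000000000000000000000000000000000000000000000000000000000000000000000000000000000000000000000000000000000000000000000000000000000000000000000000000000000000000000000000000000000000000000000000000000000000000000000000000000000000000000000000000000000000000000000000000000000000) (nat_lit 3000))) (nat_lit 3000))) (nat_lit 9000))) (nat_lit 18000))) (e (d (d (d (nat_lit 0x40100401004000000000000000000000000000000000000000000000000000000000000000000000000000000000000000000000000000000000000000000000000000000000000000000000000000000000000000000000000000000000000000000000000000000000000000000000040100401004000000000000000000000000000000000000000000000000000000000000000000000000000000000000000000000000000000000000000000000000000000000000000000000000000000000000000000000000000000000000000000000000000010040100401000000000000000000000000000000000000000000000000000000000000)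 (e (d (nat_lit 0x0) (e (nat_lit 0x0) (nat_lit 3000))) (nat_lit 3000))) (e (d (nat_lit 0x4010040100400000000000000000000000000000000000000000000000000000000000000000000000000000000000000000000000000000000000000000000000000000000000000000000000000000000000000000000000000000000000000000000000000402010050180501002004000000000000000000000000000000000000000000000000000000000000000000000000000000000000000000000000000000000000000000000000000000000000000000000000000000000000000000000000000000000000000000000000000000000000001004010040100000000000000000000000000000000000000000000000000000000000000000000000000000000000000000000000000000000000000000000000000000000000000000000000000000000000000000000000000000000000000000000000000000000000000000000000000000000000000000000000000000000000000000000000000000000000) (e (d (nat_lit 0x10040100401000000000000000000000000000000000000000000000000000000000000000000000000000000000000000000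0000000000000000000000000000000000000000000000000000000000000000000000000000000000000000000000000000000000040200c040100300801000000000000000000000000000000000000000000000000000000000000000000000000000000000000000000000000000000000000000000000000000000000000000000000000000000000000000000000000000000000000000000000000000000000040200c04010030080100000000000000000000000000000000000000000000000000000000000000000000000000000000000000000000000000000000000000000000000000000000000000000000000000000000000000000000000000000000000000000000000000000001010060240a02807014020040000000000000000000000000000000000000000000000000000000000000000000) (e (nat_lit 0x1008030100400c02004000000000000000000000000000000000000000000000000000000000000000000000000000000000000000000000000000000000000000000000000000000000000000000000000000000000000000000000000000000000000000000000000) (nat_lit 3000))) (nat_lit 3000))) (nat_lit 9000))) (e (d (d (nat_lit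 0x0) (e (d (nat_lit 0x40200c0401003008010000000000000000000000000000000000000000000000000000000000000000000000000000000000000000000000000000000000000000000000000000000000000000000000000000000000000000000000000000000000000000000000000000000000000004010040100400000000000000000000000000000000000000000000000000000000000000000000000000000000000000000000000000000000000000000000000000000000000000000000000000000000000000000000000000000000000000000000000000000000000000000000000000000000000000000000000000000000000000000000000000000000000000000000000000000000000000000000000000000000000000000000000000000000000000000000000000000000000000000000000000000000000000000000000000000000000000000000000000000000000000000000000000000000000000000000000000000000000000000000000000000000) (e (nat_lit 0x80100000000000000000000000000000000000000000000000000000000000000000000000000000000000000000000000000000000000000000000000000000000000000000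00000000000000000000000000000000000000000000000000000000000000000000000000000000000000000000000000000000000000000000000000000000000000000000000000000000000000000000000000000000000000000000000000000000000000000000000000000000000000000000000000000000000000000000000000000000000000000000000000000000000000000000000000000000000000000000000000000000000000000000000000000000000000000000000000000000000000000000000000000000000000000000000000000000000000000000000000000000000000000000000000000000000000040201005018050100200400000000000000000000000000000000000000000000000000000000000000000000000000000000000000000000) (nat_lit 3000))) (nat_lit 3000))) (e (d (nat_lit 0x100401004010000000000000000000000000000000000000000000000000000000000000000000000000000000000000000000000000000000000000000000000000000000000000000000000000000000000000000000000000000000000000000000000000000000000000000000000000000000000000000000000000000000000000000000000000000000000000000000000000000000000000000000000000000000000000000000000000000000000000000000000000000000000000000000000000000000000000000000000000000000000000040200c0401003)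 (e (d (nat_lit 0x0) (e (nat_lit 0x40200c04010030080100000000000000000000000000000000000000000000000000000000000000000000000000000000000000000000000000000000000000000000000000000000000000000000000000000000000000000000000000000000000000000000000000000000000000000000000000000000000000000000000000000000000000000000000000000000000000000000000000000000000000000000000000000000000000000000000000000000000000000000000000000000000000000000000000000000000000000000000000000000000000401008020080100400000000000000000000000000000000000000000000000000000000000000000000000000000000000000000000) (nat_lit 3000))) (nat_lit 3000))) (nat_lit 9000))) (nat_lit 18000))) (nat_lit 36000))) (e (d (d (d (d (nat_lit 0x40200c0401003008010000000000000000000000000000000000000000000000000000000000000000000000000000000000000000000000000000000000000000000000000000000000000000000000000000000000000000000000000000000000000000000000000000000000000000000000000000000000000000000000000000000000000000000000000000000000000000000000000000000000000000000000000000000000000000000000000000000000000000000000000000000000000000000000000000000000000000000000040100802008010080100802008010040000000000000000000000000000000000000000000000000000000000000000000000000000000000000000000000000)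 (e (d (nat_lit 0x10040200802004010000000000) (e (nat_lit 0x0) (nat_lit 3000))) (nat_lit 3000))) (e (d (nat_lit 0x100401004010000000000000000000000000000000000000000000000000000000000000000000000000000000000000000000000000000000000000000000000000000000000000000000000000000000000000000000000000000000000000000000000000000000000000000000000000000000000000000000000000000000000000000000000000000000000000000000000000000000000000000000000000000000000000) (e (d (nat_lit 0x401004010040000000000000000000000000000000000000000000000000000000000000000000000000000000000000000000000000000000000000000000000000000000000000000000000000000000000000000000000000000000000000000000000000000000000000000000000000000000000000000000000000000000000000000000000000000000000000000000000000000000000000000000000000000000000000000000000000) (e (nat_lit 0x0) (nat_lit 3000))) (nat_lit 3000))) (nat_lit 9000))) (e (d (d (nat_lit 0x0) (e (d (nat_lit 0x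40200c04010030080100000000000000000000000000000000000000000000000000000000000000000000000000000000000000000000000000000000000000000000000000000000000000000000000000000000000000000000000000000000000000000000000040200c0401003008010000000000000000000000000000000000000000000000000000000000000000000000000000000000000000000000000000000000000000000000000000000000000000000000000000000000000000000000000000000000000000000000000000000000001008030100400c0200400000000000000000000000000000000000000000000000000000000000000000000000000000000000000000000000000000000000000000000000000) (e (nat_lit 0x1004010040100000000000000000000000000000000000000000000000000000000000000000000000000000000000000000000000000000000000000000000000000000000000000000000000000000000000000000000000000000000000000000000000000000000000010080401406014040080100000000000000000000000000000000000000000000000000000000000000000000000000000000000000000000000000000000000000000000000000000000000000000000000000000000000000000000000000000000000000000000000000000402014070280a0240601001000000000000000000000000000000000000000000000000000000000000000000000000000000000000000000000000040100401004000000000000000000000000000)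 (nat_lit 3000))) (nat_lit 3000))) (e (d (nat_lit 0x4010040100400000000000000000000000000000000000000000000000) (e (d (nat_lit 0x0) (e (nat_lit 0x1004020080200401000000000000000000000000000000000000000000000000000000000000000000000000000000000000000000000000000000000000000000000000000000000000000000000000000000000000000000000000000000000000000000000000000000000000000000000000000000000000000000000000000000000000000000000000000000000000000000000000000000000000000000000000000000000000000000000000000000000000000000000000) (nat_lit 3000))) (nat_lit 3000))) (nat_lit 9000))) (nat_lit 18000))) (e (d (d (d (nat_lit 0x1004020080200401000000000000000000000000000000000000000000000000000000000000000000000000000000000000000000000000000000000000000000000000000000000000000000000000000000000000000000000000000000000000000000000000000000000000000000000000000000000000000000000000000000000000000000000000000000000000000000000000000000000000000000000000000000000000000000000000000000000000000000000000000000000000000000000000000000000000000000000000000000000001008040140601404008010000000000000000000000000000000000000000000000000000000000000000000000000000000000000000000000100804014060140400801000000000000000000000000000000000000000000000)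 (e (d (nat_lit 0x0) (e (nat_lit 0x1004010040100000000000000000000000000000000000000000000000000000000000000000000000000000000000000000000000000000000000000000000000000000000000000000000000000000000000000000000000000000000000000000000000000000000000000000000000000000000000000000000000000000000000000000000000000000000000000000000000000000000000000000000000000000000000000000000000000000000000000000000000000000000000000000000000000000000000000000000000000000000000000000000000000000000000000000000000000000000000000000000000000000000000000000000000000000000000000000000000000000000000000000000000000000000000000000000000000000000000000000000000000000000000000000000000000000000000000000000000000000000000000000000000000000000000000000000000) (nat_lit 3000))) (nat_lit 3000))) (e (d (nat_lit 0x1004010040100000000000000000000000000000000000000000000000000000000000000000000000000000000000000000000000000000000000000000000000000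0000000000000000000000000000000000000000000000000000000000000000000000000000000000000000000000000000000000000000000000000000000000000000000000000000000000000000000000000000000000000000000000000000000000000000000000000000000000000000000000000000000000000000000000000000000000000000000000000000000000000000000000000000000000000000000000000000000000000000000000000000000000000000000000000000000000000000000000000000000000000000000000000000000000000000000000000000000000000000000000) (e (d (nat_lit 0x10040100401000000000000000000000000000000000000000000000000000000000000000000000000000000000000000000000000000000000000000000000000000000000000000000000000000000000000000000000000000000000000000000000000000000000000000000000010040100401000000000000000000000000000000000000000000000000000000000000000000000000000000000000000000000000000000000000000000000000000000000000000000000000000000000000000000000) (e (nat_lit 0x0) (nat_lit 3000)))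 (nat_lit 3000))) (nat_lit 9000))) (e (d (d (nat_lit 0x0) (e (d (nat_lit 0x100402008020040100000000000000000000000000000000000000000000000000000000000000000000000000000000000000000000000000000000000000000000000000000000000000000000000000000000000000000000000000000000000000000000000000000000000000000000401004010040000000000000000000000000000000000000000000000000000000000000000000000000000000000000000000000000000000000000000000000000000000000000000000000000000000000000000000000000000000000000000000000000000000000000000000000000000000000000000000000000000000000000000000000000000000000000000000000000000000000000000000000000000000000000000000000000000000000000000000000000000000000000000000000000000000000000) (e (nat_lit 0x40000000000000000000000000000000000000000000000000000000000000000000000000000000000000000000000000000000000000000000000000000000000000000000000000000000000000000000000000000000000000000000000000000000000000000000000002004020080200401000000000000000000000000000000000000000000000000000000000000000000000000000000000000000000000000000000001004010040100000000000000000000000000000000000000000000000000000000000000000000000000000000)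 (nat_lit 3000))) (nat_lit 3000))) (e (d (d (nat_lit 0x0) (e (nat_lit 0x0) (nat_lit 3000))) (e (d (nat_lit 0x0) (e (nat_lit 0x4000000000000000000000000000000000000000000000000000000000000000000000000000000000000000000000000000000000000000000000) (nat_lit 3000))) (nat_lit 6000))) (nat_lit 9000))) (nat_lit 18000))) (nat_lit 36000))) (nat_lit 72000)) :
 ℕ)) = ?xq3 → Nat) ?hq3; (case hq3 => (conv => lhs; whnf)); intro _; exact OfNat.ofNat ?xq3 : Nat)

theorem hZ : B.cZ 10 10 43 5 Z = true := by decide +kernel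

/-- the table -/
noncomputable def tab : Tab A 5 756 13 := B.tab A 5 e okB hA2

def matL : List (List (List ℤ)) := [(beta% delta% lq260c0d98e3 fun a b _ _ _ _ _ _ =>
 (a b<|a (a 0<|a 1<|b)<|a b<|a b<|a b<|a b<|a b<|a b<|a b<|a b<|a b<|a b<|a b<|b) :
 List (List ℤ)), (beta% delta% lq260c0d98e3 fun a b _ _ _ _ _ _ =>
 (a (a 0<|a 1<|b)<|a (a 0<|a (-1)<|a 1<|a 2<|a 1<|a 2<|a 2<|a 2<|a 1<|a 1<|b)<|a (a 0<|a 0<|a 0<|a 0<|a 1<|a 1<|a 2<|a 2<|a 2<|a 1<|a 1<|b)<|a (a 0<|a 0<|a 0<|a 0<|a 0<|a 0<|a 0<|a 0<|a 1<|a 1<|a 1<|a 1<|a 1<|b)<|a (a 0<|a 0<|a 0<|a 0<|a 0<|a 0<|a 0<|a 0<|a 0<|a 1<|a 1<|a 1<|a 1<|a 1<|b)<|a b<|a b<|a b<|a b<|a b<|a b<|a b<|a b<|b) :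
 List (List ℤ)), (beta% delta% lq260c0d98e3 fun a b _ _ _ _ _ _ =>
 (a b<|a (a 0<|a 0<|a 0<|a 0<|a 1<|a 1<|a 2<|a 2<|a 2<|a 1<|a 1<|b)<|a (a 0<|a 0<|a 0<|a 0<|a (-1)<|a 0<|a (-1)<|a 1<|a 2<|a 5<|a 5<|a 7<|a 5<|a 4<|a 2<|a 1<|b)<|a b<|a (a 0<|a 0<|a 0<|a 0<|a 0<|a 0<|a 0<|a 0<|a 0<|a 0<|a 1<|a 2<|a 4<|a 5<|a 6<|a 5<|a 4<|a 2<|a 1<|b)<|a b<|a (a 0<|a 0<|a 0<|a 0<|a 0<|a 0<|a 0<|a 0<|a 0<|a 0<|a 0<|a 0<|a 0<|a 0<|a 1<|a 1<|a 2<|a 2<|a 2<|a 1<|a 1<|b)<|a b<|a b<|a b<|a b<|a b<|a b<|b) :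
 List (List ℤ)), (beta% delta% lq260c0d98e3 fun a b _ _ _ _ _ _ =>
 (a b<|a (a 0<|a 0<|a 0<|a 0<|a 0<|a 0<|a 0<|a 0<|a 1<|a 1<|a 1<|a 1<|a 1<|b)<|a b<|a (a 0<|a 0<|a 0<|a 0<|a 0<|a 0<|a 0<|a 0<|a (-1)<|a 0<|a 0<|a 0<|a 0<|a 2<|a 1<|a 1<|a 1<|a 1<|b)<|a (a 0<|a 0<|a 0<|a 0<|a 0<|a 0<|a 0<|a 0<|a 0<|a 0<|a 1<|a 1<|a 1<|a 1<|a 1<|b)<|a (a 0<|a 0<|a 0<|a 0<|a 0<|a 0<|a 0<|a 0<|a 0<|a 0<|a 0<|a 0<|a 0<|a 0<|a 1<|a 1<|a 1<|a 1<|a 1<|b)<|a b<|a b<|a b<|a b<|a b<|a b<|a b<|b) :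
 List (List ℤ)), (beta% delta% lq260c0d98e3 fun a b _ _ _ _ _ _ =>
 (a b<|a (a 0<|a 0<|a 0<|a 0<|a 0<|a 0<|a 0<|a 0<|a 0<|a 1<|a 1<|a 1<|a 1<|a 1<|b)<|a (a 0<|a 0<|a 0<|a 0<|a 0<|a 0<|a 0<|a 0<|a 0<|a 0<|a 1<|a 2<|a 4<|a 5<|a 6<|a 5<|a 4<|a 2<|a 1<|b)<|a (a 0<|a 0<|a 0<|a 0<|a 0<|a 0<|a 0<|a 0<|a 0<|a 0<|a 1<|a 1<|a 1<|a 1<|a 1<|b)<|a (a 0<|a 0<|a 0<|a 0<|a 0<|a 0<|a 0<|a 0<|a 0<|a (-1)<|a (-2)<|a (-1)<|a (-1)<|a 1<|a 5<|a 9<|a 11<|a 12<|a 10<|a 7<|a 4<|a 1<|b)<|a (a 0<|a 0<|a 0<|a 0<|a 0<|a 0<|a 0<|a 0<|a 0<|a 0<|a 0<|a 0<|a 0<|a 0<|a 0<|a 1<|a 2<|a 3<|a 4<|a 4<|a 3<|a 2<|a 1<|b)<|a (a 0<|a 0<|a 0<|a 0<|a 0<|a 0<|a 0<|a 0<|a 0<|a 0<|a 0<|a 0<|a 0<|a 0<|a 0<|a 0<|a 0<|a 1<|a 2<|a 3<|a 4<|a 4<|a 3<|a 2<|a 1<|b)<|a (a 0<|a 0<|a 0<|a 0<|a 0<|a 0<|a 0<|a 0<|a 0<|a 0<|a 0<|a 0<|a 0<|a 0<|a 0<|a 0<|a 0<|a 1<|a 1<|a 1<|a 1<|a 1<|b)<|a (a 0<|a 0<|a 0<|a 0<|a 0<|a 0<|a 0<|a 0<|a 0<|a 0<|a 0<|a 0<|a 0<|a 0<|a 0<|a 0<|a 0<|a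 0<|a 1<|a 2<|a 3<|a 4<|a 4<|a 3<|a 2<|a 1<|b)<|a b<|a b<|a b<|a b<|b) :
 List (List ℤ)), (beta% delta% lq260c0d98e3 fun a b _ _ _ _ _ _ =>
 (a b<|a b<|a b<|a (a 0<|a 0<|a 0<|a 0<|a 0<|a 0<|a 0<|a 0<|a 0<|a 0<|a 0<|a 0<|a 0<|a 0<|a 1<|a 1<|a 1<|a 1<|a 1<|b)<|a (a 0<|a 0<|a 0<|a 0<|a 0<|a 0<|a 0<|a 0<|a 0<|a 0<|a 0<|a 0<|a 0<|a 0<|a 0<|a 1<|a 2<|a 3<|a 4<|a 4<|a 3<|a 2<|a 1<|b)<|a (a 0<|a 0<|a 0<|a 0<|a 0<|a 0<|a 0<|a 0<|a 0<|a 0<|a 0<|a 0<|a 0<|a 0<|a (-1)<|a (-1)<|a (-1)<|a (-1)<|a 0<|a 3<|a 5<|a 6<|a 7<|a 6<|a 4<|a 2<|a 1<|b)<|a b<|a b<|a (a 0<|a 0<|a 0<|a 0<|a 0<|a 0<|a 0<|a 0<|a 0<|a 0<|a 0<|a 0<|a 0<|a 0<|a 0<|a 0<|a 0<|a 0<|a 0<|a 0<|a 0<|a 1<|a 2<|a 3<|a 4<|a 4<|a 3<|a 2<|a 1<|b)<|a b<|a (a 0<|a 0<|a 0<|a 0<|a 0<|a 0<|a 0<|a 0<|a 0<|a 0<|a 0<|a 0<|a 0<|a 0<|a 0<|a 0<|a 0<|a 0<|a 0<|a 0<|a 0<|a 0<|a 0<|a 0<|a 0<|a 1<|a 1<|a 1<|a 1<|a 1<|b)<|a b<|a b<|b) :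
 List (List ℤ)), (beta% delta% lq260c0d98e3 fun a b _ _ _ _ _ _ =>
 (a b<|a b<|a (a 0<|a 0<|a 0<|a 0<|a 0<|a 0<|a 0<|a 0<|a 0<|a 0<|a 0<|a 0<|a 0<|a 0<|a 1<|a 1<|a 2<|a 2<|a 2<|a 1<|a 1<|b)<|a b<|a (a 0<|a 0<|a 0<|a 0<|a 0<|a 0<|a 0<|a 0<|a 0<|a 0<|a 0<|a 0<|a 0<|a 0<|a 0<|a 0<|a 0<|a 1<|a 2<|a 3<|a 4<|a 4<|a 3<|a 2<|a 1<|b)<|a b<|a (a 0<|a 0<|a 0<|a 0<|a 0<|a 0<|a 0<|a 0<|a 0<|a 0<|a 0<|a 0<|a 0<|a 0<|a (-1)<|a 0<|a 0<|a 0<|a 1<|a 2<|a 1<|a 2<|a 3<|a 2<|a 3<|a 3<|a 2<|a 1<|a 1<|b)<|a b<|a (a 0<|a 0<|a 0<|a 0<|a 0<|a 0<|a 0<|a 0<|a 0<|a 0<|a 0<|a 0<|a 0<|a 0<|a 0<|a 0<|a 0<|a 0<|a 0<|a 1<|a 2<|a 3<|a 4<|a 4<|a 3<|a 2<|a 1<|b)<|a (a 0<|a 0<|a 0<|a 0<|a 0<|a 0<|a 0<|a 0<|a 0<|a 0<|a 0<|a 0<|a 0<|a 0<|a 0<|a 0<|a 0<|a 0<|a 0<|a 0<|a 0<|a 0<|a 0<|a 1<|a 1<|a 2<|a 2<|a 2<|a 1<|a 1<|b)<|a b<|a b<|a b<|b) :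
 List (List ℤ)), (beta% delta% lq260c0d98e3 fun a b _ _ _ _ _ _ =>
 (a b<|a b<|a b<|a b<|a (a 0<|a 0<|a 0<|a 0<|a 0<|a 0<|a 0<|a 0<|a 0<|a 0<|a 0<|a 0<|a 0<|a 0<|a 0<|a 0<|a 0<|a 1<|a 1<|a 1<|a 1<|a 1<|b)<|a b<|a b<|a (a 0<|a 0<|a 0<|a 0<|a 0<|a 0<|a 0<|a 0<|a 0<|a 0<|a 0<|a 0<|a 0<|a 0<|a 0<|a 0<|a 0<|a (-1)<|a 0<|a 0<|a 0<|a 0<|a 1<|b)<|a (a 0<|a 0<|a 0<|a 0<|a 0<|a 0<|a 0<|a 0<|a 0<|a 0<|a 0<|a 0<|a 0<|a 0<|a 0<|a 0<|a 0<|a 0<|a 0<|a 0<|a 0<|a 0<|a 1<|a 1<|a 1<|a 1<|a 1<|b)<|a b<|a b<|a b<|a b<|b) :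
 List (List ℤ)), [[], [], [], [], (beta% delta% lq260c0d98e3 fun a b _ _ _ _ _ _ =>
 (a 0<|a 0<|a 0<|a 0<|a 0<|a 0<|a 0<|a 0<|a 0<|a 0<|a 0<|a 0<|a 0<|a 0<|a 0<|a 0<|a 0<|a 0<|a 1<|a 2<|a 3<|a 4<|a 4<|a 3<|a 2<|a 1<|b) :
 List ℤ), (beta% delta% lq260c0d98e3 fun a b _ _ _ _ _ _ =>
 (a 0<|a 0<|a 0<|a 0<|a 0<|a 0<|a 0<|a 0<|a 0<|a 0<|a 0<|a 0<|a 0<|a 0<|a 0<|a 0<|a 0<|a 0<|a 0<|a 0<|a 0<|a 1<|a 2<|a 3<|a 4<|a 4<|a 3<|a 2<|a 1<|b) :
 List ℤ), (beta% delta% lq260c0d98e3 fun a b _ _ _ _ _ _ =>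
 (a 0<|a 0<|a 0<|a 0<|a 0<|a 0<|a 0<|a 0<|a 0<|a 0<|a 0<|a 0<|a 0<|a 0<|a 0<|a 0<|a 0<|a 0<|a 0<|a 1<|a 2<|a 3<|a 4<|a 4<|a 3<|a 2<|a 1<|b) :
 List ℤ), (beta% delta% lq260c0d98e3 fun a b _ _ _ _ _ _ =>
 (a 0<|a 0<|a 0<|a 0<|a 0<|a 0<|a 0<|a 0<|a 0<|a 0<|a 0<|a 0<|a 0<|a 0<|a 0<|a 0<|a 0<|a 0<|a 0<|a 0<|a 0<|a 0<|a 1<|a 1<|a 1<|a 1<|a 1<|b) :
 List ℤ), (let yq1 : List ℤ := (let yq2 : List ℤ := (let yq3 : List ℤ := %[11, 8, 5, 2, 1 | []];
  %[5, 8, 12, 13 | yq3]);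
  (let yq4 : type_of% yq2 := %[-2, -3, -3, 1 | yq2];
  %[0, 0, -1, -2 | yq4]));
  (let yq5 : type_of% yq1 := (let yq6 : type_of% yq1 := %[0, 0, 0, 0 | yq1];
  %[0, 0, 0, 0 | yq6]);
  (let yq7 : type_of% yq5 := %[0, 0, 0, 0 | yq5];
  %[0, 0, 0, 0 | yq7]))), (let yq8 : List ℤ := (let yq9 : List ℤ := (let yq10 : List ℤ := %[6, 5, 4, 2, 1 | []];
  %[1, 2, 4, 5 | yq10]);
  (let yq11 : type_of% yq9 := %[0, 0, 0, 0 | yq9];
  %[0, 0, 0, 0 | yq11]));
  (let yq12 : type_of% yq8 := (let yq13 : type_of% yq8 := %[0, 0, 0, 0, 0 | yq8];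
  %[0, 0, 0, 0 | yq13]);
  (let yq14 : type_of% yq12 := %[0, 0, 0, 0 | yq12];
  %[0, 0, 0, 0 | yq14]))), (let yq15 : List ℤ := (let yq16 : List ℤ := (let yq17 : List ℤ := %[1, 1, 1, 1, 1 | []];
  %[0, 0, 0, 0 | yq17]);
  (let yq18 : type_of% yq16 := %[0, 0, 0, 0 | yq16];
  %[0, 0, 0, 0 | yq18]));
  (let yq19 : type_of% yq15 := (let yq20 : type_of% yq15 := %[0, 0, 0, 0, 0 | yq15];
  %[0, 0, 0, 0 | yq20]);
  (let yq21 : type_of% yq19 := %[0, 0, 0, 0 | yq19];
  %[0, 0, 0, 0 | yq21]))), (let yq22 : List ℤ := (let yq23 : List ℤ := (let yq24 : List ℤ := %[1, 1, 1, 1, 1 | []];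
  %[0, 0, 0, 0 | yq24]);
  (let yq25 : type_of% yq23 := %[0, 0, 0, 0, 0 | yq23];
  %[0, 0, 0, 0 | yq25]));
  (let yq26 : type_of% yq22 := (let yq27 : type_of% yq22 := %[0, 0, 0, 0, 0 | yq22];
  %[0, 0, 0, 0 | yq27]);
  (let yq28 : type_of% yq26 := %[0, 0, 0, 0 | yq26];
  %[0, 0, 0, 0 | yq28]))), []], [[], [], [], [], [], [], (beta% delta% lq260c0d98e3 fun a b _ _ _ _ _ _ =>
 (a 0<|a 0<|a 0<|a 0<|a 0<|a 0<|a 0<|a 0<|a 0<|a 0<|a 0<|a 0<|a 0<|a 0<|a 0<|a 0<|a 0<|a 0<|a 0<|a 0<|a 0<|a 0<|a 0<|a 1<|a 1<|a 2<|a 2<|a 2<|a 1<|a 1<|b) :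
 List ℤ), [], (let yq29 : List ℤ := (let yq30 : List ℤ := (let yq31 : List ℤ := %[6, 5, 4, 2, 1 | []];
  %[1, 2, 4, 5 | yq31]);
  (let yq32 : type_of% yq30 := %[0, 0, 0, 0 | yq30];
  %[0, 0, 0, 0 | yq32]));
  (let yq33 : type_of% yq29 := (let yq34 : type_of% yq29 := %[0, 0, 0, 0, 0 | yq29];
  %[0, 0, 0, 0 | yq34]);
  (let yq35 : type_of% yq33 := %[0, 0, 0, 0 | yq33];
  %[0, 0, 0, 0 | yq35]))), (let yq36 : List ℤ := (let yq37 : List ℤ := (let yq38 : List ℤ := %[7, 6, 4, 2, 1 | []];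
  %[0, 0, 4, 5, 7 | yq38]);
  (let yq39 : type_of% yq37 := %[-1, 0, -2, -1, -2 | yq37];
  %[0, 0, 0, 0 | yq39]));
  (let yq40 : type_of% yq36 := (let yq41 : type_of% yq36 := %[0, 0, 0, 0, 0 | yq36];
  %[0, 0, 0, 0, 0 | yq41]);
  (let yq42 : type_of% yq40 := %[0, 0, 0, 0, 0 | yq40];
  %[0, 0, 0, 0 | yq42]))), [], (let yq43 : List ℤ := (let yq44 : List ℤ := (let yq45 : List ℤ := %[2, 2, 2, 1, 1 | []];
  %[0, 0, 0, 1, 1 | yq45]);
  (let yq46 : type_of% yq44 := %[0, 0, 0, 0, 0 | yq44];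
  %[0, 0, 0, 0, 0 | yq46]));
  (let yq47 : type_of% yq43 := (let yq48 : type_of% yq43 := %[0, 0, 0, 0, 0 | yq43];
  %[0, 0, 0, 0, 0 | yq48]);
  (let yq49 : type_of% yq47 := %[0, 0, 0, 0, 0 | yq47];
  %[0, 0, 0, 0, 0 | yq49]))), []], [[], [], [], [], [], (beta% delta% lq260c0d98e3 fun a b _ _ _ _ _ _ =>
 (a 0<|a 0<|a 0<|a 0<|a 0<|a 0<|a 0<|a 0<|a 0<|a 0<|a 0<|a 0<|a 0<|a 0<|a 0<|a 0<|a 0<|a 0<|a 0<|a 0<|a 0<|a 0<|a 0<|a 0<|a 0<|a 1<|a 1<|a 1<|a 1<|a 1<|b) :
 List ℤ), [], [], (let yq50 : List ℤ := (let yq51 : List ℤ := (let yq52 : List ℤ := %[1, 1, 1, 1, 1 | []];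
  %[0, 0, 0, 0 | yq52]);
  (let yq53 : type_of% yq51 := %[0, 0, 0, 0 | yq51];
  %[0, 0, 0, 0 | yq53]));
  (let yq54 : type_of% yq50 := (let yq55 : type_of% yq50 := %[0, 0, 0, 0, 0 | yq50];
  %[0, 0, 0, 0 | yq55]);
  (let yq56 : type_of% yq54 := %[0, 0, 0, 0 | yq54];
  %[0, 0, 0, 0 | yq56]))), [], (let yq57 : List ℤ := (let yq58 : List ℤ := (let yq59 : List ℤ := %[2, 1, 0, 0, 1 | []];
  %[0, 1, 1, 0 | yq59]);
  (let yq60 : type_of% yq58 := %[0, 0, 0, 0, -1 | yq58];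
  %[0, 0, 0, 0 | yq60]));
  (let yq61 : type_of% yq57 := (let yq62 : type_of% yq57 := %[0, 0, 0, 0, 0 | yq57];
  %[0, 0, 0, 0 | yq62]);
  (let yq63 : type_of% yq61 := %[0, 0, 0, 0 | yq61];
  %[0, 0, 0, 0 | yq63]))), (let yq64 : List ℤ := (let yq65 : List ℤ := (let yq66 : List ℤ := %[1, 1, 1, 1, 1 | []];
  %[0, 0, 0, 0 | yq66]);
  (let yq67 : type_of% yq65 := %[0, 0, 0, 0, 0 | yq65];
  %[0, 0, 0, 0 | yq67]));
  (let yq68 : type_of% yq64 := (let yq69 : type_of% yq64 := %[0, 0, 0, 0, 0 | yq64];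
  %[0, 0, 0, 0 | yq69]);
  (let yq70 : type_of% yq68 := %[0, 0, 0, 0, 0 | yq68];
  %[0, 0, 0, 0 | yq70]))), []], [[], [], [], [], [], [], [], [], (let yq71 : List ℤ := (let yq72 : List ℤ := (let yq73 : List ℤ := %[1, 1, 1, 1, 1 | []];
  %[0, 0, 0, 0 | yq73]);
  (let yq74 : type_of% yq72 := %[0, 0, 0, 0, 0 | yq72];
  %[0, 0, 0, 0 | yq74]));
  (let yq75 : type_of% yq71 := (let yq76 : type_of% yq71 := %[0, 0, 0, 0, 0 | yq71];
  %[0, 0, 0, 0 | yq76]);
  (let yq77 : type_of% yq75 := %[0, 0, 0, 0 | yq75];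
  %[0, 0, 0, 0 | yq77]))), (let yq78 : List ℤ := (let yq79 : List ℤ := (let yq80 : List ℤ := %[2, 2, 2, 1, 1 | []];
  %[0, 0, 0, 1, 1 | yq80]);
  (let yq81 : type_of% yq79 := %[0, 0, 0, 0, 0 | yq79];
  %[0, 0, 0, 0, 0 | yq81]));
  (let yq82 : type_of% yq78 := (let yq83 : type_of% yq78 := %[0, 0, 0, 0, 0 | yq78];
  %[0, 0, 0, 0, 0 | yq83]);
  (let yq84 : type_of% yq82 := %[0, 0, 0, 0, 0 | yq82];
  %[0, 0, 0, 0, 0 | yq84]))), (let yq85 : List ℤ := (let yq86 : List ℤ := (let yq87 : List ℤ := %[1, 1, 1, 1, 1 | []];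
  %[0, 0, 0, 0 | yq87]);
  (let yq88 : type_of% yq86 := %[0, 0, 0, 0, 0 | yq86];
  %[0, 0, 0, 0 | yq88]));
  (let yq89 : type_of% yq85 := (let yq90 : type_of% yq85 := %[0, 0, 0, 0, 0 | yq85];
  %[0, 0, 0, 0 | yq90]);
  (let yq91 : type_of% yq89 := %[0, 0, 0, 0, 0 | yq89];
  %[0, 0, 0, 0 | yq91]))), (let yq92 : List ℤ := (let yq93 : List ℤ := (let yq94 : List ℤ := %[2, 2, 3, 2, 2, 2 | []];
  %[-1, 0, -1, 0, 1 | yq94]);
  (let yq95 : type_of% yq93 := %[0, 0, 0, 0, -1 | yq93];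
  %[0, 0, 0, 0, 0 | yq95]));
  (let yq96 : type_of% yq92 := (let yq97 : type_of% yq92 := %[0, 0, 0, 0, 0, 0 | yq92];
  %[0, 0, 0, 0, 0 | yq97]);
  (let yq98 : type_of% yq96 := %[0, 0, 0, 0, 0 | yq96];
  %[0, 0, 0, 0, 0 | yq98]))), (let yq99 : List ℤ := (let yq100 : List ℤ := (let yq101 : List ℤ := %[0, 0, 0, 0, 0, 1 | []];
  %[0, 0, 0, 0, 0 | yq101]);
  (let yq102 : type_of% yq100 := %[0, 0, 0, 0, 0, 0 | yq100];
  %[0, 0, 0, 0, 0 | yq102]));
  (let yq103 : type_of% yq99 := (let yq104 : type_of% yq99 := %[0, 0, 0, 0, 0, 0 | yq99];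
  %[0, 0, 0, 0, 0 | yq104]);
  (let yq105 : type_of% yq103 := %[0, 0, 0, 0, 0 | yq103];
  %[0, 0, 0, 0, 0 | yq105])))], [[], [], [], [], [], [], [], [], [], [], [], (let yq106 : List ℤ := (let yq107 : List ℤ := (let yq108 : List ℤ := %[0, 0, 0, 0, 0, 1 | []];
  %[0, 0, 0, 0, 0 | yq108]);
  (let yq109 : type_of% yq107 := %[0, 0, 0, 0, 0, 0 | yq107];
  %[0, 0, 0, 0, 0 | yq109]));
  (let yq110 : type_of% yq106 := (let yq111 : type_of% yq106 := %[0, 0, 0, 0, 0, 0 | yq106];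
  %[0, 0, 0, 0, 0 | yq111]);
  (let yq112 : type_of% yq110 := %[0, 0, 0, 0, 0 | yq110];
  %[0, 0, 0, 0, 0 | yq112]))), (let yq113 : List ℤ := (let yq114 : List ℤ := (let yq115 : List ℤ := %[0, 0, 0, 0, -1, 1 | []];
  %[0, 0, 0, 0, 0 | yq115]);
  (let yq116 : type_of% yq114 := %[0, 0, 0, 0, 0, 0 | yq114];
  %[0, 0, 0, 0, 0 | yq116]));
  (let yq117 : type_of% yq113 := (let yq118 : type_of% yq113 := %[0, 0, 0, 0, 0, 0 | yq113];
  %[0, 0, 0, 0, 0 | yq118]);
  (let yq119 : type_of% yq117 := %[0, 0, 0, 0, 0, 0 | yq117];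
  %[0, 0, 0, 0, 0 | yq119])))]]

def bbL : List (List (List ℤ)) := (beta% delta% lq260c0d98e3 fun a b _ _ _ _ _ _ =>
 (a (a b<|a (a 0<|a 1<|a 2<|a 2<|a 3<|a 4<|a 4<|a 4<|a 4<|a 3<|a 2<|a 2<|a 1<|b)<|a b<|a b<|a b<|a b<|a b<|a b<|a b<|a b<|a b<|a b<|a b<|b)<|a (a (a 1<|b)<|a (a (-1)<|a 1<|a 2<|a 1<|a 2<|a 2<|a 2<|a 1<|a 1<|b)<|a (a 0<|a 0<|a 0<|a 1<|a 1<|a 2<|a 2<|a 2<|a 1<|a 1<|b)<|a (a 0<|a 0<|a 0<|a 0<|a 0<|a 0<|a 0<|a 1<|a 1<|a 1<|a 1<|a 1<|b)<|a (a 0<|a 0<|a 0<|a 0<|a 0<|a 0<|a 0<|a 0<|a 1<|a 1<|a 1<|a 1<|a 1<|b)<|a b<|a b<|a b<|a b<|a b<|a b<|a b<|a b<|b)<|a (a b<|a (a 1<|a 2<|a 1<|b)<|a (a (-1)<|a (-1)<|a 1<|a 2<|a 3<|a 4<|a 3<|a 1<|b)<|a b<|a (a 0<|a 0<|a 0<|a 0<|a 0<|a 0<|a 1<|a 3<|a 4<|a 3<|a 1<|b)<|a b<|a (a 0<|a 0<|a 0<|a 0<|a 0<|a 0<|a 0<|a 0<|a 0<|a 0<|a 1<|a 2<|a 1<|b)<|a b<|a b<|a b<|a b<|a b<|a b<|b)<|a (a b<|a (a 1<|a 1<|a 1<|a 2<|a 1<|a 1<|a 1<|b)<|a b<|a (a (-1)<|a 0<|a 0<|a (-1)<|a 1<|a 1<|a 1<|a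 2<|a 2<|a 1<|a 1<|a 1<|b)<|a (a 0<|a 0<|a 1<|a 1<|a 1<|a 2<|a 1<|a 1<|a 1<|b)<|a (a 0<|a 0<|a 0<|a 0<|a 0<|a 0<|a 1<|a 1<|a 1<|a 2<|a 1<|a 1<|a 1<|b)<|a b<|a b<|a b<|a b<|a b<|a b<|a b<|b)<|a (a b<|a (a 1<|b)<|a (a 0<|a 1<|a 1<|a 2<|a 1<|a 1<|b)<|a (a 0<|a 1<|b)<|a (a (-1)<|a (-1)<|a 1<|a 0<|a 2<|a 3<|a 3<|a 3<|a 1<|b)<|a (a 0<|a 0<|a 0<|a 0<|a 0<|a 0<|a 1<|a 1<|a 1<|a 1<|b)<|a (a 0<|a 0<|a 0<|a 0<|a 0<|a 0<|a 0<|a 0<|a 1<|a 1<|a 1<|a 1<|b)<|a (a 0<|a 0<|a 0<|a 0<|a 0<|a 0<|a 0<|a 0<|a 1<|b)<|a (a 0<|a 0<|a 0<|a 0<|a 0<|a 0<|a 0<|a 0<|a 0<|a 1<|a 1<|a 1<|a 1<|b)<|a b<|a b<|a b<|a b<|b)<|a (a b<|a b<|a b<|a (a 1<|a 1<|b)<|a (a 0<|a 1<|a 2<|a 2<|a 2<|a 1<|b)<|a (a (-1)<|a (-1)<|a 0<|a 0<|a 1<|a 3<|a 4<|a 3<|a 2<|a 1<|b)<|a b<|a b<|a (a 0<|a 0<|a 0<|a 0<|a 0<|a 0<|a 0<|a 1<|a 2<|a 2<|a 2<|a 1<|b)<|a b<|a (a 0<|a 0<|a 0<|a 0<|a 0<|a 0<|a 0<|a 0<|a 0<|a 0<|a 0<|a 1<|a 1<|b)<|a b<|a b<|b)<|a (a b<|a b<|a (a 1<|a 1<|a 1<|a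 1<|b)<|a b<|a (a 0<|a 0<|a 0<|a 1<|a 2<|a 2<|a 2<|a 1<|b)<|a b<|a (a (-1)<|a 0<|a 1<|a 0<|a 1<|a 1<|a 0<|a 1<|a 2<|a 1<|a 1<|a 1<|b)<|a b<|a (a 0<|a 0<|a 0<|a 0<|a 0<|a 1<|a 2<|a 2<|a 2<|a 1<|b)<|a (a 0<|a 0<|a 0<|a 0<|a 0<|a 0<|a 0<|a 0<|a 0<|a 1<|a 1<|a 1<|a 1<|b)<|a b<|a b<|a b<|b)<|a (a b<|a b<|a b<|a b<|a (a 1<|a 2<|a 2<|a 3<|a 3<|a 2<|a 2<|a 1<|b)<|a b<|a b<|a (a (-1)<|a (-1)<|a 0<|a (-1)<|a 0<|a 1<|a 0<|a 1<|a 1<|b)<|a (a 0<|a 0<|a 0<|a 0<|a 0<|a 1<|a 2<|a 2<|a 3<|a 3<|a 2<|a 2<|a 1<|b)<|a b<|a b<|a b<|a b<|b)<|a (a b<|a b<|a b<|a b<|a (a 1<|a 1<|a 1<|a 1<|b)<|a (a 0<|a 0<|a 0<|a 1<|a 1<|a 1<|a 1<|b)<|a (a 0<|a 1<|a 1<|a 1<|a 1<|b)<|a (a 0<|a 0<|a 0<|a 0<|a 1<|b)<|a (a (-1)<|a (-1)<|a 0<|a (-1)<|a 0<|a 3<|a 3<|a 3<|a 3<|a 1<|a 1<|b)<|a (a 0<|a 0<|a 0<|a 0<|a 0<|a 0<|a 0<|a 1<|a 1<|a 2<|a 1<|a 1<|b)<|a (a 0<|a 0<|a 0<|a 0<|a 0<|a 0<|a 0<|a 0<|a 0<|a 0<|a 0<|a 1<|b)<|a (a 0<|a 0<|a 0<|a 0<|a 0<|a 0<|a 0<|a 0<|a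 0<|a 0<|a 0<|a 0<|a 1<|b)<|a b<|b)<|a (a b<|a b<|a b<|a b<|a b<|a b<|a (a 1<|a 2<|a 1<|b)<|a b<|a (a 0<|a 0<|a 1<|a 3<|a 4<|a 3<|a 1<|b)<|a (a (-1)<|a (-1)<|a 0<|a (-1)<|a (-1)<|a 1<|a 3<|a 4<|a 4<|a 3<|a 1<|b)<|a b<|a (a 0<|a 0<|a 0<|a 0<|a 0<|a 0<|a 0<|a 0<|a 0<|a 0<|a 1<|a 2<|a 1<|b)<|a b<|b)<|a (a b<|a b<|a b<|a b<|a b<|a (a 1<|a 1<|a 1<|a 2<|a 1<|a 1<|a 1<|b)<|a b<|a b<|a (a 0<|a 0<|a 0<|a 0<|a 1<|a 1<|a 1<|a 2<|a 1<|a 1<|a 1<|b)<|a b<|a (a (-1)<|a 0<|a 1<|a 0<|a 1<|a 2<|a 1<|a 1<|a 2<|a 0<|a 0<|a 1<|b)<|a (a 0<|a 0<|a 0<|a 0<|a 0<|a 0<|a 1<|a 1<|a 1<|a 2<|a 1<|a 1<|a 1<|b)<|a b<|b)<|a (a b<|a b<|a b<|a b<|a b<|a b<|a b<|a b<|a (a 1<|a 1<|a 1<|a 1<|a 1<|b)<|a (a 0<|a 0<|a 0<|a 1<|a 1<|a 2<|a 2<|a 2<|a 1<|a 1<|b)<|a (a 0<|a 1<|a 1<|a 1<|a 1<|a 1<|b)<|a (a (-1)<|a (-1)<|a 0<|a (-1)<|a 0<|a 1<|a 2<|a 2<|a 3<|a 2<|a 2<|a 2<|b)<|a (a 0<|a 0<|a 0<|a 0<|a 0<|a 0<|a 0<|a 0<|a 0<|a 0<|a 0<|a 0<|a 1<|b)<|b)<|a (a b<|a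 b<|a b<|a b<|a b<|a b<|a b<|a b<|a b<|a b<|a b<|a (a 1<|a 2<|a 2<|a 3<|a 4<|a 4<|a 4<|a 4<|a 3<|a 2<|a 2<|a 1<|b)<|a (a (-1)<|a (-1)<|a 0<|a (-1)<|a (-1)<|a 0<|a 0<|a 0<|a 1<|a 1<|a 0<|a 1<|a 1<|b)<|b)<|b))

def kL : List (List ℤ) := [[1], (beta% delta% lq260c0d98e3 fun a b _ _ _ _ _ _ =>
 (a 0<|a 1<|a 2<|a 2<|a 3<|a 4<|a 4<|a 4<|a 4<|a 3<|a 2<|a 2<|a 1<|b) :
 List ℤ), (beta% delta% lq260c0d98e3 fun a b _ _ _ _ _ _ =>
 (a 0<|a 0<|a 0<|a 0<|a 1<|a 1<|a 3<|a 4<|a 6<|a 7<|a 9<|a 9<|a 9<|a 9<|a 7<|a 6<|a 4<|a 3<|a 1<|a 1<|b) :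
 List ℤ), (beta% delta% lq260c0d98e3 fun a b _ _ _ _ _ _ =>
 (a 0<|a 0<|a 0<|a 0<|a 0<|a 0<|a 0<|a 0<|a 1<|a 2<|a 2<|a 2<|a 3<|a 3<|a 2<|a 2<|a 2<|a 1<|b) :
 List ℤ), (beta% delta% lq260c0d98e3 fun a b _ _ _ _ _ _ =>
 (a 0<|a 0<|a 0<|a 0<|a 0<|a 0<|a 0<|a 0<|a 0<|a 1<|a 3<|a 5<|a 8<|a 12<|a 15<|a 17<|a 19<|a 19<|a 17<|a 15<|a 12<|a 8<|a 5<|a 3<|a 1<|b) :
 List ℤ), (beta% delta% lq260c0d98e3 fun a b _ _ _ _ _ _ =>
 (a 0<|a 0<|a 0<|a 0<|a 0<|a 0<|a 0<|a 0<|a 0<|a 0<|a 0<|a 0<|a 0<|a 0<|a 1<|a 2<|a 3<|a 5<|a 7<|a 8<|a 9<|a 10<|a 9<|a 8<|a 7<|a 5<|a 3<|a 2<|a 1<|b) :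
 List ℤ), (beta% delta% lq260c0d98e3 fun a b _ _ _ _ _ _ =>
 (a 0<|a 0<|a 0<|a 0<|a 0<|a 0<|a 0<|a 0<|a 0<|a 0<|a 0<|a 0<|a 0<|a 0<|a 1<|a 2<|a 3<|a 5<|a 7<|a 8<|a 9<|a 10<|a 9<|a 8<|a 7<|a 5<|a 3<|a 2<|a 1<|b) :
 List ℤ), (beta% delta% lq260c0d98e3 fun a b _ _ _ _ _ _ =>
 (a 0<|a 0<|a 0<|a 0<|a 0<|a 0<|a 0<|a 0<|a 0<|a 0<|a 0<|a 0<|a 0<|a 0<|a 0<|a 0<|a 0<|a 1<|a 1<|a 1<|a 1<|a 2<|a 1<|a 1<|a 1<|a 1<|b) :
 List ℤ), (let yq120 : List ℤ := (let yq121 : List ℤ := (let yq122 : List ℤ := %[12, 8, 5, 3, 1 | []];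
  %[19, 19, 17, 15 | yq122]);
  (let yq123 : type_of% yq121 := %[8, 12, 15, 17 | yq121];
  %[0, 1, 3, 5 | yq123]));
  (let yq124 : type_of% yq120 := (let yq125 : type_of% yq120 := %[0, 0, 0, 0, 0 | yq120];
  %[0, 0, 0, 0 | yq125]);
  (let yq126 : type_of% yq124 := %[0, 0, 0, 0 | yq124];
  %[0, 0, 0, 0 | yq126]))), (let yq127 : List ℤ := (let yq128 : List ℤ := (let yq129 : List ℤ := %[6, 4, 3, 1, 1 | []];
  %[9, 9, 9, 9, 7 | yq129]);
  (let yq130 : type_of% yq128 := %[1, 3, 4, 6, 7 | yq128];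
  %[0, 0, 0, 0, 1 | yq130]));
  (let yq131 : type_of% yq127 := (let yq132 : type_of% yq127 := %[0, 0, 0, 0, 0 | yq127];
  %[0, 0, 0, 0, 0 | yq132]);
  (let yq133 : type_of% yq131 := %[0, 0, 0, 0, 0 | yq131];
  %[0, 0, 0, 0 | yq133]))), (let yq134 : List ℤ := (let yq135 : List ℤ := (let yq136 : List ℤ := %[3, 2, 2, 2, 1 | []];
  %[2, 2, 2, 3 | yq136]);
  (let yq137 : type_of% yq135 := %[0, 0, 0, 0, 1 | yq135];
  %[0, 0, 0, 0 | yq137]));
  (let yq138 : type_of% yq134 := (let yq139 : type_of% yq134 := %[0, 0, 0, 0, 0 | yq134];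
  %[0, 0, 0, 0 | yq139]);
  (let yq140 : type_of% yq138 := %[0, 0, 0, 0 | yq138];
  %[0, 0, 0, 0 | yq140]))), (let yq141 : List ℤ := (let yq142 : List ℤ := (let yq143 : List ℤ := %[4, 4, 3, 2, 2, 1 | []];
  %[2, 2, 3, 4, 4 | yq143]);
  (let yq144 : type_of% yq142 := %[0, 0, 0, 0, 1 | yq142];
  %[0, 0, 0, 0, 0 | yq144]));
  (let yq145 : type_of% yq141 := (let yq146 : type_of% yq141 := %[0, 0, 0, 0, 0, 0 | yq141];
  %[0, 0, 0, 0, 0 | yq146]);
  (let yq147 : type_of% yq145 := %[0, 0, 0, 0, 0 | yq145];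
  %[0, 0, 0, 0, 0 | yq147]))), (let yq148 : List ℤ := (let yq149 : List ℤ := (let yq150 : List ℤ := %[0, 0, 0, 0, 0, 1 | []];
  %[0, 0, 0, 0, 0 | yq150]);
  (let yq151 : type_of% yq149 := %[0, 0, 0, 0, 0, 0 | yq149];
  %[0, 0, 0, 0, 0 | yq151]));
  (let yq152 : type_of% yq148 := (let yq153 : type_of% yq148 := %[0, 0, 0, 0, 0, 0 | yq148];
  %[0, 0, 0, 0, 0 | yq153]);
  (let yq154 : type_of% yq152 := %[0, 0, 0, 0, 0 | yq152];
  %[0, 0, 0, 0, 0 | yq154])))]

def mat (c c' : Fin 13) : List ℤ := (matL.getD c []).getD c' []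

def kk (c : Fin 13) : List ℤ := kL.getD c []

def bb (c c' : Fin 13) : List ℤ := (bbL.getD c []).getD c' []

theorem hmat : ∀ c c' : Fin 13, pEq (Bg.matZ 10 43 Z (e 5) c c') (mat c c') = true := by (delta Bg.matZ; simp only [H996.Eight.Kq.pEq_eq]; decide +kernel)

theorem hkk : ∀ c : Fin 13, pEq (Bg.kZ 10 43 Z c) (kk c) = true := by (delta Bg.kZ; simp only [H996.Eight.Kq.pEq_eq]; decide +kernel)

theorem hB : ∀ r c, (beta% delta% lq260c0d98e3 fun a b _ _ _ _ h j =>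
 j (h (kk r) (bb r c)) (h (a 1<|a 2<|a 2<|a 3<|a 4<|a 4<|a 4<|a 4<|a 3<|a 2<|a 2<|a 1<|b) (mat r c)) :
 Bool) = true := by (simp only [H996.Eight.Kq.pEq_eq]; decide +kernel)

/-- the data -/
noncomputable def data : Data A 5 756 13 where
  t := tab
  e := e
  wl := B.wl
  mat := mat
  kk := kk
  ff := [1, 2, 2, 3, 4, 4, 4, 4, 3, 2, 2, 1]
  bb := bb
  chkM := okB.chkM (by decide) (by decide) hZ hA2 hmat
  chkK := okB.chkK (by decide) (by decide) hZ hA2 hkk
  chkF := by decide +kernel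
  chkP := by (simp only [H996.Eight.Kq.pPos_eq]; decide +kernel)
  chkB := hB
  wo := okB.hw
  ws := okB.wl_st

/-- `1*q^4*P2^4*P5*P6^2*P9*P10*P14*P18 / 2` (`Pn` the cyclotomic polynomials) -/
def c1 : Crt 13 where
  th := [-1, -1, 0, -1, 0, 1, 2, 1, 1]
  nu c := ([(let yq155 : List ℤ := (let yq156 : List ℤ := (let yq157 : List ℤ := %[12, 8, 5, 3, 1 | []];
  %[17, 19, 19, 17, 15 | yq157]);
  (let yq158 : type_of% yq156 := %[3, 5, 8, 12, 15 | yq156];
  %[0, 0, 0, 1 | yq158]));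
  (let yq159 : type_of% yq155 := (let yq160 : type_of% yq155 := %[0, 0, 0, 0, 0 | yq155];
  %[0, 0, 0, 0 | yq160]);
  (let yq161 : type_of% yq159 := %[0, 0, 0, 0, 0 | yq159];
  %[0, 0, 0, 0 | yq161]))), (let yq162 : List ℤ := (let yq163 : List ℤ := (let yq164 : List ℤ := %[5, 5, 4, 2, 1 | []];
  %[-3, -1, 2, 3 | yq164]);
  (let yq165 : type_of% yq163 := %[-1, -2, -2, -3 | yq163];
  %[0, 0, 0, 0 | yq165]));
  (let yq166 : type_of% yq162 := (let yq167 : type_of% yq162 := %[0, 0, 0, 0 | yq162];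
  %[0, 0, 0, 0 | yq167]);
  (let yq168 : type_of% yq166 := %[0, 0, 0, 0 | yq166];
  %[0, 0, 0, 0 | yq168]))), (beta% delta% lq260c0d98e3 fun a b _ _ _ _ _ _ =>
 (a 0<|a 0<|a 0<|a 0<|a 0<|a 0<|a 0<|a 0<|a 0<|a 0<|a 0<|a 0<|a 0<|a 0<|a 0<|a 0<|a 0<|a 0<|a 1<|a 2<|a 1<|a 0<|a (-1)<|a (-5)<|a (-8)<|a (-4)<|a 2<|a 3<|a 1<|b) :
 List ℤ), (beta% delta% lq260c0d98e3 fun a b _ _ _ _ _ _ =>
 (a 0<|a 0<|a 0<|a 0<|a 0<|a 0<|a 0<|a 0<|a 0<|a 0<|a 0<|a 0<|a 0<|a 0<|a 0<|a 0<|a 1<|a 1<|a 0<|a (-1)<|a (-3)<|a (-5)<|a (-6)<|a (-6)<|a (-6)<|a (-4)<|a (-2)<|a (-1)<|b) :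
 List ℤ), (beta% delta% lq260c0d98e3 fun a b _ _ _ _ _ _ =>
 (a 0<|a 0<|a 0<|a 0<|a 0<|a 0<|a 0<|a 0<|a 0<|a 0<|a 0<|a 0<|a 0<|a 0<|a 0<|a (-1)<|a 0<|a 1<|a 3<|a 4<|a 3<|a (-1)<|a (-4)<|a (-5)<|a (-3)<|a 0<|a 1<|b) :
 List ℤ), (beta% delta% lq260c0d98e3 fun a b _ _ _ _ _ _ =>
 (a 0<|a 0<|a 0<|a 0<|a 0<|a 0<|a 0<|a 0<|a 0<|a 0<|a 0<|a 0<|a 0<|a 0<|a (-1)<|a (-1)<|a 2<|a 5<|a 6<|a 5<|a 2<|a (-1)<|a (-1)<|b) :
 List ℤ), (beta% delta% lq260c0d98e3 fun a b _ _ _ _ _ _ =>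
 (a 0<|a 0<|a 0<|a 0<|a 0<|a 0<|a 0<|a 0<|a 0<|a 0<|a 0<|a 0<|a 0<|a 0<|a (-1)<|a (-1)<|a 2<|a 5<|a 6<|a 5<|a 2<|a (-1)<|a (-1)<|b) :
 List ℤ), (beta% delta% lq260c0d98e3 fun a b _ _ _ _ _ _ =>
 (a 0<|a 0<|a 0<|a 0<|a 0<|a 0<|a 0<|a 0<|a 0<|a 0<|a 0<|a (-1)<|a (-3)<|a (-4)<|a (-4)<|a (-3)<|a (-1)<|a 0<|a 0<|a 0<|a (-1)<|a (-3)<|a (-4)<|a (-4)<|a (-3)<|a (-1)<|b) :
 List ℤ), (beta% delta% lq260c0d98e3 fun a b _ _ _ _ _ _ =>
 (a 0<|a 0<|a 0<|a 0<|a 0<|a 0<|a 0<|a 0<|a 0<|a 0<|a 1<|a 0<|a (-3)<|a (-5)<|a (-4)<|a (-1)<|a 3<|a 4<|a 3<|a 1<|a 0<|a (-1)<|b) :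
 List ℤ), (beta% delta% lq260c0d98e3 fun a b _ _ _ _ _ _ =>
 (a 0<|a 0<|a 0<|a 0<|a 0<|a 0<|a 0<|a 0<|a 1<|a 3<|a 2<|a (-4)<|a (-8)<|a (-5)<|a (-1)<|a 0<|a 1<|a 2<|a 1<|b) :
 List ℤ), (beta% delta% lq260c0d98e3 fun a b _ _ _ _ _ _ =>
 (a 0<|a 0<|a 0<|a 0<|a 0<|a 0<|a 0<|a 0<|a 0<|a (-1)<|a (-2)<|a (-4)<|a (-6)<|a (-6)<|a (-6)<|a (-5)<|a (-3)<|a (-1)<|a 0<|a 1<|a 1<|b) :
 List ℤ), (beta% delta% lq260c0d98e3 fun a b _ _ _ _ _ _ =>
 (a 0<|a 0<|a 0<|a 0<|a 1<|a 2<|a 4<|a 5<|a 5<|a 3<|a 2<|a (-1)<|a (-3)<|a (-3)<|a (-2)<|a (-2)<|a (-1)<|b) :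
 List ℤ), (beta% delta% lq260c0d98e3 fun a b _ _ _ _ _ _ =>
 (a 1<|a 3<|a 5<|a 8<|a 12<|a 15<|a 17<|a 19<|a 19<|a 17<|a 15<|a 12<|a 8<|a 5<|a 3<|a 1<|b) :
 List ℤ)] : List (List ℤ)).getD c []
  steps := [(8, [(0, (let yq169 : List ℤ := (let yq170 : List ℤ := (let yq171 : List ℤ := %[143, 53, 5, -9, -8, -4, -1 | []];
  %[-1637, -874, -216, 175, 296, 247 | yq171]);
  (let yq172 : type_of% yq170 := %[-138, -443, -1190, -1967, -2371, -2229 | yq170];
  %[-3885, -3720, -3220, -2360, -1325, -474 | yq172]));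
  (let yq173 : type_of% yq169 := (let yq174 : type_of% yq169 := %[-304, -1907, -2948, -3502, -3739, -3824, -3877 | yq169];
  %[4247, 5732, 6221, 5522, 3860, 1742 | yq174]);
  (let yq175 : type_of% yq173 := %[-493, -816, -936, -545, 565, 2311 | yq173];
  %[1, 7, 19, 20, -35, -201 | yq175])))), (1, (let yq176 : List ℤ := (let yq177 : List ℤ := (let yq178 : List ℤ := %[113, -35, -60, -41, -19, -6, -1 | []];
  %[2623, 3754, 3768, 3056, 2059, 1137, 480 | yq178]);
  (let yq179 : type_of% yq177 := %[-20646, -18997, -16096, -12180, -7742, -3413, 189 | yq177];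
  %[-10091, -13515, -16019, -17937, -19472, -20598, -21093 | yq179]));
  (let yq180 : type_of% yq176 := (let yq181 : type_of% yq176 := %[23892, 22473, 18714, 13167, 6705, 240, -5495 | yq176];
  %[3328, 4960, 7737, 11544, 15897, 19997, 22922 | yq181]);
  (let yq182 : type_of% yq180 := %[981, 1598, 2166, 2517, 2593, 2531, 2643 | yq180];
  %[-1, -7, -21, -31, 4, 151, 473 | yq182])))), (2, (let yq183 : List ℤ := (let yq184 : List ℤ := (let yq185 : List ℤ := (let yq186 : List ℤ := %[-32, -14, -5, -1 | []];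
  %[159, -38, -79, -60 | yq186]);
  %[17830, 13799, 9775, 6268, 3580, 1758, 684 | yq185]);
  (let yq187 : type_of% yq184 := %[10593, 15477, 19701, 22671, 23968, 23445, 21251 | yq184];
  %[-13473, -11152, -8747, -6050, -2836, 1064, 5632 | yq187]));
  (let yq188 : type_of% yq183 := (let yq189 : type_of% yq183 := %[-19784, -21023, -21485, -21063, -19825, -17981, -15787 | yq183];
  %[-6473, -8016, -9732, -11636, -13711, -15882, -17985 | yq189]);
  (let yq190 : type_of% yq188 := %[-250, -577, -1094, -1817, -2736, -3830, -5080 | yq188];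
  %[0, 1, 5, 12, 16, -1, -74 | yq190])))), (3, (let yq191 : List ℤ := (let yq192 : List ℤ := (let yq193 : List ℤ := %[-108, 36, 60, 41, 19, 6, 1 | []];
  %[-3168, -3991, -3829, -3039, -2025, -1112, -467 | yq193]);
  (let yq194 : type_of% yq192 := %[18210, 16102, 13187, 9577, 5636, 1876, -1181 | yq192];
  %[25210, 25567, 24701, 23346, 22000, 20825, 19672 | yq194]));
  (let yq195 : type_of% yq191 := (let yq196 : type_of% yq191 := %[-23490, -16518, -7575, 2046, 10979, 18129, 22886 | yq191];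
  %[-7922, -12488, -17681, -22747, -26714, -28588, -27611 | yq196]);
  (let yq197 : type_of% yq195 := %[40, 74, 64, -123, -729, -2065, -4414 | yq195];
  %[0, 0, 0, 0, 0, 2, 13 | yq197])))), (4, (let yq198 : List ℤ := (let yq199 : List ℤ := (let yq200 : List ℤ := (let yq201 : List ℤ := %[76, 36, 12, 2 | []];
  %[-532, -34, 124, 122 | yq201]);
  %[-25566, -20968, -15718, -10728, -6592, -3562, -1614 | yq200]);
  (let yq202 : type_of% yq199 := (let yq203 : type_of% yq199 := %[-18642, -25412, -28624, -28448 | yq199];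
  %[29528, 16718, 3502, -8708 | yq203]);
  %[41816, 48602, 53420, 55422, 54040, 49046, 40648 | yq202]));
  (let yq204 : type_of% yq198 := (let yq205 : type_of% yq198 := (let yq206 : type_of% yq198 := %[13676, 19236, 26232, 34042 | yq198];
  %[8068, 7420, 7852, 9864 | yq206]);
  %[4804, 6824, 8678, 9990, 10496, 10144, 9174 | yq205]);
  (let yq207 : type_of% yq204 := %[-32, -46, -8, 178, 660, 1576, 2980 | yq204];
  %[0, 0, 0, 0, 0, -2, -12 | yq207])))), (5, (let yq208 : List ℤ := (let yq209 : List ℤ := (let yq210 : List ℤ := (let yq211 : List ℤ := %[-121, -55, -18, -3 | []];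
  %[730, 2, -221, -203 | yq211]);
  %[25331, 23145, 18855, 13748, 8900, 4990, 2293 | yq210]);
  (let yq212 : type_of% yq209 := (let yq213 : type_of% yq209 := %[-3350, 9714, 19097, 24243 | yq209];
  %[-63840, -50882, -35348, -18906 | yq213]);
  %[-37040, -50642, -62588, -71652, -76811, -77341, -72932 | yq212]));
  (let yq214 : type_of% yq208 := (let yq215 : type_of% yq208 := (let yq216 : type_of% yq208 := %[10613, 1722, -9758, -23026 | yq208];
  %[16903, 19115, 19195, 16465 | yq216]);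
  %[63, 512, 1532, 3353, 6080, 9586, 13434 | yq215]);
  (let yq217 : type_of% yq214 := %[0, 0, -1, -8, -29, -61, -65 | yq214];
  %[0, 0, 0, 0, 0, 0, 0 | yq217])))), (6, (let yq218 : List ℤ := (let yq219 : List ℤ := (let yq220 : List ℤ := (let yq221 : List ℤ := %[-58, -30, -11, -2 | []];
  %[523, 113, -54, -82 | yq221]);
  %[8689, 8649, 7535, 5856, 4064, 2479, 1286 | yq220]);
  (let yq222 : type_of% yq219 := (let yq223 : type_of% yq219 := %[-7089, -841, 4050, 7235 | yq219];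
  %[-32373, -27397, -21107, -14089 | yq223]);
  %[-28235, -31453, -34213, -36301, -37455, -37363, -35719 | yq222]));
  (let yq224 : type_of% yq218 := (let yq225 : type_of% yq218 := (let yq226 : type_of% yq218 := %[-12924, -16887, -20857, -24679 | yq218];
  %[-1113, -3087, -5805, -9153 | yq226]);
  %[34, 149, 349, 592, 757, 664, 104 | yq225]);
  (let yq227 : type_of% yq224 := %[0, 0, 0, -1, -6, -14, -10 | yq224];
  %[0, 0, 0, 0, 0, 0, 0 | yq227])))), (7, (let yq228 : List ℤ := (let yq229 : List ℤ := (let yq230 : List ℤ := (let yq231 : List ℤ := %[38, 18, 6, 1 | []];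
  %[-266, -17, 62, 61 | yq231]);
  (let yq232 : type_of% yq230 := %[-5364, -3296, -1781, -807 | yq230];
  %[-14224, -12783, -10484, -7859 | yq232]));
  (let yq233 : type_of% yq229 := (let yq234 : type_of% yq229 := %[-4354, -9321, -12706, -14312 | yq229];
  %[20324, 14764, 8359, 1751 | yq234]);
  %[17021, 20908, 24301, 26710, 27711, 27020, 24523 | yq233]));
  (let yq235 : type_of% yq228 := (let yq236 : type_of% yq228 := (let yq237 : type_of% yq228 := %[4932, 6838, 9618, 13116 | yq228];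
  %[4587, 4034, 3710, 3926 | yq237]);
  %[1490, 2402, 3412, 4339, 4995, 5248, 5072 | yq236]);
  (let yq238 : type_of% yq235 := (let yq239 : type_of% yq235 := %[-4, 89, 330, 788 | yq235];
  %[-1, -6, -16, -23 | yq239]);
  %[0, 0, 0, 0, 0, 0, 0 | yq238])))), (9, (let yq240 : List ℤ := (let yq241 : List ℤ := (let yq242 : List ℤ := (let yq243 : List ℤ := %[140, 51, 14, 2 | []];
  %[1758, 1129, 648, 325 | yq243]);
  (let yq244 : type_of% yq242 := %[2575, 3143, 2997, 2447 | yq242];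
  %[-10261, -5657, -1792, 982 | yq244]));
  (let yq245 : type_of% yq241 := (let yq246 : type_of% yq241 := %[-20378, -20849, -18769, -14933 | yq241];
  %[9005, -1452, -10395, -16880 | yq246]);
  %[37734, 41587, 43052, 41570, 36919, 29379, 19713 | yq245]));
  (let yq247 : type_of% yq240 := (let yq248 : type_of% yq240 := (let yq249 : type_of% yq240 := %[14378, 19951, 26103, 32281 | yq240];
  %[1847, 3559, 6143, 9734 | yq249]);
  (let yq250 : type_of% yq248 := %[-42, 28, 268, 817 | yq248];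
  %[-1, -7, -22, -41 | yq250]));
  (let yq251 : type_of% yq247 := (let yq252 : type_of% yq247 := %[0, 0, 0, 0 | yq247];
  %[0, 0, 0, 0 | yq252]);
  %[0, 0, 0, 0, 0, 0, 0 | yq251])))), (10, (let yq253 : List ℤ := (let yq254 : List ℤ := (let yq255 : List ℤ := (let yq256 : List ℤ := %[175, 73, 21, 3 | []];
  %[-247, 342, 438, 321 | yq256]);
  %[-17543, -17561, -15144, -11410, -7438, -4040, -1634 | yq255]);
  (let yq257 : type_of% yq254 := (let yq258 : type_of% yq254 := %[13949, 2329, -7474, -14261 | yq254];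
  %[45210, 42570, 35747, 25692 | yq258]);
  %[2499, 7028, 13598, 21730, 30402, 38177, 43527 | yq257]));
  (let yq259 : type_of% yq253 := (let yq260 : type_of% yq253 := (let yq261 : type_of% yq253 := %[-712, -1073, -1027, -37 | yq253];
  %[54, 48, -55, -314 | yq261]);
  %[0, 0, 0, 0, 1, 8, 28 | yq260]);
  (let yq262 : type_of% yq259 := (let yq263 : type_of% yq259 := %[0, 0, 0, 0 | yq259];
  %[0, 0, 0, 0 | yq263]);
  %[0, 0, 0, 0, 0, 0, 0 | yq262])))), (11, (let yq264 : List ℤ := (let yq265 : List ℤ := (let yq266 : List ℤ := (let yq267 : List ℤ := %[-196, -66, -16, -2 | []];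
  %[-2890, -1803, -994, -477 | yq267]);
  (let yq268 : type_of% yq266 := %[-4922, -5643, -5202, -4126 | yq266];
  %[14382, 7524, 1642, -2573 | yq268]));
  (let yq269 : type_of% yq265 := (let yq270 : type_of% yq265 := %[27500, 28785, 26352, 21113 | yq265];
  %[-9734, 2186, 13374, 22207 | yq270]);
  (let yq271 : type_of% yq269 := %[-35022, -33901, -29022, -20645 | yq269];
  %[-16082, -22176, -28110, -32783 | yq271])));
  (let yq272 : type_of% yq264 := (let yq273 : type_of% yq264 := (let yq274 : type_of% yq264 := %[-1696, -3511, -6448, -10675 | yq264];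
  %[-12, -67, -248, -710 | yq274]);
  (let yq275 : type_of% yq273 := %[0, 0, 0, -1 | yq273];
  %[0, 0, 0, 0 | yq275]));
  (let yq276 : type_of% yq272 := (let yq277 : type_of% yq272 := %[0, 0, 0, 0 | yq272];
  %[0, 0, 0, 0 | yq277]);
  %[0, 0, 0, 0, 0, 0, 0 | yq276])))), (12, (let yq278 : List ℤ := (let yq279 : List ℤ := (let yq280 : List ℤ := (let yq281 : List ℤ := %[142, 52, 14, 2 | []];
  %[1595, 1056, 623, 321 | yq281]);
  (let yq282 : type_of% yq280 := %[2657, 2860, 2647, 2170 | yq280];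
  %[-3223, -1160, 617, 1920 | yq282]));
  (let yq283 : type_of% yq279 := (let yq284 : type_of% yq279 := %[-9086, -8450, -7138, -5313 | yq279];
  %[-5529, -7010, -8237, -8989 | yq284]);
  (let yq285 : type_of% yq283 := %[-881, -1630, -2691, -4026 | yq283];
  %[-11, -54, -171, -420 | yq285])));
  (let yq286 : type_of% yq278 := (let yq287 : type_of% yq278 := (let yq288 : type_of% yq278 := %[0, 0, 0, -1 | yq278];
  %[0, 0, 0, 0 | yq288]);
  (let yq289 : type_of% yq287 := %[0, 0, 0, 0 | yq287];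
  %[0, 0, 0, 0 | yq289]));
  (let yq290 : type_of% yq286 := (let yq291 : type_of% yq286 := %[0, 0, 0, 0 | yq286];
  %[0, 0, 0, 0 | yq291]);
  %[0, 0, 0, 0, 0, 0, 0 | yq290]))))]), (6, [(0, (let yq292 : List ℤ := (let yq293 : List ℤ := (let yq294 : List ℤ := %[-42, -11, 4, 6, 2 | []];
  %[524, 150, -65, -125, -90 | yq294]);
  (let yq295 : type_of% yq293 := %[1227, 1579, 1679, 1455, 1003 | yq293];
  %[811, 662, 521, 547, 818 | yq295]));
  (let yq296 : type_of% yq292 := (let yq297 : type_of% yq292 := %[1672, 1127, 819, 785, 841 | yq292];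
  %[1117, 1841, 2379, 2515, 2226 | yq297]);
  (let yq298 : type_of% yq296 := %[-232, -261, -203, 18, 461 | yq296];
  %[-2, -14, -47, -103, -170 | yq298])))), (1, (let yq299 : List ℤ := (let yq300 : List ℤ := (let yq301 : List ℤ := %[-35, 19, 29, 22, 10, 2 | []];
  %[28, -415, -560, -503, -345, -164 | yq301]);
  (let yq302 : type_of% yq300 := %[3230, 2994, 2677, 2155, 1472, 717 | yq300];
  %[8875, 7133, 5584, 4402, 3638 | yq302]));
  (let yq303 : type_of% yq299 := (let yq304 : type_of% yq299 := %[10254, 11676, 12496, 12584, 11894, 10561 | yq299];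
  %[3244, 3596, 4232, 5275, 6729, 8483 | yq304]);
  (let yq305 : type_of% yq303 := %[549, 968, 1509, 2082, 2585, 2961 | yq303];
  %[1, 9, 40, 119, 276 | yq305])))), (2, (let yq306 : List ℤ := (let yq307 : List ℤ := (let yq308 : List ℤ := %[126, 112, 68, 32, 11, 2 | []];
  %[-5175, -3415, -1953, -906, -276, 30 | yq308]);
  (let yq309 : type_of% yq307 := %[-11427, -11412, -11015, -10141, -8781, -7046 | yq307];
  %[-12065, -11633, -11269, -11090, -11104, -11254 | yq309]));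
  (let yq310 : type_of% yq306 := (let yq311 : type_of% yq306 := %[-10627, -11428, -12076, -12486, -12591, -12420 | yq306];
  %[-4896, -6006, -7032, -7974, -8865, -9751 | yq311]);
  (let yq312 : type_of% yq310 := %[-208, -490, -979, -1705, -2649, -3746 | yq310];
  %[0, 0, -2, -17, -71 | yq312])))), (3, (let yq313 : List ℤ := (let yq314 : List ℤ := (let yq315 : List ℤ := %[33, -19, -29, -22, -10, -2 | []];
  %[105, 468, 570, 496, 333, 156 | yq315]);
  (let yq316 : type_of% yq314 := %[-2987, -2697, -2349, -1842, -1196, -498 | yq314];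
  %[-10520, -7947, -5833, -4338, -3448 | yq316]));
  (let yq317 : type_of% yq313 := (let yq318 : type_of% yq313 := %[-16036, -17713, -18224, -17524, -15752, -13260 | yq313];
  %[-1478, -2783, -4767, -7383, -10402, -13448 | yq318]);
  (let yq319 : type_of% yq317 := %[-14, -45, -96, -178, -350, -729 | yq317];
  %[0, 0, 0, 0, -2 | yq319])))), (4, (let yq320 : List ℤ := (let yq321 : List ℤ := (let yq322 : List ℤ := %[-322, -86, 8, 28, 22, 10, 2 | []];
  %[-3036, -3168, -2756, -2054, -1330, -738 | yq322]);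
  (let yq323 : type_of% yq321 := %[13920, 9756, 5788, 2314, -394, -2166 | yq321];
  %[28040, 27754, 26558, 24480, 21562, 17958 | yq323]));
  (let yq324 : type_of% yq320 := (let yq325 : type_of% yq320 := %[14398, 17778, 20990, 23754, 25916, 27394 | yq320];
  %[1146, 2054, 3462, 5446, 8030, 11086 | yq325]);
  (let yq326 : type_of% yq324 := %[44, 88, 142, 224, 368, 634 | yq324];
  %[0, 0, 0, 0, 2, 14 | yq326])))), (6, (let yq327 : List ℤ := (let yq328 : List ℤ := (let yq329 : List ℤ := %[82, -118, -133, -87, -42, -15, -3 | []];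
  %[12325, 9160, 6100, 3560, 1744, 636 | yq329]);
  (let yq330 : type_of% yq328 := %[-6272, 1901, 8695, 13509, 16062, 16428, 14979 | yq328];
  %[-40004, -39412, -36280, -30816, -23492, -15027 | yq330]));
  (let yq331 : type_of% yq327 := (let yq332 : type_of% yq327 := %[-2820, -8431, -14967, -21867, -28474, -34105, -38126 | yq327];
  %[3480, 4720, 5546, 5517, 4239, 1470 | yq332]);
  (let yq333 : type_of% yq331 := %[-37, -13, 128, 494, 1182, 2214 | yq331];
  %[0, 0, 0, -1, -7, -22 | yq333])))), (7, (let yq334 : List ℤ := (let yq335 : List ℤ := (let yq336 : List ℤ := %[-161, -43, 4, 14, 11, 5, 1 | []];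
  %[-1518, -1584, -1378, -1027, -665, -369 | yq336]);
  (let yq337 : type_of% yq335 := %[8979, 6960, 4878, 2894, 1157, -197, -1083 | yq335];
  %[13697, 14020, 13877, 13279, 12240, 10781 | yq337]));
  (let yq338 : type_of% yq334 := (let yq339 : type_of% yq334 := %[4015, 5543, 7199, 8889, 10495, 11877, 12958 | yq334];
  %[184, 317, 573, 1027, 1731, 2723 | yq339]);
  (let yq340 : type_of% yq338 := %[1, 7, 22, 44, 71, 112 | yq338];
  %[0, 0, 0, 0, 0, 0 | yq340])))), (9, (let yq341 : List ℤ := (let yq342 : List ℤ := (let yq343 : List ℤ := %[368, 289, 184, 96, 42, 15, 3 | []];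
  %[-5221, -3834, -2431, -1239, -373, 142, 354 | yq343]);
  (let yq344 : type_of% yq342 := %[858, -1720, -3972, -5683, -6667, -6851, -6309 | yq342];
  %[13390, 12165, 10507, 8471, 6123, 3540 | yq344]));
  (let yq345 : type_of% yq341 := (let yq346 : type_of% yq341 := %[7224, 9420, 11399, 12953, 13954, 14346, 14138 | yq341];
  %[-205, -173, 65, 639, 1654, 3148, 5058 | yq346]);
  (let yq347 : type_of% yq345 := %[0, 0, -1, -8, -31, -79, -148 | yq345];
  %[0, 0, 0, 0, 0, 0 | yq347])))), (10, (let yq348 : List ℤ := (let yq349 : List ℤ := (let yq350 : List ℤ := %[1136, 726, 403, 192, 75, 21, 3 | []];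
  %[-1295, 290, 1342, 1828, 1841, 1552 | yq350]);
  (let yq351 : type_of% yq349 := %[-6257, -7525, -7686, -6828, -5217, -3237 | yq349];
  %[7795, 6704, 4664, 1916, -1136, -4014 | yq351]));
  (let yq352 : type_of% yq348 := (let yq353 : type_of% yq348 := %[1817, 2995, 4427, 5922, 7190, 7906 | yq348];
  %[1, 10, 50, 170, 447, 972 | yq353]);
  (let yq354 : type_of% yq352 := %[0, 0, 0, 0, 0, 0 | yq352];
  %[0, 0, 0, 0, 0, 0 | yq354])))), (11, (let yq355 : List ℤ := (let yq356 : List ℤ := (let yq357 : List ℤ := %[-530, -377, -229, -120, -54, -18, -3 | []];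
  %[550, 251, -80, -387, -607, -690, -648 | yq357]);
  (let yq358 : type_of% yq356 := %[3293, 2476, 1798, 1331, 1052, 898, 763 | yq356];
  %[-2200, 80, 2109, 3596, 4378, 4477, 4044 | yq358]));
  (let yq359 : type_of% yq355 := (let yq360 : type_of% yq355 := %[-4316, -5685, -6785, -7338, -7143, -6126, -4387 | yq355];
  %[-10, -50, -170, -447, -971, -1808, -2956 | yq360]);
  (let yq361 : type_of% yq359 := %[0, 0, 0, 0, 0, 0, -1 | yq359];
  %[0, 0, 0, 0, 0, 0 | yq361])))), (12, (let yq362 : List ℤ := (let yq363 : List ℤ := (let yq364 : List ℤ := %[268, 205, 136, 78, 39, 15, 3 | []];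
  %[281, 294, 306, 323, 342, 343, 316 | yq364]);
  (let yq365 : type_of% yq363 := %[-1122, -746, -398, -114, 92, 212, 262 | yq363];
  %[-1078, -1403, -1674, -1839, -1856, -1722, -1465 | yq365]));
  (let yq366 : type_of% yq362 := (let yq367 : type_of% yq362 := %[-1, -9, -39, -112, -248, -461, -748 | yq362];
  %[0, 0, 0, 0, 0, 0, 0 | yq367]);
  (let yq368 : type_of% yq366 := %[0, 0, 0, 0, 0, 0, 0 | yq366];
  %[0, 0, 0, 0, 0, 0 | yq368]))))]), (5, [(beta% delta% lq260c0d98e3 fun a b _ _ f _ _ _ =>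
 (f 0 (a 1<|a 6<|a 15<|a 24<|a 25<|a 13<|a (-17)<|a (-59)<|a (-95)<|a (-105)<|a (-97)<|a (-87)<|a (-80)<|a (-74)<|a (-75)<|a (-74)<|a (-58)<|a (-33)<|a (-14)<|a (-1)<|a 5<|a 5<|a 2<|a 1<|b)) :
 Fin 13 × List ℤ), (beta% delta% lq260c0d98e3 fun a b _ _ f _ _ _ =>
 (f 1 (a (-1)<|a (-6)<|a (-17)<|a (-33)<|a (-51)<|a (-69)<|a (-86)<|a (-101)<|a (-121)<|a (-160)<|a (-216)<|a (-271)<|a (-329)<|a (-396)<|a (-443)<|a (-447)<|a (-426)<|a (-385)<|a (-308)<|a (-212)<|a (-124)<|a (-48)<|a 13<|a 44<|a 48<|a 39<|a 25<|a 12<|a 4<|a 1<|b)) :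
 Fin 13 × List ℤ), (beta% delta% lq260c0d98e3 fun a b _ _ f _ _ _ =>
 (f 2 (a 0<|a 1<|a 4<|a 10<|a 21<|a 38<|a 62<|a 94<|a 135<|a 187<|a 254<|a 332<|a 418<|a 510<|a 596<|a 663<|a 707<|a 720<|a 693<|a 635<|a 552<|a 449<|a 341<|a 243<|a 158<|a 92<|a 49<|a 23<|a 9<|a 3<|a 1<|b)) :
 Fin 13 × List ℤ), (beta% delta% lq260c0d98e3 fun a b _ _ f _ _ _ =>
 (f 3 (a 0<|a 0<|a 0<|a 0<|a 0<|a 2<|a 11<|a 33<|a 76<|a 146<|a 237<|a 335<|a 434<|a 521<|a 569<|a 568<|a 531<|a 459<|a 350<|a 231<|a 128<|a 44<|a (-18)<|a (-47)<|a (-49)<|a (-39)<|a (-25)<|a (-12)<|a (-4)<|a (-1)<|b)) :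
 Fin 13 × List ℤ), (4, (let yq369 : List ℤ := (let yq370 : List ℤ := (let yq371 : List ℤ := %[-60, -34, -18, -8, -2 | []];
  %[-232, -176, -128, -92 | yq371]);
  (let yq372 : type_of% yq370 := %[-460, -404, -336, -282 | yq370];
  %[-536, -552, -528, -494 | yq372]));
  (let yq373 : type_of% yq369 := (let yq374 : type_of% yq369 := %[-304, -388, -452, -496 | yq369];
  %[-54, -100, -160, -226 | yq374]);
  (let yq375 : type_of% yq373 := %[0, -2, -10, -26 | yq373];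
  %[0, 0, 0, 0 | yq375])))), (7, (let yq376 : List ℤ := (let yq377 : List ℤ := (let yq378 : List ℤ := %[-30, -17, -9, -4, -1 | []];
  %[-116, -88, -64, -46 | yq378]);
  (let yq379 : type_of% yq377 := %[-247, -230, -202, -168, -141 | yq377];
  %[-248, -268, -276, -264 | yq379]));
  (let yq380 : type_of% yq376 := (let yq381 : type_of% yq376 := %[-80, -113, -152, -194, -226 | yq376];
  %[-5, -13, -27, -50 | yq381]);
  (let yq382 : type_of% yq380 := %[0, 0, 0, -1 | yq380];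
  %[0, 0, 0, 0 | yq382]))))]), (beta% delta% lq260c0d98e3 fun a b _ _ f _ _ _ =>
 (f 11 (a (f 9 (a 1<|a 3<|a 7<|a 12<|a 17<|a 18<|a 17<|a 11<|a 3<|a (-3)<|a (-4)<|a (-6)<|a (-3)<|a 2<|a 2<|a (-1)<|a 0<|a (-2)<|a (-5)<|a (-4)<|a (-2)<|a (-2)<|a (-1)<|b))<|a (f 10 (a 0<|a (-1)<|a (-2)<|a (-2)<|a 2<|a 10<|a 21<|a 27<|a 27<|a 21<|a 10<|a (-5)<|a (-14)<|a (-15)<|a (-13)<|a (-10)<|a (-5)<|a (-1)<|b))<|a (f 11 (a 0<|a 1<|a 2<|a 2<|a (-2)<|a (-10)<|a (-22)<|a (-28)<|a (-26)<|a (-16)<|a (-2)<|a 12<|a 12<|a 5<|a 2<|a (-1)<|a (-8)<|a (-5)<|a 4<|a 6<|a 4<|a 5<|a 4<|a 1<|b))<|a (f 12 (a 0<|a 0<|a 0<|a 0<|a 0<|a 0<|a 0<|a 0<|a 0<|a 1<|a 1<|a (-1)<|a (-4)<|a (-5)<|a (-7)<|a (-6)<|a (-1)<|a 2<|a (-1)<|a (-2)<|a (-1)<|a (-2)<|a (-3)<|a (-1)<|b))<|b)) :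
 Fin 13 × List (Fin 13 × List ℤ)), (beta% delta% lq260c0d98e3 fun a b _ _ f _ _ _ =>
 (f 4 (a (f 0 (a (-1)<|a (-5)<|a (-8)<|a (-9)<|a (-10)<|a (-8)<|a 2<|a 10<|a 11<|a 10<|a 9<|a 5<|a 6<|a 11<|a 12<|a 9<|a 6<|a 2<|a (-1)<|a (-1)<|b))<|a (f 1 (a 1<|a 5<|a 10<|a 14<|a 21<|a 29<|a 31<|a 33<|a 42<|a 50<|a 56<|a 68<|a 79<|a 83<|a 88<|a 90<|a 80<|a 66<|a 54<|a 38<|a 20<|a 8<|a 1<|a (-3)<|a (-3)<|a (-1)<|b))<|a (f 2 (a 0<|a (-1)<|a (-3)<|a (-5)<|a (-9)<|a (-15)<|a (-19)<|a (-23)<|a (-30)<|a (-35)<|a (-39)<|a (-48)<|a (-57)<|a (-63)<|a (-72)<|a (-80)<|a (-81)<|a (-80)<|a (-77)<|a (-67)<|a (-54)<|a (-42)<|a (-29)<|a (-17)<|a (-9)<|a (-4)<|a (-1)<|b))<|a (f 3 (a 0<|a 0<|a 0<|a 0<|a 0<|a 0<|a (-1)<|a (-6)<|a (-16)<|a (-29)<|a (-45)<|a (-64)<|a (-81)<|a (-92)<|a (-98)<|a (-97)<|a (-87)<|a (-72)<|a (-55)<|a (-36)<|a (-19)<|a (-8)<|a (-1)<|a 3<|a 3<|a 1<|b))<|b)) :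
 Fin 13 × List (Fin 13 × List ℤ)), (10, [(10, [1])]), (9, [(9, [1])]), (beta% delta% lq260c0d98e3 fun a b _ _ f _ _ _ =>
 (f 2 (a (f 0 (a (-1)<|b))<|a (f 2 (a 0<|a 1<|a 0<|a 1<|a 1<|a 1<|a 1<|a 1<|a 1<|a 0<|a 1<|b))<|b)) :
 Fin 13 × List (Fin 13 × List ℤ)), (beta% delta% lq260c0d98e3 fun a b _ _ f _ _ _ =>
 (f 3 (a (f 0 (a (-1)<|b))<|a (f 3 (a 0<|a 1<|a 1<|a 0<|a 0<|a 1<|a 1<|b))<|b)) :
 Fin 13 × List (Fin 13 × List ℤ)), (7, [(7, [1])]), (12, [(12, [1])]), (1, [(0, [1])])]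
  dn := (let yq383 : List ℤ := (let yq384 : List ℤ := (let yq385 : List ℤ := %[3, 3, 1, 1, 1 | []];
  %[8, 6, 6, 5, 3 | yq385]);
  (let yq386 : type_of% yq384 := %[11, 11, 11, 9, 9 | yq384];
  %[13, 13, 12, 13, 13 | yq386]));
  (let yq387 : type_of% yq383 := (let yq388 : type_of% yq383 := %[9, 9, 11, 11, 11 | yq383];
  %[3, 5, 6, 6, 8 | yq388]);
  (let yq389 : type_of% yq387 := %[1, 1, 1, 3, 3 | yq387];
  %[0, 0, 0, 0 | yq389])))
  den := 2

theorem ok1 : c1.ok 0 bb kk := by (delta Crt.ok; simp only [H996.Eight.Kq.pEq_eq, H996.Eight.Kq.pZero_eq, H996.Eight.Kq.pPos_eq, H996.Eight.Kq.pNV_eq, H996.Eight.Kq.chkU_eq]; decide +kernel)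

theorem dvd1 : pDvd c1.den c1.dn := by decide +kernel

/-- the eigenvalues of the double cosets -/
def lam (c : Fin 13) : List ℤ := (beta% delta% lq260c0d98e3 fun a b _ _ _ g _ _ =>
 ((a (a 1<|b)<|a (a (-1)<|a (-1)<|a 0<|a (-1)<|a 0<|a 1<|a 2<|a 1<|a 1<|b)<|a (a 0<|a 1<|a 0<|a 1<|a 0<|a (-1)<|a (-3)<|a (-2)<|a (-2)<|a 0<|a 1<|a 1<|b)<|a (a 0<|a 0<|a 0<|a 1<|a 0<|a (-1)<|a (-2)<|a (-1)<|a (-1)<|b)<|a (a 0<|a 0<|a 0<|a (-1)<|a 0<|a 1<|a 3<|a 4<|a 3<|a (-1)<|a (-4)<|a (-5)<|a (-3)<|a 0<|a 1<|b)<|a (a 0<|a 0<|a 0<|a 0<|a 0<|a 0<|a 0<|a (-1)<|a 0<|a 2<|a 3<|a 3<|a 2<|a 0<|a (-1)<|b)<|a (a 0<|a 0<|a 0<|a 0<|a 0<|a 0<|a 0<|a (-1)<|a 0<|a 2<|a 3<|a 3<|a 2<|a 0<|a (-1)<|b)<|a (a 0<|a 0<|a 0<|a 0<|a 0<|a 0<|a 0<|a (-1)<|a (-1)<|a 0<|a 1<|a 1<|a 0<|a (-1)<|a (-1)<|b)<|a (a 0<|a 0<|a 0<|a 0<|a 0<|a 0<|a 0<|a 1<|a 0<|a (-3)<|a (-5)<|a (-4)<|a (-1)<|a 3<|a 4<|a 3<|a 1<|a 0<|a (-1)<|b)<|a (a 0<|a 0<|a 0<|a 0<|a 0<|a 0<|a 0<|a 0<|a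 0<|a 0<|a 1<|a 1<|a 0<|a (-2)<|a (-2)<|a (-3)<|a (-1)<|a 0<|a 1<|a 0<|a 1<|b)<|a (a 0<|a 0<|a 0<|a 0<|a 0<|a 0<|a 0<|a 0<|a 0<|a 0<|a 0<|a 0<|a 0<|a (-1)<|a (-1)<|a (-2)<|a (-1)<|a 0<|a 1<|b)<|a (a 0<|a 0<|a 0<|a 0<|a 0<|a 0<|a 0<|a 0<|a 0<|a 0<|a 0<|a 0<|a 0<|a 1<|a 1<|a 2<|a 1<|a 0<|a (-1)<|a 0<|a (-1)<|a (-1)<|b)<|a (a 0<|a 0<|a 0<|a 0<|a 0<|a 0<|a 0<|a 0<|a 0<|a 0<|a 0<|a 0<|a 0<|a 0<|a 0<|a 0<|a 0<|a 0<|a 0<|a 0<|a 0<|a 1<|b)<|b) :type_of% (g _)).getD c b)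

end Cfsg.Agent.H632.PQ.TabE7f
end

-- part: H632/PQ/KillE7
section
/-!
# `E₇`: the orders `3` and `9` (helper632, for S4612)

The constituent `q⁴ P2⁴ P5 P6² P9 P10 P14 P18 / 2` of `1_P^G`, `P = P_5`, is in the principal `p`-block for `p ∣ q² + q + 1`
and has defect zero for `l ∣ q⁶ + q³ + 1`.
-/

set_option autoImplicit false
set_option maxRecDepth 20000

namespace Cfsg.Agent.H632.PQ

open Cfsg Cfsg.Lie Cfsg.Agent.H317.PQ Cfsg.Agent.H632.PQ.Arith Cfsg.Agent.H996.PQ Cfsg.Agent.H996.Eight.Cert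
  Cfsg.Agent.H64.Dl.Sph Cfsg.Agent.H35.ExcIdx
open Cfsg.Agent.ChevalleyStructure Cfsg.Agent.ChevalleyStructure.CoxeterGeomTypes Cfsg.Agent.Nodes.RGDChev
open CoxeterSystem Cfsg.Agent.ChevalleyStructure.CoxeterGeom Cfsg.Agent.Tits.Roots Cfsg.Agent.Tits.Core

universe u

namespace E7f

/-- the quotients by `Phi 3` -/
def quo (c : Fin 13) : List ℤ := ([[], [-1, -1, 0, -2, -1, 0, -1, -2, 0, -1, -1], (beta% delta% lq260c0d98e3 fun a b _ _ _ _ _ _ =>
 (a 0<|a 1<|a (-1)<|a 1<|a (-1)<|a (-2)<|a (-3)<|a (-1)<|a (-4)<|a (-2)<|a (-2)<|a (-4)<|a (-3)<|a (-2)<|a (-2)<|a (-2)<|a 0<|a (-1)<|b) :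
 List ℤ), (beta% delta% lq260c0d98e3 fun a b _ _ _ _ _ _ =>
 (a 0<|a 0<|a 0<|a 1<|a (-1)<|a (-1)<|a 0<|a 0<|a (-2)<|a 0<|a 0<|a (-2)<|a (-1)<|a 0<|a (-1)<|a (-1)<|b) :
 List ℤ), (beta% delta% lq260c0d98e3 fun a b _ _ _ _ _ _ =>
 (a 0<|a 0<|a 0<|a (-1)<|a 1<|a 1<|a 1<|a 2<|a 0<|a (-4)<|a (-3)<|a (-3)<|a (-5)<|a (-4)<|a (-5)<|a (-8)<|a (-6)<|a (-5)<|a (-6)<|a (-4)<|a (-2)<|a (-2)<|a (-1)<|b) :
 List ℤ), (beta% delta% lq260c0d98e3 fun a b _ _ _ _ _ _ =>
 (a 0<|a 0<|a 0<|a 0<|a 0<|a 0<|a 0<|a (-1)<|a 1<|a 2<|a 0<|a 1<|a 1<|a (-2)<|a (-1)<|a 1<|a (-3)<|a (-3)<|a (-1)<|a (-4)<|a (-4)<|a (-2)<|a (-3)<|a (-3)<|a (-1)<|a (-1)<|a (-1)<|b) :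
 List ℤ), (beta% delta% lq260c0d98e3 fun a b _ _ _ _ _ _ =>
 (a 0<|a 0<|a 0<|a 0<|a 0<|a 0<|a 0<|a (-1)<|a 1<|a 2<|a 0<|a 1<|a 1<|a (-2)<|a (-1)<|a 1<|a (-3)<|a (-3)<|a (-1)<|a (-4)<|a (-4)<|a (-2)<|a (-3)<|a (-3)<|a (-1)<|a (-1)<|a (-1)<|b) :
 List ℤ), (beta% delta% lq260c0d98e3 fun a b _ _ _ _ _ _ =>
 (a 0<|a 0<|a 0<|a 0<|a 0<|a 0<|a 0<|a (-1)<|a 0<|a 1<|a 0<|a 0<|a 0<|a (-1)<|a 0<|a 1<|a (-1)<|a (-1)<|a 1<|a (-1)<|a (-1)<|a 0<|a 0<|a (-1)<|b) :
 List ℤ), (beta% delta% lq260c0d98e3 fun a b _ _ _ _ _ _ =>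
 (a 0<|a 0<|a 0<|a 0<|a 0<|a 0<|a 0<|a 1<|a (-1)<|a (-3)<|a (-1)<|a 0<|a 0<|a 3<|a 1<|a (-1)<|a 1<|a 0<|a (-3)<|a 0<|a (-2)<|a (-6)<|a (-4)<|a (-5)<|a (-8)<|a (-6)<|a (-5)<|a (-6)<|a (-4)<|a (-2)<|a (-2)<|a (-1)<|b) :
 List ℤ), (let yq390 : List ℤ := (let yq391 : List ℤ := (let yq392 : List ℤ := %[-2, -2, -2, 0, -1 | []];
  %[-4, -3, -2, -4, -3 | yq392]);
  (let yq393 : type_of% yq391 := %[0, 1, -2, -2, 0 | yq391];
  %[-1, 0, 2, -2 | yq393]));
  (let yq394 : type_of% yq390 := (let yq395 : type_of% yq390 := %[-1, 0, -2, 1, 1 | yq390];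
  %[0, 1, 0, -1 | yq395]);
  (let yq396 : type_of% yq394 := %[0, 0, 0, 0, 0 | yq394];
  %[0, 0, 0, 0 | yq396]))), (let yq397 : List ℤ := (let yq398 : List ℤ := (let yq399 : List ℤ := %[-2, -1, 0, -1, -1 | []];
  %[0, -2, 0, 0 | yq399]);
  (let yq400 : type_of% yq398 := %[1, 0, -1, 1 | yq398];
  %[0, 1, 0, -1 | yq400]));
  (let yq401 : type_of% yq397 := (let yq402 : type_of% yq397 := %[0, -1, 0, -1 | yq397];
  %[0, 0, 0, 0 | yq402]);
  (let yq403 : type_of% yq401 := %[0, 0, 0, 0 | yq401];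
  %[0, 0, 0, 0 | yq403]))), (let yq404 : List ℤ := (let yq405 : List ℤ := (let yq406 : List ℤ := %[-2, -2, 0, -1, -1 | []];
  %[-1, 1, -2, -2, 0 | yq406]);
  (let yq407 : type_of% yq405 := %[2, -2, 0, 2, -2 | yq405];
  %[-2, 0, 2, -2, 0 | yq407]));
  (let yq408 : type_of% yq404 := (let yq409 : type_of% yq404 := %[1, 0, -1, 0, 1 | yq404];
  %[0, 0, 0, 1, 0 | yq409]);
  (let yq410 : type_of% yq408 := %[0, 0, 0, 0, 0 | yq408];
  %[0, 0, 0, 0, 0 | yq410]))), (let yq411 : List ℤ := (let yq412 : List ℤ := (let yq413 : List ℤ := %[0, 1, -1, 0, 1, -1 | []];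
  %[1, -1, 0, 1, -1 | yq413]);
  (let yq414 : type_of% yq412 := %[-1, 0, 1, -1, 0 | yq412];
  %[0, 1, -1, 0, 1 | yq414]));
  (let yq415 : type_of% yq411 := (let yq416 : type_of% yq411 := %[0, 0, 0, 0, 0 | yq411];
  %[0, 0, 0, 0, 0 | yq416]);
  (let yq417 : type_of% yq415 := %[0, 0, 0, 0, 0 | yq415];
  %[0, 0, 0, 0, 0 | yq417])))] : List (List ℤ)).getD c []

/-- the factors of the order -/
def od : List (ℕ × ℕ) :=
  (beta% delta% lq260c0d98e3 fun a b _ _ f _ _ _ =>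
 (a (f 1 7)<|a (f 2 7)<|a (f 3 3)<|a (f 4 2)<|a (f 5 1)<|a (f 6 3)<|a (f 7 1)<|a (f 8 1)<|a (f 9 1)<|a (f 10 1)<|a (f 12 1)<|a (f 14 1)<|a (f 18 1)<|b))

/-- certificate of defect zero -/
def dz : DzC 1 :=
  ⟨9, 0, [9], (let yq418 : List ℤ := (let yq419 : List ℤ := (let yq420 : List ℤ := %[2, 2, 1, 1, 1 | []];
  %[3, 3, 2, 2 | yq420]);
  (let yq421 : type_of% yq419 := %[5, 4, 4, 4 | yq419];
  %[5, 4, 4, 4 | yq421]));
  (let yq422 : type_of% yq418 := (let yq423 : type_of% yq418 := %[3, 4, 4, 4 | yq418];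
  %[2, 2, 2, 3 | yq423]);
  (let yq424 : type_of% yq422 := %[1, 1, 1, 2 | yq422];
  %[0, 0, 0, 0 | yq424]))), (beta% delta% lq260c0d98e3 fun a b _ _ f _ _ _ =>
 (a (f 1<|f 3<|f (a (-2)<|a (-2)<|a (-2)<|a (-1)<|a (-1)<|a (-1)<|b) (a 1<|b))<|a (f 2<|f 1<|f (a 0<|a 0<|a 0<|a (-1)<|a 1<|a (-1)<|b) (a 1<|b))<|a (f 3<|f 3<|f (a 2<|a (-2)<|a 0<|a 1<|a (-1)<|b) (a 1<|b))<|a (f 4<|f 1<|f (a 1<|a (-1)<|a (-1)<|a 1<|a 0<|a (-1)<|b) (a 0<|a 1<|b))<|a (f 5<|f 1<|f (a 1<|a 0<|a 0<|a 0<|a 0<|a 1<|b) (a 0<|a (-1)<|a (-1)<|a (-1)<|b))<|a (f 6<|f 1<|f (a 0<|a 0<|a 0<|a (-1)<|a (-1)<|b) (a 1<|b))<|a (f 7<|f 1<|f (a 1<|a (-1)<|a 0<|a 1<|a (-1)<|a 1<|b) (a 0<|a 0<|a 0<|a (-1)<|a 0<|a (-1)<|b))<|a (f 8<|f 1<|f (a 0<|a (-1)<|a (-1)<|a (-1)<|a (-1)<|b) (a 1<|a 1<|a 1<|b))<|a (f 10<|f 1<|f (a 1<|a 2<|a 2<|a 2<|a 2<|a 1<|b) (a 0<|a (-1)<|a (-1)<|a (-1)<|b))<|a (f 12<|f 1<|f (a 1<|a 0<|a 1<|a 1<|a 0<|a 1<|b) (a 0<|a 0<|a 0<|a (-1)<|b))<|a (f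 14<|f 1<|f (a (-1)<|a 1<|a 2<|a (-1)<|a (-1)<|a 1<|b) (a 2<|a (-2)<|a 0<|a (-1)<|a 2<|a (-1)<|b))<|a (f 18<|f 2<|f (a 1<|a 0<|a 0<|a 1<|b) (a 1<|a 0<|a 0<|a (-1)<|b))<|b))⟩

theorem dz_ok : dz.ok (polOf TabE7f.c1) od = true := by decide +kernel

theorem lam_ok : ∀ c, pEq (pMul (TabE7f.lam c) (TabE7f.c1.nu 0)) (pMul (TabE7f.kk c) (TabE7f.c1.nu c)) = true := by
  (simp only [H996.Eight.Kq.pEq_eq]; decide +kernel)

theorem quo_ok : ∀ c, pEq (pAdd (TabE7f.lam c) (pNeg (TabE7f.kk c))) (pMul (Phi 3) (quo c)) = true := by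
  (simp only [H996.Eight.Kq.pEq_eq]; decide +kernel)

theorem hA : cartanOf chevE7 7 = TabE7f.A := H996.PQ.FullE7c.hA

theorem cls0 : TabE7f.data.t.cls TabE7f.data.t.o = 0 := by decide +kernel

theorem card_dvd (K : Type u) [Field K] [Fintype K] : ((Nat.card ↥(chevE7.group K) : ℕ) : ℤ) ∣
    ((Fintype.card K : ℕ) : ℤ) ^ 63 * (od.map fun d => evZ (Fintype.card K : ℕ) (Phi d.1) ^ d.2).prod := by
  have h := S1064.result (F := K) rfl
  obtain ⟨x, hx⟩ : ∃ x, x = Fintype.card K := ⟨_, rfl⟩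
  rw [← hx] at h ⊢
  have h1 : 1 ≤ x := by rw [hx]; exact Fintype.card_pos
  have h2 := congrArg (fun n : ℕ => (n : ℤ)) h
  simp only [Nat.cast_mul, Nat.cast_pow, Nat.cast_sub (Nat.one_le_pow _ _ h1), Nat.cast_one] at h2
  refine ⟨(Nat.gcd 2 (x - 1) : ℕ), ?_⟩
  rw [mul_comm (Nat.card _ : ℤ), h2]
  have e7 : evZ (x : ℤ) (Phi 7) = (x : ℤ) ^ 6 + (x : ℤ) ^ 5 + (x : ℤ) ^ 4 + (x : ℤ) ^ 3 + (x : ℤ) ^ 2 + x + 1 := by
    show evZ x [1, 1, 1, 1, 1, 1, 1] = _
    simp only [evZ]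
    ring
  have e14 : evZ (x : ℤ) (Phi 14) = (x : ℤ) ^ 6 - (x : ℤ) ^ 5 + (x : ℤ) ^ 4 - (x : ℤ) ^ 3 + (x : ℤ) ^ 2 - x + 1 := by
    show evZ x [1, -1, 1, -1, 1, -1, 1] = _
    simp only [evZ]
    ring
  simp only [od, List.map_cons, List.map_nil, List.prod_cons, List.prod_nil, ev1, ev2, ev3, ev4, ev5, ev6, e7, ev8,
    ev9, ev10, ev12, e14, ev18]
  ring

end E7f

/-- **Type `E₇`, the orders `3` and `9`.** -/
theorem kill_E7_39 (K : Type u) [Field K] [Fintype K] : Kill ↥(chevE7.group K) (Fintype.card K) 3 9 :=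
  split_kill_sl hpE7 K E7f.hA TabE7f.data (by decide +kernel) TabE7f.c1 E7f.cls0 TabE7f.ok1 TabE7f.dvd1 E7f.lam_ok
    (by decide) E7f.quo_ok E7f.dz_ok rfl (E7f.card_dvd K)

end Cfsg.Agent.H632.PQ
end

-- part: H154/PQE/Bad
section
/-!
# S4612, `E₇(q)`, primes of orders 5 and 10: the other double cosets (helper154)
-/

set_option autoImplicit false
set_option linter.unusedSectionVars false
set_option maxRecDepth 100000

namespace Cfsg.Agent.H154.PQE

open CoxeterSystem Cfsg Cfsg.Lie Cfsg.Lie.ChevalleyDatum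
open Cfsg.Agent.ChevalleyStructure Cfsg.Agent.ChevalleyStructure.Elts Cfsg.Agent.ChevalleyStructure.CoxeterGeom
  Cfsg.Agent.ChevalleyStructure.CoxeterGeomTypes Cfsg.Agent.ChevalleyStructure.RootVec
  Cfsg.Agent.ChevalleyStructure.RootVecTab Cfsg.Agent.ChevalleyStructure.NPerm
open Cfsg.Agent.Tits.Roots Cfsg.Agent.Tits.Core Cfsg.Agent.Nodes Cfsg.Agent.Nodes.Reps Cfsg.Agent.Nodes.BNOf
  Cfsg.Agent.Nodes.RGDChev Cfsg.Agent.H35.ExcIdx Cfsg.Agent.Nodes.StabComb Cfsg.Agent.Nodes.Bruhat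
  Cfsg.Agent.Nodes.LeviDec Cfsg.Agent.Nodes.OppDec Cfsg.Agent.Tits.Exchange Cfsg.Agent.H739.PQ.E7
open scoped Matrix

universe u

variable {K : Type u} [Field K]

/-! ### subspaces spanned by basis vectors -/

/-- the vectors supported on `P` -/
def coordSub (K : Type u) [Field K] (P : Fin 5 → Prop) : Submodule K (Fin 5 → K) where
  carrier := {v | ∀ i, ¬ P i → v i = 0}
  zero_mem' := fun _ _ => rfl
  add_mem' := fun {a} {b} ha hb i hi => by rw [Pi.add_apply, ha i hi, hb i hi, add_zero]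
  smul_mem' := fun c x hx i hi => by rw [Pi.smul_apply, hx i hi, smul_zero]

theorem single_mem {P : Fin 5 → Prop} {j : Fin 5} (hj : P j) (c : K) : Pi.single j c ∈ coordSub K P := by
  intro i hi
  rw [Pi.single_eq_of_ne]
  rintro rfl
  exact hi hj

theorem coordSub_ne_bot {P : Fin 5 → Prop} {j : Fin 5} (hj : P j) : coordSub K P ≠ ⊥ := by
  intro h
  have h1 : (Pi.single j 1 : Fin 5 → K) ∈ coordSub K P := single_mem hj 1
  rw [h, Submodule.mem_bot] at h1
  have h2 := congrFun h1 j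
  rw [Pi.single_eq_same, Pi.zero_apply] at h2
  exact one_ne_zero h2

theorem coordSub_ne_top {P : Fin 5 → Prop} {j : Fin 5} (hj : ¬ P j) : coordSub K P ≠ ⊤ := by
  intro h
  have h1 : (Pi.single j 1 : Fin 5 → K) ∈ coordSub K P := by rw [h]; exact Submodule.mem_top
  have h2 := h1 j hj
  rw [Pi.single_eq_same] at h2
  exact one_ne_zero h2

theorem pres_coordSub {P : Fin 5 → Prop} {g : GL (Fin 5) K}
    (h : ∀ i j, ¬ P i → P j → (g : Matrix (Fin 5) (Fin 5) K) i j = 0) : Pres g (coordSub K P) := by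
  intro v hv i hi
  rw [Matrix.mulVec, dotProduct]
  refine Finset.sum_eq_zero fun j _ => ?_
  by_cases hj : P j
  · rw [h i j hi hj, zero_mul]
  · rw [hv j hj, mul_zero]

theorem uni_coordSub {P : Fin 5 → Prop} {u : GL (Fin 5) K} (hu : u ∈ Uni (coordSub K P)) {i j : Fin 5}
    (h : ((u : Matrix (Fin 5) (Fin 5) K) - 1) i j ≠ 0) : P i ∧ ¬ P j := by
  obtain ⟨h1, h2⟩ := hu
  have hcol : ((u : Matrix (Fin 5) (Fin 5) K) *ᵥ Pi.single j 1) i = (u : Matrix (Fin 5) (Fin 5) K) i j := by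
    rw [Matrix.mulVec_single_one]; rfl
  constructor
  · by_contra hi
    apply h
    have h3 := h1 (Pi.single j 1) i hi
    rw [Pi.sub_apply, hcol] at h3
    rw [Matrix.sub_apply, ← h3]
    congr 1
    rw [Matrix.one_apply, Pi.single_apply]
  · intro hj
    apply h
    have h3 := congrFun (h2 (Pi.single j 1) (single_mem hj 1)) i
    rw [hcol] at h3
    rw [Matrix.sub_apply, h3, Matrix.one_apply, Pi.single_apply, sub_self]

variable {p : ℕ} (R : RGD cs7 hpE7.isCartan p (TT chevE7 K) (nc K) (XX chevE7 7 K))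

include R

theorem fil_of_conj {w : CoxeterMatrix.E₇.Group} {k : ↥(chevE7.group K)} (hk : Rp cs7 R.nsys w k)
    {z : ↥(chevE7.group K)} (hz : k⁻¹ * z * k ∈ QQ K) {u s : chevE7.Idx}
    (h : ((z : GL chevE7.Idx K) : Matrix chevE7.Idx chevE7.Idx K) u s ≠ 0) :
    lev (rep cs7 hpE7.isCartan w⁻¹ (wt s)) ≤ lev (rep cs7 hpE7.isCartan w⁻¹ (wt u)) := by
  have hM : Mon w (k : GL chevE7.Idx K) := mon_of_rp hk
  have hM' : Mon w⁻¹ ((k⁻¹ : ↥(chevE7.group K)) : GL chevE7.Idx K) := mon_of_rp hk.inv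
  have hz1 := mem_Fil.1 (Subgroup.mem_subgroupOf.1 (QQ_le hz))
  have h1 : ((z : GL chevE7.Idx K) : Matrix chevE7.Idx chevE7.Idx K) =
      ((k : GL chevE7.Idx K) : Matrix chevE7.Idx chevE7.Idx K) *
      (((k⁻¹ * z * k : ↥(chevE7.group K)) : GL chevE7.Idx K) : Matrix chevE7.Idx chevE7.Idx K) *
      (((k⁻¹ : ↥(chevE7.group K)) : GL chevE7.Idx K) : Matrix chevE7.Idx chevE7.Idx K) := by
    rw [← Units.val_mul, ← Units.val_mul, ← Subgroup.coe_mul, ← Subgroup.coe_mul]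
    congr 2
    group
  rw [h1, Matrix.mul_apply] at h
  obtain ⟨b, -, hb⟩ := Finset.exists_ne_zero_of_sum_ne_zero h
  have hb1 := left_ne_zero_of_mul hb
  have hb2 := right_ne_zero_of_mul hb
  rw [Matrix.mul_apply] at hb1
  obtain ⟨a, -, ha⟩ := Finset.exists_ne_zero_of_sum_ne_zero hb1
  have h2 := hz1 a b (right_ne_zero_of_mul ha)
  have h3 := hM u a (left_ne_zero_of_mul ha)
  have h4 := hM' b s hb2
  rw [← h4, h3, rep_inv_apply]
  exact h2

theorem bad_of {w : CoxeterMatrix.E₇.Group} {k : ↥(chevE7.group K)} (hk : Rp cs7 R.nsys w k) {a b : Fin 5}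
    (hab : lev (rep cs7 hpE7.isCartan w⁻¹ (vec chevE7 7 (io a))) ≠
      lev (rep cs7 hpE7.isCartan w⁻¹ (vec chevE7 7 (io b)))) : Bad (rho K) k := by
  let m : Fin 5 → ℤ := fun i => lev (rep cs7 hpE7.isCartan w⁻¹ (vec chevE7 7 (io i)))
  obtain ⟨i0, -, hi0⟩ := Finset.exists_max_image (Finset.univ : Finset (Fin 5)) m ⟨0, Finset.mem_univ _⟩
  have hmax : ∀ i, m i ≤ m i0 := fun i => hi0 i (Finset.mem_univ _)
  let P : Fin 5 → Prop := fun i => m i = m i0
  obtain ⟨j0, hj0⟩ : ∃ j, ¬ P j := by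
    by_contra hcon
    push Not at hcon
    exact hab ((hcon a).trans (hcon b).symm)
  refine ⟨coordSub K P, coordSub_ne_bot (j := i0) rfl, coordSub_ne_top hj0, ?_, ?_⟩
  · intro z hz
    refine pres_coordSub fun i j hi hj => ?_
    by_contra hne
    have h1 := fil_of_conj R hk hz (u := fo i) (s := fo j) hne
    have h2 : m j ≤ m i := h1
    have h3 : m j = m i0 := hj
    exact hi (le_antisymm (hmax i) (by rw [← h3]; exact h2))
  · intro u hu
    let A : Matrix (Fin 5) (Fin 5) K → Prop := fun N => (∀ i j, N i j ≠ 0 → P i ∧ ¬ P j) ∧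
      ∃ z : ↥(QQ K), k⁻¹ * (z : ↥(chevE7.group K)) * k ∈ KQ K ∧ (rho K z : Matrix (Fin 5) (Fin 5) K) = 1 + N
    have hA0 : A 0 := by
      refine ⟨fun i j h => absurd rfl h, 1, ?_, ?_⟩
      · have : k⁻¹ * ((1 : ↥(QQ K)) : ↥(chevE7.group K)) * k = 1 := by
          rw [Subgroup.coe_one]; group
        rw [this]
        exact one_mem _
      · rw [map_one, Units.val_one, add_zero]
    have hAadd : ∀ M N, A M → A N → A (M + N) := by
      rintro M N ⟨hM, zM, hzM, eM⟩ ⟨hN, zN, hzN, eN⟩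
      have hMN : M * N = 0 := by
        ext i j
        rw [Matrix.mul_apply, Matrix.zero_apply]
        refine Finset.sum_eq_zero fun l _ => ?_
        by_contra hne
        exact (hM i l (left_ne_zero_of_mul hne)).2 (hN l j (right_ne_zero_of_mul hne)).1
      refine ⟨fun i j h => ?_, zM * zN, ?_, ?_⟩
      · by_cases h1 : M i j = 0
        · rw [Matrix.add_apply, h1, zero_add] at h
          exact hN i j h
        · exact hM i j h1
      · have : k⁻¹ * ((zM * zN : ↥(QQ K)) : ↥(chevE7.group K)) * k =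
            (k⁻¹ * (zM : ↥(chevE7.group K)) * k) * (k⁻¹ * (zN : ↥(chevE7.group K)) * k) := by
          rw [Subgroup.coe_mul]; group
        rw [this]
        exact mul_mem hzM hzN
      · rw [map_mul, Units.val_mul, eM, eN, mul_add, mul_one, add_mul, one_mul, hMN, add_zero, add_assoc]
    have hAs : ∀ i j c, (c ≠ 0 → P i ∧ ¬ P j) → A (Matrix.single i j c) := by
      intro i j c hc
      by_cases hc0 : c = 0
      · rw [hc0, Matrix.single_zero]
        exact hA0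
      · obtain ⟨hi, hj⟩ := hc hc0
        have hij : i ≠ j := by
          rintro rfl
          exact hj hi
        obtain ⟨z, -, hz, e⟩ := exists_transv hij c
        refine ⟨fun i' j' h => ?_, z, ?_, e⟩
        · by_cases h1 : i' = i ∧ j' = j
          · rw [h1.1, h1.2]
            exact ⟨hi, hj⟩
          · exact absurd (Matrix.single_apply_of_ne i j c i' j' (fun h2 => h1 ⟨h2.1.symm, h2.2.symm⟩)) h
        · have hr := (rij_mem hij).1
          refine XX_le_KQ (hr.act w⁻¹) ?_ (R.conj_mem' hk hr hz)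
          have h1 : vec chevE7 7 (rij i j) = vec chevE7 7 (io i) - vec chevE7 7 (io j) := by
            rw [vec_rij hij, add_sub_cancel_left]
          rw [h1, map_sub, map_sub, sub_pos]
          have h2 : m j ≠ m i0 := hj
          have h3 : m i = m i0 := hi
          have h4 : m j < m i := by
            rw [h3]
            exact lt_of_le_of_ne (hmax j) h2
          exact h4
    have hAu : A ((u : Matrix (Fin 5) (Fin 5) K) - 1) := by
      rw [Matrix.matrix_eq_sum_single ((u : Matrix (Fin 5) (Fin 5) K) - 1)]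
      refine Finset.sum_induction _ A hAadd hA0 fun i _ => ?_
      refine Finset.sum_induction _ A hAadd hA0 fun j _ => ?_
      exact hAs i j _ fun h => uni_coordSub hu h
    obtain ⟨-, z, hz, e⟩ := hAu
    obtain ⟨hz1, hz2⟩ := mem_KQ.1 hz
    refine ⟨z, hz1, Units.ext ?_, hz2⟩
    rw [e, add_sub_cancel]

end Cfsg.Agent.H154.PQE
end

-- part: H154/PQE/Cases
section
/-!
# S4612, `E₇(q)`, primes of orders 5 and 10: the double cosets of the parabolic subgroup (helper154)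
-/

set_option autoImplicit false
set_option linter.unusedSectionVars false
set_option maxRecDepth 100000

namespace Cfsg.Agent.H154.PQE

open CoxeterSystem Cfsg Cfsg.Lie Cfsg.Lie.ChevalleyDatum
open Cfsg.Agent.ChevalleyStructure Cfsg.Agent.ChevalleyStructure.Elts Cfsg.Agent.ChevalleyStructure.CoxeterGeom
  Cfsg.Agent.ChevalleyStructure.CoxeterGeomTypes Cfsg.Agent.ChevalleyStructure.RootVec
  Cfsg.Agent.ChevalleyStructure.RootVecTab Cfsg.Agent.ChevalleyStructure.NPerm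
open Cfsg.Agent.Tits.Roots Cfsg.Agent.Tits.Core Cfsg.Agent.Nodes Cfsg.Agent.Nodes.Reps Cfsg.Agent.Nodes.BNOf
  Cfsg.Agent.Nodes.RGDChev Cfsg.Agent.H35.ExcIdx Cfsg.Agent.Nodes.StabComb Cfsg.Agent.Nodes.Bruhat
  Cfsg.Agent.Nodes.LeviDec Cfsg.Agent.Nodes.OppDec Cfsg.Agent.Tits.Exchange Cfsg.Agent.H739.PQ.E7
open scoped Matrix

universe u

/-! ### the functionals vanishing on the roots of type `A₄` -/

/-- an element fixing the fifth coordinate functional lies in `W_J` (proof of helper967) -/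
theorem mem_WJ_of_fix : ∀ {u : CoxeterMatrix.E₇.Group}, (∀ x, lev (rep cs7 hpE7.isCartan u x) = lev x) → u ∈ WJ cs7 JQ := by
  intro u
  induction hn : cs7.length u using Nat.strong_induction_on generalizing u with
  | _ l ih =>
  intro hu
  by_cases hu1 : u = 1
  · rw [hu1]; exact one_mem _
  obtain ⟨i, hi⟩ := cs7.exists_leftDescent_of_ne_one hu1
  have hi' : cs7.length (cs7.simple i * u) < cs7.length u := hi
  have hij : i ≠ 4 := by
    rintro rfl
    have hneg : rep cs7 hpE7.isCartan u⁻¹ (sr 4) ≤ 0 := by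
      refine nonpos_of_lt cs7 hpE7.isCartan u⁻¹ 4 ?_
      rw [← cs7.length_inv u, ← cs7.length_inv (cs7.simple 4 * u), mul_inv_rev, inv_simple] at hi'
      exact hi'
    have h1 := hu (rep cs7 hpE7.isCartan u⁻¹ (sr 4))
    rw [rep_apply_inv, lev_apply, lev_apply, sr_self] at h1
    have h2 := hneg 4
    rw [← h1] at h2
    exact absurd (show (1 : ℤ) ≤ 0 from h2) (by decide)
  have h1 := ih (cs7.length (cs7.simple i * u)) (by omega) (u := cs7.simple i * u) rfl (fun x => by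
    rw [rep_mul_apply]
    exact (rep_simple_apply cs7 hpE7.isCartan i _ 4 (Ne.symm hij)).trans (hu x))
  have h2 : u = cs7.simple i * (cs7.simple i * u) := by rw [← mul_assoc, simple_mul_simple_self, one_mul]
  rw [h2]
  exact mul_mem (simple_mem_WJ cs7 hij) h1

theorem lev_bound {x : Fin 7 → ℤ} (hx : IsRoot cs7 hpE7.isCartan x) : -3 ≤ lev x ∧ lev x ≤ 3 := by
  obtain ⟨r, rfl⟩ := exists_idx hx
  exact rt_bound r (r.2.trans_eq nroots_eq)

/-- the images of the coordinate functional constant on the five roots -/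
theorem lev_pm {w : CoxeterMatrix.E₇.Group}
    (hc : ∀ i j, lev (rep cs7 hpE7.isCartan w (vec chevE7 7 (io i))) = lev (rep cs7 hpE7.isCartan w (vec chevE7 7 (io j)))) :
    (∀ x, lev (rep cs7 hpE7.isCartan w x) = lev x) ∨ ∀ x, lev (rep cs7 hpE7.isCartan w x) = -lev x := by
  -- the functional on the simple roots
  have hrij : ∀ i j, i ≠ j → lev (rep cs7 hpE7.isCartan w (vec chevE7 7 (rij i j))) = 0 := by
    intro i j hij
    have h1 : vec chevE7 7 (rij i j) = vec chevE7 7 (io i) - vec chevE7 7 (io j) := by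
      rw [vec_rij hij, add_sub_cancel_left]
    rw [h1, map_sub, map_sub, hc i j, sub_self]
  obtain ⟨e0, e1, e2, e3⟩ := rij_simple
  have hs0 : lev (rep cs7 hpE7.isCartan w (sr 0)) = 0 := by
    have := vec_simple hpE7 0
    rw [← this, show chevE7.simple ((0 : Fin 7) : ℕ) = rij 4 3 from e0.symm]
    exact hrij 4 3 (by decide)
  have hs1 : lev (rep cs7 hpE7.isCartan w (sr 1)) = 0 := by
    have := vec_simple hpE7 1
    rw [← this, show chevE7.simple ((1 : Fin 7) : ℕ) = rij 1 0 from e1.symm]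
    exact hrij 1 0 (by decide)
  have hs2 : lev (rep cs7 hpE7.isCartan w (sr 2)) = 0 := by
    have := vec_simple hpE7 2
    rw [← this, show chevE7.simple ((2 : Fin 7) : ℕ) = rij 3 2 from e2.symm]
    exact hrij 3 2 (by decide)
  have hs3 : lev (rep cs7 hpE7.isCartan w (sr 3)) = 0 := by
    have := vec_simple hpE7 3
    rw [← this, show chevE7.simple ((3 : Fin 7) : ℕ) = rij 2 1 from e3.symm]
    exact hrij 2 1 (by decide)
  set a := lev (rep cs7 hpE7.isCartan w (sr 4)) with ha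
  set b := lev (rep cs7 hpE7.isCartan w (sr 5)) with hb
  set c := lev (rep cs7 hpE7.isCartan w (sr 6)) with hcc
  have hx : ∀ x : Fin 7 → ℤ, lev (rep cs7 hpE7.isCartan w x) = x 4 * a + x 5 * b + x 6 * c := by
    intro x
    conv_lhs => rw [sum_sr x]
    rw [map_sum, map_sum, Fin.sum_univ_seven]
    simp only [map_smul, map_zsmul, smul_eq_mul]
    rw [hs0, hs1, hs2, hs3, ← ha, ← hb, ← hcc]
    ring
  -- the sum of the squares
  have hf : ∀ r : Fin 126, ∃ s : Fin 126, vec chevE7 7 s = rep cs7 hpE7.isCartan w (vec chevE7 7 r) := by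
    intro r
    have hr : (r : ℕ) < chevE7.nroots := r.2.trans_eq nroots_eq.symm
    obtain ⟨s, hs⟩ := exists_idx ((isRoot_vec hpE7 cs7 hr).act w)
    exact ⟨⟨s, s.2.trans_eq nroots_eq⟩, hs⟩
  choose f hf using hf
  have hinj : Function.Injective f := by
    intro r s hrs
    have h1 : rep cs7 hpE7.isCartan w (vec chevE7 7 r) = rep cs7 hpE7.isCartan w (vec chevE7 7 s) := by
      rw [← hf, ← hf, hrs]
    have h2 : vec chevE7 7 r = vec chevE7 7 s := by
      have h3 := congrArg (rep cs7 hpE7.isCartan w⁻¹) h1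
      rwa [rep_inv_apply, rep_inv_apply] at h3
    exact Fin.ext (vec_inj hpE7 (r.2.trans_eq nroots_eq.symm) (s.2.trans_eq nroots_eq.symm) h2)
  have hsum : ∑ r : Fin 126, lev (rep cs7 hpE7.isCartan w (vec chevE7 7 r)) * lev (rep cs7 hpE7.isCartan w (vec chevE7 7 r)) =
      ∑ r : Fin 126, rt chevE7 r 4 * rt chevE7 r 4 := by
    rw [← (Finite.injective_iff_bijective.1 hinj).sum_comp (fun r : Fin 126 => rt chevE7 r 4 * rt chevE7 r 4)]
    refine Finset.sum_congr rfl fun r _ => ?_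
    rw [← hf r]
    rfl
  obtain ⟨g1, g2, g3, g4, g5, g6⟩ := gram
  have hq : 270 * a * a + 360 * a * b + 180 * a * c + 144 * b * b + 144 * b * c + 54 * c * c = 270 := by
    rw [g1] at hsum
    refine Eq.trans ?_ hsum
    have h1 : ∀ r : Fin 126, lev (rep cs7 hpE7.isCartan w (vec chevE7 7 r)) * lev (rep cs7 hpE7.isCartan w (vec chevE7 7 r)) =
        rt chevE7 r 4 * rt chevE7 r 4 * (a * a) + rt chevE7 r 4 * rt chevE7 r 5 * (2 * a * b) +
        rt chevE7 r 4 * rt chevE7 r 6 * (2 * a * c) + rt chevE7 r 5 * rt chevE7 r 5 * (b * b) +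
        rt chevE7 r 5 * rt chevE7 r 6 * (2 * b * c) + rt chevE7 r 6 * rt chevE7 r 6 * (c * c) := by
      intro r
      rw [hx]
      show (rt chevE7 r 4 * a + rt chevE7 r 5 * b + rt chevE7 r 6 * c) *
        (rt chevE7 r 4 * a + rt chevE7 r 5 * b + rt chevE7 r 6 * c) = _
      ring
    rw [Finset.sum_congr rfl fun r _ => h1 r]
    simp only [Finset.sum_add_distrib, ← Finset.sum_mul]
    rw [g1, g2, g3, g4, g5, g6]
    ring
  have hb' : ∀ k : Fin 7, -3 ≤ lev (rep cs7 hpE7.isCartan w (sr k)) ∧ lev (rep cs7 hpE7.isCartan w (sr k)) ≤ 3 :=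
    fun k => lev_bound ((isRoot_sr cs7 hpE7.isCartan k).act w)
  obtain ⟨h1, h2, h3⟩ := quad (hb' 4) (hb' 5) (hb' 6) hq
  rw [← hb] at h2
  rw [← hcc] at h3
  rcases h1 with h1 | h1
  · left
    intro x
    rw [← ha] at h1
    rw [hx, h1, h2, h3, lev_apply]
    ring
  · right
    intro x
    rw [← ha] at h1
    rw [hx, h1, h2, h3, lev_apply]
    ring

variable {K : Type u} [Field K]

variable {p : ℕ} (R : RGD cs7 hpE7.isCartan p (TT chevE7 K) (nc K) (XX chevE7 7 K))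

include R

/-- **the double cosets** -/
theorem cases (a : ↥(chevE7.group K)) : ∃ b ∈ QQ K, ∃ c ∈ QQ K, ∃ k, a = b * k * c ∧
    (k = 1 ∨ Bad (rho K) k ∨ Opp (rho K) k) := by
  have hfin := finite_W hpE7 cs7
  obtain ⟨w, b₁, hb₁, k, hk, b₂, hb₂, e⟩ := (mem_GG R (g := a)).1 (by rw [GG_eq_top hpE7 K cs7]; exact Subgroup.mem_top _)
  by_cases hc : ∀ i j, lev (rep cs7 hpE7.isCartan w⁻¹ (vec chevE7 7 (io i))) =
      lev (rep cs7 hpE7.isCartan w⁻¹ (vec chevE7 7 (io j)))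
  · rcases lev_pm hc with h1 | h1
    · have hw : w ∈ WJ cs7 JQ := by
        have := mem_WJ_of_fix h1
        rwa [inv_mem_iff] at this
      refine ⟨a, ?_, 1, one_mem _, 1, by group, Or.inl rfl⟩
      exact (mem_PJ_iff_cell R).2 ⟨w, hw, b₁, hb₁, k, hk, b₂, hb₂, e⟩
    · obtain ⟨w0, hw0⟩ := exists_w0
      obtain ⟨k0, hk0⟩ := exists_rp cs7 R.nsys w0
      have hw : w0⁻¹ * w ∈ WJ cs7 JQ := by
        have h2 : (w0⁻¹ * w)⁻¹ ∈ WJ cs7 JQ := by
          apply mem_WJ_of_fix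
          intro x
          rw [mul_inv_rev, inv_inv, rep_mul_apply, hw0, map_neg, map_neg, h1, _root_.neg_neg]
        rwa [inv_mem_iff] at h2
      refine ⟨b₁, B_le_PJ hb₁, k0⁻¹ * k * b₂, mul_mem (LJ_le_PJ (rp_mem_LJ R hw (hk0.inv.mul hk))) (B_le_PJ hb₂),
        k0, by rw [e]; group, Or.inr (Or.inr (opp_of_rp R hw0 hk0))⟩
  · push Not at hc
    obtain ⟨i, j, hij⟩ := hc
    exact ⟨b₁, B_le_PJ hb₁, b₂, B_le_PJ hb₂, k, e, Or.inr (Or.inl (bad_of R hk hij))⟩

theorem dat : Dat (rho K) where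
  cases := cases R
  sl := fun _ hg => by
    obtain ⟨z, -, e⟩ := exists_of_det hg
    exact ⟨z, e⟩

end Cfsg.Agent.H154.PQE
end

-- part: H154/PQE/Ord
section
/-!
# S4612, `E₇(q)`, primes of orders 5 and 10: the orders, `exists_dat` (task T5 of helper739, helper154)
-/

set_option autoImplicit false
set_option linter.unusedSectionVars false
set_option maxRecDepth 100000

namespace Cfsg.Agent.H154.PQE

open CoxeterSystem Cfsg Cfsg.Lie Cfsg.Lie.ChevalleyDatum
open Cfsg.Agent.ChevalleyStructure Cfsg.Agent.ChevalleyStructure.Elts Cfsg.Agent.ChevalleyStructure.CoxeterGeom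
  Cfsg.Agent.ChevalleyStructure.CoxeterGeomTypes Cfsg.Agent.ChevalleyStructure.RootVec
  Cfsg.Agent.ChevalleyStructure.RootVecTab Cfsg.Agent.ChevalleyStructure.NPerm
open Cfsg.Agent.Tits.Roots Cfsg.Agent.Tits.Core Cfsg.Agent.Nodes Cfsg.Agent.Nodes.Reps Cfsg.Agent.Nodes.BNOf
  Cfsg.Agent.Nodes.RGDChev Cfsg.Agent.H35.ExcIdx Cfsg.Agent.H35.Poin Cfsg.Agent.Nodes.StabComb
  Cfsg.Agent.Nodes.Bruhat Cfsg.Agent.Nodes.LeviDec Cfsg.Agent.Nodes.OppDec Cfsg.Agent.Tits.Exchange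
  Cfsg.Agent.H739.PQ.E7 Cfsg.Agent.H317.PQ

universe u

theorem path_A4 : PathOK CoxeterMatrix.E₇ [0, 1, 2, 3, 5, 6] [0, 2, 3, 1] [5, 6] 0 := by constructor <;> decide +kernel
theorem path_A2 : PathOK CoxeterMatrix.E₇ [5, 6] [5, 6] [] 0 := by constructor <;> decide +kernel

section Card

variable {K : Type u} [Field K] [Fintype K] {r f : ℕ} [Fact r.Prime] [CharP K r]

/-- the order of the parabolic subgroup -/
theorem card_QQ (R : RGD cs7 hpE7.isCartan r (TT chevE7 K) (nc K) (XX chevE7 7 K)) : ∃ a : ℕ,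
    Nat.gcd 2 (Fintype.card K - 1) * Nat.card ↥(QQ K) =
      r ^ a * (Fintype.card K - 1) ^ 7 * (FA 4 (Fintype.card K) * FA 2 (Fintype.card K)) := by
  have hfin := finite_W hpE7 cs7
  have hJ : (JQ : Set (Fin 7)) = {j | j ∈ ([0, 1, 2, 3, 5, 6] : List (Fin 7))} := by
    ext j; revert j; decide
  have hc : ∀ i, Nat.card (XX chevE7 7 K (sr i)) = Fintype.card K := fun i => by
    rw [card_XX hpE7 K cs7 (isRoot_sr _ _ i), Nat.card_eq_fintype_card]
  have h1 := card_step R path_A4 (fun i _ => hc i) (card_step R path_A2 (fun i _ => hc i) (card_nil R))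
  obtain ⟨a, ha⟩ := (IsPGroup.iff_card (p := r)).1 R.isPGroup_Upos
  refine ⟨a, ?_⟩
  have hT : Nat.gcd 2 (Fintype.card K - 1) * Nat.card (TT chevE7 K) = (Fintype.card K - 1) ^ 7 := by
    have h2 : Nat.card (TT chevE7 K) = Nat.card (chevE7.diagonalSubgroup K) :=
      Nat.card_congr (Subgroup.subgroupOfEquivOfLe (diagonal_le_group hpE7.inList K)).toEquiv
    rw [h2]
    exact Cfsg.Agent.S1035.result rfl (chevE7, Nat.gcd 2 (Fintype.card K - 1)) (by simp)
  have h2 : Nat.card ↥(QQ K) = Nat.card ↥(PJ cs7 hpE7.isCartan (TT chevE7 K) (XX chevE7 7 K)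
      {j | j ∈ ([0, 1, 2, 3, 5, 6] : List (Fin 7))}) := by
    rw [← hJ]
  rw [h2, h1, card_B' R, ha, ← hT]
  show _ * (FA 4 _ * (FA 2 _ * 1) * _) = _
  ring

/-- `q⁵ - 1` divides the order of the image -/
theorem dvd_range : Fintype.card K ^ 5 - 1 ∣ Nat.card ↥(rho K).range := by
  have h1 : Nat.card (Matrix.SpecialLinearGroup (Fin 5) K) ∣ Nat.card ↥(rho K).range := by
    have h2 : (Matrix.SpecialLinearGroup.toGL (n := Fin 5) (R := K)).range ≤ (rho K).range := by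
      rintro _ ⟨s, rfl⟩
      obtain ⟨z, -, e⟩ := exists_of_det (g := Matrix.SpecialLinearGroup.toGL s) s.2
      exact ⟨z, e⟩
    have h3 := Subgroup.card_dvd_of_le h2
    rwa [← Nat.card_congr (MonoidHom.ofInjective (f := Matrix.SpecialLinearGroup.toGL (n := Fin 5) (R := K))
      Matrix.SpecialLinearGroup.toGL_injective).toEquiv] at h3
  refine dvd_trans ?_ h1
  have h2 := Cfsg.Agent.S0242.result (F := K) rfl 5 (by norm_num)
  have hq : 2 ≤ Fintype.card K := Fintype.one_lt_card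
  generalize Fintype.card K = q at h2 hq ⊢
  rw [Fin.prod_univ_five] at h2
  simp only [Fin.val_zero, Fin.val_one, pow_zero] at h2
  have h3 : q ^ 5 - q ^ ((4 : Fin 5) : ℕ) = (q - 1) * q ^ 4 := by
    show q ^ 5 - q ^ 4 = _
    rw [Nat.sub_mul, one_mul]
    congr 1
    ring
  rw [h3] at h2
  refine ⟨(q ^ 5 - q ^ 1) * (q ^ 5 - q ^ ((2 : Fin 5) : ℕ)) * (q ^ 5 - q ^ ((3 : Fin 5) : ℕ)) * q ^ 4, ?_⟩
  refine Nat.eq_of_mul_eq_mul_left (show 0 < q - 1 by omega) ?_
  rw [h2]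
  ring

end Card

theorem pow_sub_one {q : ℕ} (hq : 1 ≤ q) (n : ℕ) : q ^ n - 1 = (q - 1) * ∑ t ∈ Finset.range n, q ^ t := by
  obtain ⟨x, rfl⟩ : ∃ x, q = x + 1 := ⟨_, (Nat.sub_add_cancel hq).symm⟩
  rw [Nat.add_sub_cancel, mul_comm, ← geom_sum_mul_add x n, Nat.add_sub_cancel]

/-- a prime divisor of a sum of powers -/
theorem ord_dvd_of {q l n : ℕ} (hq : 1 ≤ q) (h : l ∣ ∑ t ∈ Finset.range n, q ^ t) : ord q l ∣ n := by
  rw [ord_dvd hq, pow_sub_one hq]
  exact h.mul_left _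

theorem not_dvd_q {q l : ℕ} (hl : l.Prime) (h : ord q l ≠ 0) : ¬ l ∣ q := by
  intro h1
  apply h
  have : Fact l.Prime := ⟨hl⟩
  rw [ord, (ZMod.natCast_eq_zero_iff q l).2 h1, orderOf_zero]

/-- **T5** -/
theorem exists_dat (K : Type) [Field K] [Fintype K] :
    ∃ (Q : Subgroup ↥(Cfsg.Lie.chevE7.group K)) (ρ : ↥Q →* GL (Fin 5) K), Dat ρ ∧
      (∀ p : ℕ, p.Prime → ord (Fintype.card K) p = 5 → ¬ p ∣ Nat.card ρ.ker) ∧
      (∀ l : ℕ, l.Prime → ord (Fintype.card K) l = 10 → ¬ l ∣ Nat.card Q) := by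
  obtain ⟨r, hchar⟩ := CharP.exists K
  obtain ⟨f, hr, hK⟩ := FiniteField.card K r
  have hfact : Fact r.Prime := ⟨hr⟩
  have R := rgd (K := K) hpE7 cs7 r
  refine ⟨QQ K, rho K, dat R, ?_, ?_⟩
  all_goals
    obtain ⟨a, ha⟩ := card_QQ R
    have hdr := dvd_range (K := K)
    have hkr := Subgroup.card_mul_index (rho K).ker
    rw [Subgroup.index_ker] at hkr
    have hq : 1 ≤ Fintype.card K := Fintype.card_pos
    have hq2 : 2 ≤ Fintype.card K := Fintype.one_lt_card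
    have hrq : r ∣ Fintype.card K := by
      rw [hK]
      exact dvd_pow_self r f.ne_zero
    generalize Fintype.card K = q at ha hdr hq hq2 hrq ⊢
    simp only [FA, Finset.prod_range_succ, Finset.prod_range_zero, one_mul] at ha
    norm_num only at ha
  · intro p hp ho hdvd
    have hpq := not_dvd_q hp (q := q) (by rw [ho]; decide)
    have h1 : p * (q ^ 5 - 1) ∣ Nat.gcd 2 (q - 1) * Nat.card ↥(QQ K) := by
      rw [← hkr]
      exact (mul_dvd_mul hdvd hdr).mul_left _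
    rw [ha, pow_sub_one hq 5] at h1
    have h2 : p * ((q - 1) * ∑ t ∈ Finset.range 5, q ^ t) ∣ ((r ^ a * (q - 1) ^ 6) *
        ((∑ t ∈ Finset.range 2, q ^ t) * (∑ t ∈ Finset.range 3, q ^ t) * (∑ t ∈ Finset.range 4, q ^ t) *
        ((∑ t ∈ Finset.range 2, q ^ t) * (∑ t ∈ Finset.range 3, q ^ t)))) * ((q - 1) * ∑ t ∈ Finset.range 5, q ^ t) := by
      refine h1.trans (dvd_of_eq ?_)
      ring
    have h3 : 0 < (q - 1) * ∑ t ∈ Finset.range 5, q ^ t := by
      refine Nat.mul_pos (by omega) (Finset.sum_pos (fun i _ => pow_pos (by omega) i) ⟨0, by simp⟩)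
    have h4 := Nat.dvd_of_mul_dvd_mul_right h3 h2
    have hs : ∀ n, p ∣ ∑ t ∈ Finset.range n, q ^ t → 5 ∣ n := fun n h => by
      rw [← ho]; exact ord_dvd_of hq h
    rcases hp.dvd_mul.1 h4 with h5 | h5
    · rcases hp.dvd_mul.1 h5 with h6 | h6
      · exact hpq ((hp.dvd_of_dvd_pow h6).trans hrq)
      · have h7 := (ord_eq_one hq).2 (hp.dvd_of_dvd_pow h6)
        omega
    · rcases hp.dvd_mul.1 h5 with h6 | h6
      · rcases hp.dvd_mul.1 h6 with h7 | h7
        · rcases hp.dvd_mul.1 h7 with h8 | h8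
          · exact absurd (hs 2 h8) (by decide)
          · exact absurd (hs 3 h8) (by decide)
        · exact absurd (hs 4 h7) (by decide)
      · rcases hp.dvd_mul.1 h6 with h8 | h8
        · exact absurd (hs 2 h8) (by decide)
        · exact absurd (hs 3 h8) (by decide)
  · intro p hp ho hdvd
    have hpq := not_dvd_q hp (q := q) (by rw [ho]; decide)
    have h1 : p ∣ Nat.gcd 2 (q - 1) * Nat.card ↥(QQ K) := hdvd.mul_left _
    rw [ha] at h1
    have hs : ∀ n, p ∣ ∑ t ∈ Finset.range n, q ^ t → 10 ∣ n := fun n h => by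
      rw [← ho]; exact ord_dvd_of hq h
    rcases hp.dvd_mul.1 h1 with h5 | h5
    · rcases hp.dvd_mul.1 h5 with h6 | h6
      · exact hpq ((hp.dvd_of_dvd_pow h6).trans hrq)
      · have h7 := (ord_eq_one hq).2 (hp.dvd_of_dvd_pow h6)
        omega
    · rcases hp.dvd_mul.1 h5 with h6 | h6
      · rcases hp.dvd_mul.1 h6 with h7 | h7
        · rcases hp.dvd_mul.1 h7 with h8 | h8
          · rcases hp.dvd_mul.1 h8 with h9 | h9
            · exact absurd (hs 2 h9) (by decide)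
            · exact absurd (hs 3 h9) (by decide)
          · exact absurd (hs 4 h8) (by decide)
        · exact absurd (hs 5 h7) (by decide)
      · rcases hp.dvd_mul.1 h6 with h8 | h8
        · exact absurd (hs 2 h8) (by decide)
        · exact absurd (hs 3 h8) (by decide)

end Cfsg.Agent.H154.PQE
end

-- part: H739/PQ/E7/Final
section
/-! S4612, `E₇(q)`, the pair `(5,10)`: the kill -/

set_option autoImplicit false

namespace Cfsg.Agent.H739.PQ.E7

open Cfsg Matrix Cfsg.Agent.H317.PQ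

/-- **`E₇(q)`: the pair `(5,10)`** -/
theorem kill_E7_510 (K : Type) [Field K] [Fintype K] :
    Kill ↥(Cfsg.Lie.chevE7.group K) (Fintype.card K) 5 10 := by
  rw [← Nat.card_eq_fintype_card]
  apply kill_of_dat (G := ↥(Cfsg.Lie.chevE7.group K)) K
  obtain ⟨Q, ρ, hD, h1, h2⟩ := Cfsg.Agent.H154.PQE.exists_dat K
  refine ⟨Q, ρ, hD, ?_, ?_⟩
  · rw [Nat.card_eq_fintype_card]; exact h1
  · rw [Nat.card_eq_fintype_card]; exact h2

end Cfsg.Agent.H739.PQ.E7
end

-- part: H792/PQ/RowE7d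
section
/-!
# S4612, row E7 (helper792): the final form
-/

set_option autoImplicit false

namespace Cfsg.Agent.H792.PQ.E7

open Cfsg Cfsg.Lie Cfsg.Agent.H317.PQ

/-- **The row of `E₇(q)`.** -/
theorem row_E7 (F : Type) [Field F] [Fintype F] : Row ↥(chevE7.group F) :=
  row_of_left F (H632.PQ.kill_E7_39 F) (H739.PQ.E7.kill_E7_510 F)

end Cfsg.Agent.H792.PQ.E7
end

private theorem dce_2265a9b82c60 : _root_.True := by
  try have : _root_.True := by simp only [_root_.Cfsg.Agent.H632.PQ.E7f.od.eq_1]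
  exact _root_.True.intro
end

-- part: H632/PQ/RowE6
section
prune_inst 0x2020040000000000000000000000008000000000000000000000000000084000000100002011000000000000000040000000000000000000000000000000000000100000000000000000000000000000000000000000000000000000000000000000000
set_option linter.all false
open scoped Cfsg.Agent.FastGrp

-- part: H632/PQ/Two
section
/-!
# The prime `2`, odd `q`: all constituents are in the principal `2`-block (helper632, for S4612)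

If the eigenvalues of the double cosets on the constituents agree modulo `2` (for odd `q`), all constituents are in the
principal `2`-block.
-/

set_option autoImplicit false

namespace Cfsg.Agent.H632.PQ.Arith

open Cfsg.Agent.H996.PQ Cfsg.Agent.H996.Eight.Cert Cfsg.Agent.H64.Dl.Sph Cfsg.Agent.H317.PQ

universe u

variable {m : ℕ}

theorem killTwo_of_blk [NeZero m] {G : Type u} [Group G] {D : Dat m} (hD : D.Ok) {lam : Fin m → Fin m → List ℤ}
    (hlam : ∀ i c, (evZ 1 (lam i c) - evZ 1 (lam 0 c)) % 2 = 0) {tab : Tab m} {x g : ℕ} (hx : 2 ≤ x)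
    (hodd : x % 2 = 1) (hdeg : ∀ i, (D.P.den i : ℤ) * (D.P.deg x i : ℤ) = evZ x (D.P.dn i))
    (hsep : ∀ p l : ℕ, p.Prime → l.Prime → Same p l G → SepX D.P lam x p l g 0) {f : ℕ}
    (h : Bad D tab f (2 ^ m - 1) = true) : KillTwo G x f := by
  intro l hl hl2 _ hf hS
  obtain ⟨S, h0, h1, h2⟩ := hsep 2 l Nat.prime_two hl hS
  have hall : ∀ i, i ∈ S := by
    intro i
    refine (h1.blk i 0 fun c => ?_).2 h0
    have h3 : (x : ℤ) % 2 = 1 % 2 := by omega
    have h4 := evZ_emod 2 x (lam i c)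
    have h5 := evZ_emod 2 x (lam 0 c)
    have h6 := evZ_emod 2 1 (lam i c)
    have h7 := evZ_emod 2 1 (lam 0 c)
    rw [h3] at h4 h5
    have h8 := hlam i c
    push_cast
    omega
  have h3 := Bad.spec (tab := tab) (k := 2 ^ m - 1) hD hx hdeg hl hl2 hf (S := S) (fun i => by
    rw [Nat.testBit_two_pow_sub_one, decide_eq_true_eq]
    exact ⟨fun _ => i.2, fun _ => hall i⟩) h2.toTst
  rw [h] at h3
  exact Bool.noConfusion h3

end Cfsg.Agent.H632.PQ.Arith
end

-- part: H755/PQ/TorE6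
section
/-!
# S4612: the pairs of orders 3, 6 in `E₆(q)` (helper755)

* `kill_E6_36` : the torus `Φ₃ Φ₆²` (square of the Coxeter element) contains a Sylow `l`-subgroup, `l ∣ Φ₆`.
-/

set_option autoImplicit false
set_option linter.unusedSectionVars false
set_option linter.unusedVariables false

namespace Cfsg.Agent.H755.PQ

open CoxeterSystem Cfsg Cfsg.Lie Cfsg.Lie.ChevalleyDatum
open Cfsg.Agent.ChevalleyStructure Cfsg.Agent.ChevalleyStructure.Elts Cfsg.Agent.ChevalleyStructure.CoxeterGeom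
  Cfsg.Agent.ChevalleyStructure.CoxeterGeomTypes Cfsg.Agent.ChevalleyStructure.NPerm
open Cfsg.Agent.Tits.Roots Cfsg.Agent.Tits.Core Cfsg.Agent.Nodes Cfsg.Agent.Nodes.Reps Cfsg.Agent.Nodes.BNOf
  Cfsg.Agent.Nodes.RGDChev Cfsg.Agent.Nodes.Bruhat Cfsg.Agent.Nodes.SubComb Cfsg.Agent.Nodes.Coroot
open Cfsg.Agent.KFacts.RgdField Cfsg.Agent.KFacts.RgdChevCoord Cfsg.Agent.BpExc.TorCent Cfsg.Agent.BpExc.TorChev
open Cfsg.Agent.GpExc.Field Cfsg.Agent.BpExc.Tow Cfsg.Agent.BpExc.TowChev Cfsg.Agent.BpExc.Fr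
  Cfsg.Agent.BpExc.LangFr Cfsg.Agent.LangThm Cfsg.Agent.BpExc Cfsg.Agent.H129.TorusChar Cfsg.Agent.H129.TorusMain
open Cfsg.Agent.H630.NH Cfsg.Agent.H630.Exc Cfsg.Agent.H317.PQ Cfsg.Agent.H990.PQ
open Cfsg.Agent.H130.WeylCk Cfsg.Agent.H130.PolyL Cfsg.Agent.H130.WeylTab

universe u v

/-- certificates without the order of the element -/
def CertW (Al : List (List ℤ)) (l e a : ℕ) (word : List (Fin l)) (k : ℕ) (c : ℤ) (xs ys : List (List ℤ)) : Prop :=
  (∀ i : Fin a, (xs.getD i []).length = l ∧ (ys.getD i []).length = l) ∧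
  (∀ i : Fin a, horner Al word k (xs.getD i []) (cycL e) = List.replicate l 0) ∧
  (∀ i : Fin a, ∀ i' : Fin a, ∀ j : Fin ((cycL e).length - 1), dot (ys.getD i []) (acn Al word (k * j) (xs.getD i' [])) =
    if i = i' ∧ j.1 + 2 = (cycL e).length then c else 0)

instance instDecidableCertW (Al : List (List ℤ)) (l e a : ℕ) (word : List (Fin l)) (k : ℕ) (c : ℤ)
    (xs ys : List (List ℤ)) : Decidable (CertW Al l e a word k c xs ys) := by
  unfold CertW
  infer_instance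

theorem certW_data {D : ChevalleyDatum} {l : ℕ} {M : CoxeterMatrix (Fin l)} (hp : IsType D l M)
    {W : Type*} [Group W] (cs : CoxeterSystem M W)
    {Al : List (List ℤ)} (hA : MatList (cartanOf D l) Al) {word : List (Fin l)} {j n a : ℕ}
    (hn : n ∈ H130.PolyL.idx) {c : ℤ} {xs ys : List (List ℤ)} (H : CertW Al l n a word j c xs ys) :
    ∃ (x : Fin a → Fin l → ℤ) (y : Fin a → ((Fin l → ℤ) →ₗ[ℤ] ℤ)),
      (∀ i, Polynomial.aeval (rep cs hp.isCartan (cs.wordProd word ^ j)) (Polynomial.cyclotomic n ℤ) (x i) = 0) ∧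
      (∀ i i', ∀ j' < (Polynomial.cyclotomic n ℤ).natDegree,
        y i ((rep cs hp.isCartan (cs.wordProd word ^ j) ^ j') (x i')) =
        if i = i' ∧ j' + 1 = (Polynomial.cyclotomic n ℤ).natDegree then c else 0) := by
  obtain ⟨h2, h3, h4⟩ := H
  refine ⟨fun i => toFn l (xs.getD i []), fun i => _root_.Cfsg.Agent.H130.WeylCk.fn l (ys.getD i []), ?_, ?_⟩
  · intro i
    rw [cyclotomic_eq _ hn, ← toFn_horner cs hp.isCartan hA word j _ (h2 i).1, h3 i, toFn_replicate]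
  · intro i i' j' hj
    have hdeg := natDegree_cyclotomic_eq hn
    have h5 := h4 i i' ⟨j', by omega⟩
    have h6 : (_root_.Cfsg.Agent.H130.WeylCk.fn l (ys.getD i [])) ((rep cs hp.isCartan (cs.wordProd word ^ j) ^ j') (toFn l (xs.getD i' []))) =
        dot (ys.getD i []) (acn Al word (j * j') (xs.getD i' [])) := by
      rw [dot_eq _ _ (h2 i).2 (by rw [length_acn, (h2 i').1]), toFn_acn cs hp.isCartan hA word _ _ (h2 i').1, map_pow,
        ← pow_mul]
      rfl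
    rw [h6, h5]
    congr 1
    apply propext
    constructor
    · rintro ⟨h7, h8⟩
      exact ⟨h7, by simp only at h8; omega⟩
    · rintro ⟨h7, h8⟩
      exact ⟨h7, by simp only; omega⟩

theorem cert_E6_6 : Cert alE6 6 6 2 [0, 1, 2, 3, 4, 5] 2 1 [[-1, 0, -1, 0, 1, 1], [1, 0, 1, 1, 0, 0]]
    [[0, 0, 0, 0, -1, 1], [0, 1, 0, 0, -2, 2]] := by decide +kernel

theorem certW_E6_3 : CertW alE6 6 3 1 [0, 1, 2, 3, 4, 5] 2 1 [[-1, 0, -1, 0, -1, -1]] [[-1, 0, 1, 0, 0, 0]] := by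
  decide +kernel

/-- **`E₆`, orders 3 and 6.** -/
theorem kill_E6_36 (F : Type u) [Field F] [Fintype F] : _root_.Cfsg.Agent.H317.PQ.Kill ↥(chevE6.group F) (Fintype.card F) 3 6 := by
  obtain ⟨k, _, _, f, p, hpp, hkp, e, hk, hka, he0, hcF⟩ := H378.TorFin.exists_closure F
  have cs := CoxeterMatrix.E₆.toCoxeterSystem
  have hW := finite_W e6T cs
  have hcF' : Fintype.card F = p ^ e := by rw [← Nat.card_eq_fintype_card, hcF]
  have S := setup_untw e6T cs hk f he0 hcF' invC_E6 three_ne_zero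
  have hpos : 0 < p ^ e := pow_pos hpp.out.pos _
  have hcard : Nat.gcd 3 (p ^ e - 1) * Nat.card ↥(chevE6.group F) = (p ^ e) ^ 36 *
      (([2, 5, 6, 8, 9, 12].map (fun i => ((p ^ e : ℕ) : ℤ) ^ i - 1)).prod).natAbs := by
    rw [natAbs_prod _ hpos, S1063.result hcF']
    simp only [List.map_cons, List.map_nil, List.prod_cons, List.prod_nil, mul_one]
    ring
  have hd : ∀ r : ℕ, r.Prime → r ∣ Nat.gcd 3 (Nat.card F - 1) → orderOf ((p ^ e : ℕ) : ZMod r) = 1 := by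
    intro r hr h
    rw [← hcF', ← Nat.card_eq_fintype_card]
    exact (ord_eq_one Nat.card_pos).2 (h.trans (Nat.gcd_dvd_right _ _))
  have h1 : (1 : ℤ) = 1 ∨ (1 : ℤ) = -1 := Or.inl rfl
  have hnp : ∀ s : ℕ, s.Prime → ∀ n, 0 < n → ord (Fintype.card F) s = n → s ≠ p := by
    rintro s hs n hn h rfl
    have : Fact s.Prime := ⟨hs⟩
    have h1 : ((Fintype.card F : ℕ) : ZMod s) = 0 := by
      rw [ZMod.natCast_eq_zero_iff, hcF']
      exact dvd_pow_self _ he0.ne'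
    have h2 : orderOf ((Fintype.card F : ℕ) : ZMod s) = 0 := by
      rw [h1, orderOf_eq_zero_iff']
      intro m hm
      rw [zero_pow hm.ne']
      exact zero_ne_one
    rw [ord, h2] at h
    omega
  intro s r hs hr hs2 hr2 hsr hsX hrX hsn hrn
  have hsp := hnp s hs 3 (by norm_num) hsn
  have hrp := hnp r hr 6 (by norm_num) hrn
  rw [ord, hcF'] at hsn hrn
  have hsd : ¬ s ∣ Nat.gcd 3 (Nat.card F - 1) := fun h => by rw [hd s hs h] at hsn; omega
  have hrd : ¬ r ∣ Nat.gcd 3 (Nat.card F - 1) := fun h => by rw [hd r hr h] at hrn; omega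
  rw [← cast_ord] at hsn hrn
  obtain ⟨T, hTor⟩ := exists_isTor e6T cs S (hasTor_one e6T cs (cs.wordProd [0, 1, 2, 3, 4, 5] ^ 2))
  have hR := rep_pow_eq_one e6T cs lists_E6 [0, 1, 2, 3, 4, 5] 2 6 cert_E6_6.1
  have hQr := not_dvd_Q (p := p) (e := e) Fact.out hr hrp h1 (one_mul _).symm
  have hQs := not_dvd_Q (p := p) (e := e) Fact.out hs hsp h1 (one_mul _).symm
  have h6 : 6 ∣ r - 1 := by rw [← hrn]; exact H630.Exc.ord_dvd hr hQr
  have h3 : 3 ∣ s - 1 := by rw [← hsn]; exact H630.Exc.ord_dvd hs hQs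
  have hr6 : ¬ r ∣ 6 := fun h => by
    have := Nat.le_of_dvd (by norm_num) h
    have := Nat.le_of_dvd (by have := hr.two_le; omega) h6
    omega
  have hs6 : ¬ s ∣ 6 := fun h => by
    rcases (Nat.Prime.dvd_mul (m := 2) (n := 3) hs).1 h with h | h
    · exact hs2 ((Nat.prime_dvd_prime_iff_eq hs Nat.prime_two).1 h)
    · obtain rfl := (Nat.prime_dvd_prime_iff_eq hs Nat.prime_three).1 h
      omega
  have hfs := _root_.Cfsg.Agent.H630.Exc.exists_prod hr hQr [2, 5, 6, 8, 9, 12] (by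
    rw [hrn]; exact (noBad_E6 6 (by decide)).not_dvd hr hr2 h6)
  rw [hrn] at hfs
  obtain ⟨x, y, hx, hy⟩ := cert_data e6T cs lists_E6 (n := 6) (by decide) cert_E6_6
  obtain ⟨x', y', hx', hy'⟩ := certW_data e6T cs lists_E6 (n := 3) (by decide) certW_E6_3
  have hi := IsTor.not_dvd_index e6T cs hTor h1 hr hrp hrd hr2 (one_mul _).symm (by norm_num) hrn hR dvd_rfl hr6 x y 1
    (not_dvd_c (Or.inl rfl) hr hr2) hx hy hcard hfs
  have hv : ((s ^ 1 : ℕ) : ℤ) ∣ (Polynomial.cyclotomic 3 ℤ).eval ((p ^ e : ℕ) : ℤ) := by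
    rw [pow_one, ← hsn]
    exact dvd_cyclotomic hs hQs
  have hsT := IsTor.pow_dvd_card e6T cs hTor h1 hs hsp hsd hs2 (one_mul _).symm hsn hR (by norm_num) hs6 x' y' 1
    (not_dvd_c (Or.inl rfl) hs hs2) hx' hy' hv
  rw [pow_one, pow_one] at hsT
  exact fun h => IsTor.not_same_good e6T cs hTor hr hs hsr.symm hi hsT h.symm

end Cfsg.Agent.H755.PQ
end

-- part: H755/PQ/TorDualP
section
/-!
# S4612: tori, pairs of different orders, the tables (helper755)

* `Kill`: `pairs_E6`, `pairs_E7`, `pairs_E8`, `pairs_2E6`;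
* `KillTwo`: `two_F4`, `two_E6`, `two_E8`, `two_2E6`, `two_E7`, and `two_E6_two`, `two_E8_four` (all primes but one);
* small primes: `small_G2`, `small_F4`, `small_E6`, `small_E8_6`, `small_E8_10`, `small_E8_20`.
-/

set_option autoImplicit false
set_option linter.unusedSectionVars false
set_option linter.unusedVariables false

namespace Cfsg.Agent.H755.PQ

open CoxeterSystem Cfsg Cfsg.Lie Cfsg.Lie.ChevalleyDatum
open Cfsg.Agent.ChevalleyStructure Cfsg.Agent.ChevalleyStructure.Elts Cfsg.Agent.ChevalleyStructure.CoxeterGeom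
  Cfsg.Agent.ChevalleyStructure.CoxeterGeomTypes Cfsg.Agent.ChevalleyStructure.NPerm
open Cfsg.Agent.Tits.Roots Cfsg.Agent.Tits.Core Cfsg.Agent.Nodes Cfsg.Agent.Nodes.Reps Cfsg.Agent.Nodes.BNOf
  Cfsg.Agent.Nodes.RGDChev Cfsg.Agent.Nodes.Bruhat Cfsg.Agent.Nodes.SubComb Cfsg.Agent.Nodes.Coroot
open Cfsg.Agent.KFacts.RgdField Cfsg.Agent.KFacts.RgdChevCoord Cfsg.Agent.BpExc.TorCent Cfsg.Agent.BpExc.TorChev
open Cfsg.Agent.GpExc.Field Cfsg.Agent.BpExc.Tow Cfsg.Agent.BpExc.TowChev Cfsg.Agent.BpExc.Fr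
  Cfsg.Agent.BpExc.LangFr Cfsg.Agent.LangThm Cfsg.Agent.BpExc Cfsg.Agent.H129.TorusChar Cfsg.Agent.H129.TorusMain
open Cfsg.Agent.H129.TorAct (cX_tau tau_mem exists_theta)
open Cfsg.Agent.H129.TorusUntw (phi phi_emb coe_phi isFrob_phi fr_phi)
open Cfsg.Agent.H630.NH Cfsg.Agent.H630.Exc Cfsg.Agent.H317.PQ Cfsg.Agent.H990.PQ
open Cfsg.Agent.H130.WeylCk Cfsg.Agent.H130.PolyL Cfsg.Agent.H130.WeylTab

universe u v

section Gen

variable {D : ChevalleyDatum} {l : ℕ} {M : CoxeterMatrix (Fin l)} (hp : IsType D l M)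
  {W : Type*} [Group W] (cs : CoxeterSystem M W)

variable {k : Type u} [Field k] {p e : ℕ} [hpF : Fact p.Prime] [CharP k p] {σ : MulAut ↥(D.group k)}
  {g : (Fin l → ℤ) ≃+ (Fin l → ℤ)}
  {X : Type v} [Group X] {e0 : X →* ↥(D.group k)} {d : ℕ} {S : Setup hp cs p e σ g e0 d}
  {ε : ℤ} {R : Module.End ℤ (Fin l → ℤ)} {T : Subgroup X}

end Gen

/-! ### `E₆`, `E₇`, `E₈`, `²E₆` : `Kill` -/

/-! ### `KillTwo` -/

theorem int_odd {q : ℕ} (h : q % 2 = 1) : (q : ℤ) % 2 = 1 := by omega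

/-- `KillTwo 2` in `E₆` but for the prime `3` -/
theorem two_E6_two (F : Type u) [Field F] [Fintype F] (h : Fintype.card F % 2 = 1) :
    ∀ r : ℕ, r.Prime → r ≠ 2 → r ≠ 3 → ord (Fintype.card F) r = 2 → ¬ Same 2 r ↥(chevE6.group F) := by
  intro r hr hr2 hr3 h1 hS
  have h1' : orderOf ((Fintype.card F : ℤ) : ZMod r) = 2 := by rw [cast_ord]; exact h1
  refine deadZ_E6 F (by decide) (by decide) hasD_E6_2_2 r 2 hr Nat.prime_two hr2 (fun i hi hni hri => ?_)
    (fun h3 => by omega) h1' (by exact_mod_cast two_dvd_cyc (int_odd h) 2 (by decide)) hS.symm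
  have key : ∀ i ∈ [2, 5, 6, 8, 9, 12], 2 ∣ i → ∀ r < 13, r.Prime → r ≠ 2 → r ∣ i → r = 3 := by
    decide +kernel
  exact hr3 (key i hi hni r (lt_of_le_of_lt (Nat.le_of_dvd (lt_E6 i hi).1 hri) (lt_E6 i hi).2) hr hr2 hri)

/-! ### small primes -/

end Cfsg.Agent.H755.PQ
end

-- part: H755/PQ/TorRoot
section
/-!
# S4612: tori on which no root is trivial (helper755)

`IsTor.not_same_root` : if no root is trivial on the `r`-part of the torus `T` and `s ∣ |T|`, then not `Same r s`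
(any primes); after helper251's `not_same_of_normal`.
-/

set_option autoImplicit false
set_option linter.unusedSectionVars false
set_option linter.unusedVariables false

namespace Cfsg.Agent.H755.PQ

open CoxeterSystem Cfsg Cfsg.Lie Cfsg.Lie.ChevalleyDatum
open Cfsg.Agent.ChevalleyStructure Cfsg.Agent.ChevalleyStructure.Elts Cfsg.Agent.ChevalleyStructure.CoxeterGeom
  Cfsg.Agent.ChevalleyStructure.CoxeterGeomTypes Cfsg.Agent.ChevalleyStructure.NPerm
open Cfsg.Agent.Tits.Roots Cfsg.Agent.Tits.Core Cfsg.Agent.Nodes Cfsg.Agent.Nodes.Reps Cfsg.Agent.Nodes.BNOf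
  Cfsg.Agent.Nodes.RGDChev Cfsg.Agent.Nodes.Bruhat Cfsg.Agent.Nodes.SubComb Cfsg.Agent.Nodes.Coroot
open Cfsg.Agent.KFacts.RgdField Cfsg.Agent.KFacts.RgdChevCoord Cfsg.Agent.BpExc.TorCent Cfsg.Agent.BpExc.TorChev
open Cfsg.Agent.GpExc.Field Cfsg.Agent.BpExc.Tow Cfsg.Agent.BpExc.TowChev Cfsg.Agent.BpExc.Fr
  Cfsg.Agent.BpExc.LangFr Cfsg.Agent.LangThm Cfsg.Agent.BpExc Cfsg.Agent.H129.TorusChar Cfsg.Agent.H129.TorusMain
open Cfsg.Agent.H129.TorAct (cX_tau tau_mem exists_theta)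
open Cfsg.Agent.H129.TorusUntw (phi phi_emb coe_phi isFrob_phi fr_phi)
open Cfsg.Agent.H630.NH Cfsg.Agent.H630.Exc Cfsg.Agent.H317.PQ Cfsg.Agent.H990.PQ
open Cfsg.Agent.H130.WeylCk Cfsg.Agent.H130.PolyL Cfsg.Agent.H130.WeylTab

universe u v

section Gen

variable {D : ChevalleyDatum} {l : ℕ} {M : CoxeterMatrix (Fin l)} (hp : IsType D l M)
  {W : Type*} [Group W] (cs : CoxeterSystem M W)

/-- no root is trivial on the functionals `Ls` modulo `m` -/
def RootCk (D : ChevalleyDatum) (l : ℕ) (Al : List (List ℤ)) (word : List (Fin l)) (k : ℕ) (m c : ℤ)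
    (Ls : List (List ℤ)) : Prop :=
  (∀ L ∈ Ls, L.length = l ∧ ∀ j : Fin l, m ∣ dot L (acn Al word k (bas l j)) - c * dot L (bas l j)) ∧
  (∀ v ∈ rootL D l, ∃ L ∈ Ls, ¬ m ∣ dot L v)

instance decRootCk (D : ChevalleyDatum) (l : ℕ) (Al : List (List ℤ)) (word : List (Fin l)) (k : ℕ) (m c : ℤ)
    (Ls : List (List ℤ)) : Decidable (RootCk D l Al word k m c Ls) := by
  unfold RootCk
  infer_instance

theorem root_data {Al : List (List ℤ)} (hA : MatList (cartanOf D l) Al) {word : List (Fin l)} {k : ℕ} {m c : ℤ}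
    {Ls : List (List ℤ)} (H : RootCk D l Al word k m c Ls) {Q : ℤ} (hQ : m ∣ Q - c) {a : Fin l → ℤ}
    (ha : IsRoot cs hp.isCartan a) : ∃ L : (Fin l → ℤ) →+ ℤ,
      (∀ x, m ∣ L (rep cs hp.isCartan (cs.wordProd word ^ k) x) - Q * L x) ∧ ¬ m ∣ L a := by
  obtain ⟨h1, h2⟩ := H
  obtain ⟨v, hv, hvl, rfl⟩ := exists_rootL hp cs ha
  obtain ⟨L, hL, hm⟩ := h2 v hv
  obtain ⟨hLl, hLj⟩ := h1 L hL
  refine ⟨(_root_.Cfsg.Agent.H130.WeylCk.fn l L).toAddMonoidHom, fun x => ?_, fun h => hm ?_⟩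
  · have h3 := dvd_of_basis ((_root_.Cfsg.Agent.H130.WeylCk.fn l L).comp (rep cs hp.isCartan (cs.wordProd word ^ k)) - Q • _root_.Cfsg.Agent.H130.WeylCk.fn l L) (m := m)
      (fun i => by
        rw [LinearMap.sub_apply, LinearMap.comp_apply, LinearMap.smul_apply, smul_eq_mul, ← toFn_bas]
        have h4 := hLj i
        rw [dot_eq _ _ hLl (by rw [length_acn, length_bas]), dot_eq _ _ hLl (length_bas _),
          toFn_acn cs hp.isCartan hA word _ _ (length_bas _)] at h4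
        have h4' : m ∣ _root_.Cfsg.Agent.H130.WeylCk.fn l L (((rep cs hp.isCartan (cs.wordProd word)) ^ k) (toFn l (bas l i))) -
            c * _root_.Cfsg.Agent.H130.WeylCk.fn l L (toFn l (bas l i)) := h4
        have h5 : _root_.Cfsg.Agent.H130.WeylCk.fn l L (((rep cs hp.isCartan (cs.wordProd word)) ^ k) (toFn l (bas l i))) -
            Q * _root_.Cfsg.Agent.H130.WeylCk.fn l L (toFn l (bas l i)) =
            (_root_.Cfsg.Agent.H130.WeylCk.fn l L (((rep cs hp.isCartan (cs.wordProd word)) ^ k) (toFn l (bas l i))) -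
              c * _root_.Cfsg.Agent.H130.WeylCk.fn l L (toFn l (bas l i))) - (Q - c) * _root_.Cfsg.Agent.H130.WeylCk.fn l L (toFn l (bas l i)) := by ring
        rw [map_pow, h5]
        exact dvd_sub h4' (hQ.mul_right _)) x
    exact h3
  · rw [dot_eq _ _ hLl hvl]
    exact h

variable {k : Type u} [Field k] {p e : ℕ} [hpF : Fact p.Prime] [CharP k p] {σ : MulAut ↥(D.group k)}
  {g : (Fin l → ℤ) ≃+ (Fin l → ℤ)}
  {X : Type v} [Group X] {e0 : X →* ↥(D.group k)} {d : ℕ} {S : Setup hp cs p e σ g e0 d}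
  {ε : ℤ} {R : Module.End ℤ (Fin l → ℤ)} {T : Subgroup X}

/-- **No root is trivial on the `r`-part of the torus.** -/
theorem IsTor.not_same_root (h : IsTor hp cs S ε R T) [IsAlgClosed k] [Finite W] [Finite X]
    (hε : ε = 1 ∨ ε = -1) {r s : ℕ} (hr : r.Prime) (hs : s.Prime) (hrs : r ≠ s) (hrp : r ≠ p) (hrd : ¬ r ∣ d) {Q : ℤ}
    (hQ : Q = ε * (p ^ e : ℕ)) {v : ℕ}
    (hroot : ∀ a, IsRoot cs hp.isCartan a → ∃ L : (Fin l → ℤ) →+ ℤ,
      (∀ x, ((r ^ v : ℕ) : ℤ) ∣ L (R x) - Q * L x) ∧ ¬ ((r ^ v : ℕ) : ℤ) ∣ L a) (hsT : s ∣ Nat.card T) :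
    ¬ Same r s X := by
  have : Fact r.Prime := ⟨hr⟩
  have hcT := IsTor.comm hp cs h
  have hmT := IsTor.isMulCommutative hp cs h
  obtain ⟨w, n', z, hw, hn', hz, rfl⟩ := h
  obtain ⟨m, hm⟩ : ∃ m, m = r ^ v := ⟨_, rfl⟩
  rw [← hm] at hroot
  have hpp : p.Prime := Fact.out
  have hrk : (r : k) ≠ 0 := by
    rw [Ne, CharP.cast_eq_zero_iff k p]
    intro h
    exact hrp ((Nat.prime_dvd_prime_iff_eq hpp hr).1 h).symm
  have hmk : (m : k) ≠ 0 := by rw [hm, Nat.cast_pow]; exact pow_ne_zero _ hrk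
  obtain ⟨B, d', hd', hB⟩ := S.inv
  obtain ⟨ζ, hζ, hz0, hchar⟩ := exists_charL hp hB hd' (θ := theta hp cs w g) (q := p ^ e) hmk
  have hE : IsPGroup r (tXr hp S.inj z m) := by
    rintro ⟨x', hx'⟩
    exact ⟨v, Subtype.ext (by rw [← hm]; exact hx'.2)⟩
  refine Cfsg.Agent.H251.PQ.not_same_of_normal hr hs hrs (tXr hp S.inj z m) (tX D k e0 z) hE hmT
    (fun x hx => hx.1) (fun c hc b hb => ?_) hsT
  rw [Subgroup.mem_centralizer_iff] at hc
  rw [mem_tX] at hb ⊢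
  have h1 := Cfsg.Agent.H251.PQ.mem_norm_of_set hp cs S.lf p
    (Z := (fun y : X => z⁻¹ * e0 y * z) '' (tXr hp S.inj z m : Set X)) (Set.toFinite _)
    (c := z⁻¹ * e0 c * z) ?_ ?_ ?_ hb
  · convert h1 using 1
    rw [map_mul, map_mul, map_inv]
    group
  · rintro _ ⟨y, hy, rfl⟩
    exact (mem_tX).1 hy.1
  · intro a ha
    obtain ⟨L, hL, hLa⟩ := hroot a ha
    obtain ⟨t, ht, e1, e2, e3⟩ := hchar L (fun x => by
      have h3 : L (theta hp cs w g x) - ((p ^ e : ℕ) : ℤ) * L x = ε * (L (R x) - Q * L x) := by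
        rw [hw, map_zsmul, smul_eq_mul, hQ]
        have h2 : ε * ε = 1 := by rcases hε with rfl | rfl <;> norm_num
        linear_combination (((p ^ e : ℕ) : ℤ) * L x) * h2
      rw [h3]
      exact (hL x).mul_left _)
    obtain ⟨x', hx'⟩ := S.exists_of_tau hp cs hz ((tau_iff hp cs S.lf S.frob S.fr hn' ht).2 e1) hr hrd ⟨v, by
      rw [← hm]; exact e2⟩
    refine ⟨_, ⟨x', ⟨by rw [mem_tX, hx']; exact ht, ?_⟩, rfl⟩, ?_⟩
    · apply S.inj
      have h4 := S.conj_pow_eq hp cs (y := x') (z := z) m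
      rw [hx', e2] at h4
      rw [map_one]
      have h5 : e0 (x' ^ m) = z * (z⁻¹ * e0 (x' ^ m) * z) * z⁻¹ := by group
      rw [h5, ← h4]; group
    · show cX hp (z⁻¹ * e0 x' * z) a ≠ 1
      rw [hx', e3]
      intro h5
      exact hLa ((hζ.zpow_eq_one_iff_dvd _).1 h5)
  · rintro _ ⟨y, hy, rfl⟩
    have h1 : y * c = c * y := hc y hy
    show z⁻¹ * e0 c * z * (z⁻¹ * e0 y * z) = z⁻¹ * e0 y * z * (z⁻¹ * e0 c * z)
    calc z⁻¹ * e0 c * z * (z⁻¹ * e0 y * z) = z⁻¹ * (e0 c * e0 y) * z := by group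
      _ = z⁻¹ * (e0 y * e0 c) * z := by rw [← map_mul, ← h1, map_mul]
      _ = _ := by group

variable (S)

include S

/-- **The torus kills, regular version.** -/
theorem not_same_rootCk [IsAlgClosed k] [Finite W] [Finite X] (hε : ε = 1 ∨ ε = -1)
    {Al : List (List ℤ)} (hA : MatList (cartanOf D l) Al) (hT : ∀ w1, HasTor hp cs g ε w1) {Q : ℤ}
    (hQ : Q = ε * (p ^ e : ℕ)) {word : List (Fin l)} {j : ℕ} {m : ℕ} (hm : 0 < m ∧ m ∈ H130.PolyL.idx)
    {xs ys Ls : List (List ℤ)} (H : DCert Al l m 1 word j xs ys) {r s : ℕ} {v : ℕ} {c : ℤ}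
    (hL : RootCk D l Al word j ((r ^ v : ℕ) : ℤ) c Ls) (hc : ((r ^ v : ℕ) : ℤ) ∣ Q - c)
    (hr : r.Prime) (hs : s.Prime) (hrs : r ≠ s) (hrp : r ≠ p) (hsp : s ≠ p)
    (hrd : ¬ r ∣ d) (hsd : ¬ s ∣ d) (hsm : (s : ℤ) ∣ (Polynomial.cyclotomic m ℤ).eval Q) : ¬ Same r s X := by
  obtain ⟨T, hTor⟩ := exists_isTor hp cs S (hT (cs.wordProd word ^ j))
  obtain ⟨x', y', hx', hy'⟩ := dcert_data hp cs hA hm.2 H
  have c1 : ∀ r : ℕ, r.Prime → ¬ (r : ℤ) ∣ 1 := fun r hr h => by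
    have : r ∣ 1 := by exact_mod_cast h
    exact hr.one_lt.ne' (Nat.dvd_one.1 this)
  have hsT := IsTor.pow_dvd_card_dual hp cs hTor hε hs hsp hsd hQ (Polynomial.cyclotomic.monic m ℤ) (by
      rw [Polynomial.natDegree_cyclotomic]
      exact Nat.totient_pos.2 hm.1) x' y' 1 (c1 s hs) hx' hy' (v := 1) (by rw [pow_one]; exact hsm)
  rw [pow_one, pow_one] at hsT
  exact IsTor.not_same_root hp cs hTor hε hr hs hrs hrp hrd hQ (fun a ha => root_data hp cs hA hL hc ha) hsT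

end Gen

end Cfsg.Agent.H755.PQ
end

-- part: H755/PQ/TorRootT
section
/-!
# S4612: the pairs `2, 3` in `E₆` and `2, 5` in `E₈` (helper755)

* `not_same_two_three_E6`, `killTwo_E6_2` : `q ≡ 3 mod 4`;
* `not_same_two_five_E8`, `killTwo_E8_4`.
-/

set_option autoImplicit false
set_option linter.unusedSectionVars false
set_option linter.unusedVariables false
set_option maxRecDepth 100000

namespace Cfsg.Agent.H755.PQ

open CoxeterSystem Cfsg Cfsg.Lie Cfsg.Lie.ChevalleyDatum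
open Cfsg.Agent.ChevalleyStructure Cfsg.Agent.ChevalleyStructure.Elts Cfsg.Agent.ChevalleyStructure.CoxeterGeom
  Cfsg.Agent.ChevalleyStructure.CoxeterGeomTypes Cfsg.Agent.ChevalleyStructure.NPerm
open Cfsg.Agent.Tits.Roots Cfsg.Agent.Tits.Core Cfsg.Agent.Nodes Cfsg.Agent.Nodes.Reps Cfsg.Agent.Nodes.BNOf
  Cfsg.Agent.Nodes.RGDChev Cfsg.Agent.Nodes.Bruhat Cfsg.Agent.Nodes.SubComb Cfsg.Agent.Nodes.Coroot
open Cfsg.Agent.KFacts.RgdField Cfsg.Agent.KFacts.RgdChevCoord Cfsg.Agent.BpExc.TorCent Cfsg.Agent.BpExc.TorChev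
open Cfsg.Agent.GpExc.Field Cfsg.Agent.BpExc.Tow Cfsg.Agent.BpExc.TowChev Cfsg.Agent.BpExc.Fr
  Cfsg.Agent.BpExc.LangFr Cfsg.Agent.LangThm Cfsg.Agent.BpExc Cfsg.Agent.H129.TorusChar Cfsg.Agent.H129.TorusMain
open Cfsg.Agent.H129.TorAct (cX_tau tau_mem exists_theta)
open Cfsg.Agent.H129.TorusUntw (phi phi_emb coe_phi isFrob_phi fr_phi)
open Cfsg.Agent.H630.NH Cfsg.Agent.H630.Exc Cfsg.Agent.H317.PQ Cfsg.Agent.H990.PQ
open Cfsg.Agent.H130.WeylCk Cfsg.Agent.H130.PolyL Cfsg.Agent.H130.WeylTab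

universe u v

theorem rootCk_E6 : RootCk chevE6 6 alE6 ([1, 2, 3, 4] : List (Fin 6)) 3 ((2 ^ 2 : ℕ) : ℤ) 3 [[0, 1, 1, 0, 1, 0], [-1, 0, 0, -1, 0, 1]] := by
  decide +kernel

theorem dcert_E6_2 : DCert alE6 6 2 1 ([1, 2, 3, 4] : List (Fin 6)) 3 [[0, -1, 0, 0, 0, 0]] [[0, -1, 1, 0, -1, 1]] := by
  decide +kernel

/-- **`E₆`: the primes 2 and 3.** -/
theorem not_same_two_three_E6 (F : Type u) [Field F] [Fintype F] (h4 : Fintype.card F % 4 = 3)
    (h3 : ord (Fintype.card F) 3 = 2) : ¬ Same 2 3 ↥(chevE6.group F) := by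
  obtain ⟨k, _, _, f, p, hpp, hkp, e, hk, hka, he0, hcF⟩ := H378.TorFin.exists_closure F
  have cs := CoxeterMatrix.E₆.toCoxeterSystem
  have hW := finite_W e6T cs
  have hcF' : Fintype.card F = p ^ e := by rw [← Nat.card_eq_fintype_card, hcF]
  have S := setup_untw e6T cs hk f he0 hcF' invC_E6 three_ne_zero
  have h1 : (1 : ℤ) = 1 ∨ (1 : ℤ) = -1 := Or.inl rfl
  have h2p : 2 ≠ p := two_ne_of_odd he0 hcF' (by omega)
  have h3' : orderOf ((Fintype.card F : ℤ) : ZMod 3) = 2 := by rw [cast_ord]; exact h3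
  have h3Q := not_dvd_of_orderOf (by norm_num) Nat.prime_three h3'
  have hdv := dvd_cyclotomic Nat.prime_three h3Q
  rw [h3'] at hdv
  have hQe : ((Fintype.card F : ℕ) : ℤ) = 1 * ((p ^ e : ℕ) : ℤ) := by rw [hcF', one_mul]
  refine not_same_rootCk e6T cs S h1 lists_E6 (hasTor_one e6T cs) hQe (m := 2) (by decide) dcert_E6_2
    (r := 2) (v := 2) rootCk_E6 (by omega) Nat.prime_two Nat.prime_three (by norm_num) h2p
    (ne_char he0 hQe h3Q) (fun h => ?_) (fun h => ?_) hdv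
  · have := Nat.le_of_dvd (by norm_num) (h.trans (Nat.gcd_dvd_left _ _))
    have h5 := (Nat.prime_dvd_prime_iff_eq Nat.prime_two Nat.prime_three).1 (h.trans (Nat.gcd_dvd_left _ _))
    omega
  · have h5 := h.trans (Nat.gcd_dvd_right _ _)
    rw [Nat.card_eq_fintype_card] at h5
    have h6 := (ord_eq_one (q := Fintype.card F) (p := 3) (by omega)).2 h5
    omega

theorem killTwo_E6_2 (F : Type u) [Field F] [Fintype F] (h4 : Fintype.card F % 4 = 3) :
    KillTwo ↥(chevE6.group F) (Fintype.card F) 2 := by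
  intro r hr hr2 _ h1
  by_cases hr3 : r = 3
  · subst hr3
    exact not_same_two_three_E6 F h4 h1
  · exact two_E6_two F (by omega) r hr hr2 hr3 h1

end Cfsg.Agent.H755.PQ
end

-- part: H526/PQ/Central
section
/-!
# Values of induced linear characters at central elements of the Levi subgroup (helper526, for S4612)

`P = P_j` maximal parabolic, `V` its unipotent radical, `θ` a function on `P`, `z ∈ T` central in `L`, `C_V(z) = 1`:
`∑_g θ(g z g⁻¹)` (over the `g` with `g z g⁻¹ ∈ P`) in terms of the double cosets.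
-/

set_option autoImplicit false
set_option linter.unusedSectionVars false
set_option quotPrecheck false

namespace Cfsg.Agent.H526.PQ

open Cfsg Cfsg.Agent.H967.Sph Cfsg.Agent.H996.Eight.Cert Cfsg.Agent.H64.Dl.Sph
open CoxeterSystem Cfsg.Agent.ChevalleyStructure.CoxeterGeom Cfsg.Agent.Tits.Roots Cfsg.Agent.Tits.Core
  Cfsg.Agent.Tits.Exchange Cfsg.Agent.Nodes.Reps Cfsg.Agent.Nodes.BNOf Cfsg.Agent.Nodes.StabComb Cfsg.Agent.Nodes.Bruhat
  Cfsg.Agent.Nodes.OppDec Cfsg.Agent.Nodes.LeviDec Cfsg.Agent.H632.PQ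

variable {I W Y : Type*} [Fintype I] [DecidableEq I] [Group W] [Finite W] [Group Y]
    {M : CoxeterMatrix I} {cs : CoxeterSystem M W} {A : I → I → ℤ} {h : IsCartan M A} {r : ℕ} {T : Subgroup Y}
    {n : I → Y} {X : (I → ℤ) → Subgroup Y} (R : RGD cs h r T n X) (hG : GG cs h T X = ⊤)
    {j : I} {N m : ℕ} (t : Tab A j N m)

section geom

/-- the root groups with nonnegative `j`-th coordinate -/
theorem X_le_PJ {x : I → ℤ} (hx : IsRoot cs h x) (h0 : 0 ≤ x j) : X x ≤ PJ cs h T X {i | i ≠ j} := by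
  rcases h0.eq_or_lt with h1 | h1
  · refine (X_le_LJ ⟨hx, fun k hk => ?_⟩).trans LJ_le_PJ
    have hkj : k = j := by simpa using hk
    rw [hkj, h1]
  · have h2 : x ∈ NotJ cs h {i | i ≠ j} := ⟨hx, nonneg_of_pos_apply hx h1, j, by simp, h1⟩
    exact (RGD.le_Sup h2).trans VJ_le_PJ

include R in
theorem conj_UJ {w : W} {k : Y} (hk : Rp cs R.nsys w k) (h0 : ∀ i, i ≠ j → 0 ≤ lam cs h j w i) {a : Y}
    (ha : a ∈ UJ cs h X {i | i ≠ j}) : k * a * k⁻¹ ∈ PJ cs h T X {i | i ≠ j} := by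
  have h1 : UJ cs h X {i | i ≠ j} ≤ cj k⁻¹ (PJ cs h T X {i | i ≠ j}) := by
    refine RGD.Sup_le fun x hx b hb => ?_
    rw [mem_cj, inv_inv]
    refine X_le_PJ (T := T) (hx.1.act w) ?_ (R.conj_mem hk hx.1 hb)
    have h2 : rep cs h w x j = ∑ i, x i * lam cs h j w i := by
      conv_lhs => rw [eq_sum_sr x]
      rw [map_sum, Finset.sum_apply]
      refine Finset.sum_congr rfl fun i _ => ?_
      rw [map_smul, Pi.smul_apply, smul_eq_mul]
      rfl
    rw [h2]
    refine Finset.sum_nonneg fun i _ => ?_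
    by_cases hi : i = j
    · subst hi
      rw [hx.2.2 i (by simp), zero_mul]
    · exact mul_nonneg (hx.2.1 i) (h0 i hi)
  have h2 := h1 ha
  rwa [mem_cj, inv_inv] at h2

include R in
/-- the elements of a minimal state -/
theorem exists_PkV {w : W} {k : Y} (hk : Rp cs R.nsys w k) (h0 : ∀ i, i ≠ j → 0 ≤ lam cs h j w i) {g : Y}
    (hg : stY R hG t g = t.sw cs h w) :
    ∃ p ∈ PJ cs h T X {i | i ≠ j}, ∃ v ∈ VJ cs h X {i | i ≠ j}, g = p * k * v := by
  obtain ⟨b₁, hb₁, k', hk', b₂, hb₂, e⟩ := cell_wOf R hG g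
  rw [stY] at hg
  have h1 := t.mem_WJ_of_sw cs h hg.symm
  have h2 : k' * k⁻¹ ∈ PJ cs h T X {i | i ≠ j} := LJ_le_PJ (rp_mem_LJ R h1 (hk'.mul hk.inv))
  obtain ⟨s, hs, u, hu, rfl⟩ := R.mem_B.1 hb₂
  obtain ⟨a, ha, v, hv, rfl⟩ := (mem_U_iff R).1 hu
  have h3 : k * s * k⁻¹ ∈ PJ cs h T X {i | i ≠ j} :=
    T_le_PJ R _ ((Subgroup.mem_normalizer_iff.1 hk.mem_normalizer s).1 hs)
  refine ⟨b₁ * (k' * k⁻¹) * (k * s * k⁻¹) * (k * a * k⁻¹), ?_, v, hv, ?_⟩
  · exact mul_mem (mul_mem (mul_mem (B_le_PJ hb₁) h2) h3) (conj_UJ R hk h0 ha)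
  · rw [e]; group

theorem stY_PkV {w : W} {k : Y} (hk : Rp cs R.nsys w k) {p v : Y} (hp : p ∈ PJ cs h T X {i | i ≠ j})
    (hv : v ∈ VJ cs h X {i | i ≠ j}) : stY R hG t (p * k * v) = t.sw cs h w := by
  rw [stY_mul_right_B R hG t _ (VJ_le_B _ hv), stY_mul_left R hG t hp, stY_eq R hG t (cell_of_rp hk)]

/-- every element of the class of `w` is in `P k L V` -/
theorem exists_PkLV {w : W} {k : Y} (hk : Rp cs R.nsys w k) {g : Y}
    (hg : t.cls (stY R hG t g) = t.cls (t.sw cs h w)) :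
    ∃ p ∈ PJ cs h T X {i | i ≠ j}, ∃ l ∈ LJ cs h T X {i | i ≠ j}, ∃ v ∈ VJ cs h X {i | i ≠ j}, g = p * k * l * v := by
  obtain ⟨b₁, hb₁, k', hk', b₂, hb₂, e⟩ := cell_wOf R hG g
  -- two words through the representative of the class
  have hc : ∀ w' : W, t.cls (t.sw cs h w') = t.cls (t.sw cs h w) → ∃ a ∈ WJ cs {i | i ≠ j}, ∃ b ∈ WJ cs {i | i ≠ j},
      w' = a * w * b := by
    intro w' hw'
    obtain ⟨w₀, hw₀⟩ := t.exists_sw cs h (t.crep (t.cls (t.sw cs h w)))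
    obtain ⟨v, hv, u, hu, e1⟩ := Tab.exists_word cs h t hw₀ (w' := w') hw'
    obtain ⟨v', hv', u', hu', e2⟩ := Tab.exists_word cs h t hw₀ (w' := w) rfl
    refine ⟨u * u'⁻¹, mul_mem hu (inv_mem hu'), v'⁻¹ * v, mul_mem (inv_mem hv') hv, ?_⟩
    rw [e1, e2]; group
  rw [stY] at hg
  obtain ⟨a, ha, b, hb, e1⟩ := hc _ hg
  obtain ⟨ka, hka⟩ := exists_rp cs R.nsys a
  obtain ⟨kb, hkb⟩ := exists_rp cs R.nsys b
  have h2 : (ka * k * kb)⁻¹ * k' ∈ T := by
    refine ((hka.mul hk).mul hkb).unique ?_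
    rw [← e1]
    exact hk'
  have h3 : kb * ((ka * k * kb)⁻¹ * k') * b₂ ∈ PJ cs h T X {i | i ≠ j} :=
    mul_mem (mul_mem (LJ_le_PJ (rp_mem_LJ R hb hkb)) (T_le_PJ R _ h2)) (B_le_PJ hb₂)
  obtain ⟨l, hl, v, hv, e2⟩ := (mem_PJ R).1 h3
  refine ⟨b₁ * ka, mul_mem (B_le_PJ hb₁) (LJ_le_PJ (rp_mem_LJ R ha hka)), l, hl, v, hv, ?_⟩
  have e3 : b₁ * ka * k * l * v = b₁ * ka * k * (l * v) := by group
  rw [e, e3, ← e2]
  group

end geom

section count

variable [Fintype Y]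

open Classical in
/-- the number of `v ∈ V` with `k v k⁻¹ ∈ P` -/
noncomputable def vk (cs : CoxeterSystem M W) (h : IsCartan M A) (T : Subgroup Y) (X : (I → ℤ) → Subgroup Y) (j : I)
    (k : Y) : ℚ :=
  ∑ v : VJ cs h X {i | i ≠ j}, if k * v * k⁻¹ ∈ PJ cs h T X {i | i ≠ j} then (1 : ℚ) else 0

/-- the number of elements of a minimal state -/
theorem cnt_mul_vk {w : W} {k : Y} (hk : Rp cs R.nsys w k) (h0 : ∀ i, i ≠ j → 0 ≤ lam cs h j w i) :
    cnt R hG t (t.sw cs h w) * vk cs h T X j k =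
      Nat.card (VJ cs h X {i | i ≠ j}) * Nat.card (PJ cs h T X {i | i ≠ j}) := by
  classical
  set V := VJ cs h X {i | i ≠ j} with hV
  set P := PJ cs h T X {i | i ≠ j} with hP
  have hVP : V ≤ P := VJ_le_PJ
  -- count the pairs `(g, v)` with `g v⁻¹ k⁻¹ ∈ P`
  have h1 : ∀ g : Y, (∑ v : V, if g * (v : Y)⁻¹ * k⁻¹ ∈ P then (1 : ℚ) else 0) =
      (Pi.single (t.sw cs h w) (1 : ℚ) : Fin N → ℚ) (stY R hG t g) * vk cs h T X j k := by
    intro g
    by_cases hg : stY R hG t g = t.sw cs h w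
    · rw [hg, Pi.single_eq_same, one_mul, vk]
      obtain ⟨p, hp, v₀, hv₀, rfl⟩ := exists_PkV R hG t hk h0 hg
      refine Fintype.sum_equiv ((Equiv.inv V).trans (Equiv.mulLeft ⟨v₀, hv₀⟩)) _ _ fun v => ?_
      have e : p * k * v₀ * (v : Y)⁻¹ * k⁻¹ = p * (k * (v₀ * (v : Y)⁻¹) * k⁻¹) := by group
      rw [e]
      have h2 : p * (k * (v₀ * (v : Y)⁻¹) * k⁻¹) ∈ P ↔ k * (v₀ * (v : Y)⁻¹) * k⁻¹ ∈ P :=
        Subgroup.mul_mem_cancel_left P hp
      simp only [h2]
      rfl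
    · rw [Pi.single_eq_of_ne hg, zero_mul]
      refine Finset.sum_eq_zero fun v _ => ?_
      rw [if_neg]
      intro h2
      apply hg
      have e : g = (g * (v : Y)⁻¹ * k⁻¹) * k * v := by group
      rw [e]
      exact stY_PkV R hG t hk h2 v.2
  have h2 : ∀ v : V, (∑ g : Y, if g * (v : Y)⁻¹ * k⁻¹ ∈ P then (1 : ℚ) else 0) = Nat.card P := by
    intro v
    have e1 : (∑ g : Y, if g * (v : Y)⁻¹ * k⁻¹ ∈ P then (1 : ℚ) else 0) = ∑ g : Y, if g ∈ P then (1 : ℚ) else 0 := by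
      refine Fintype.sum_equiv (Equiv.mulRight ((v : Y)⁻¹ * k⁻¹)) _ _ fun g => ?_
      rw [Equiv.coe_mulRight, mul_assoc]
    rw [e1, Finset.sum_boole, Nat.card_eq_fintype_card, Fintype.card_subtype]
  rw [cnt, Finset.sum_mul, Finset.sum_congr rfl fun g _ => (h1 g).symm, Finset.sum_comm,
    Finset.sum_congr rfl fun v _ => h2 v, Finset.sum_const, Finset.card_univ, nsmul_eq_mul,
    Nat.card_eq_fintype_card (α := V)]

end count

section val

variable [Fintype Y]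

open Classical in
/-- extension by zero -/
noncomputable def ex (P : Subgroup Y) (θ : ↥P →* ℂˣ) (y : Y) : ℂ := if hy : y ∈ P then ((θ ⟨y, hy⟩ : ℂˣ) : ℂ) else 0

omit [Fintype Y] in
theorem ex_of {P : Subgroup Y} {θ : ↥P →* ℂˣ} {y : Y} (hy : y ∈ P) : ex P θ y = ((θ ⟨y, hy⟩ : ℂˣ) : ℂ) := by
  rw [ex, dif_pos hy]

omit [Fintype Y] in
theorem ex_not {P : Subgroup Y} {θ : ↥P →* ℂˣ} {y : Y} (hy : y ∉ P) : ex P θ y = 0 := by
  rw [ex, dif_neg hy]

omit [Fintype Y] in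
theorem ex_conj {P : Subgroup Y} {θ : ↥P →* ℂˣ} {p : Y} (hp : p ∈ P) (y : Y) : ex P θ (p * y * p⁻¹) = ex P θ y := by
  by_cases hy : y ∈ P
  · rw [ex_of hy, ex_of (mul_mem (mul_mem hp hy) (inv_mem hp))]
    have h1 : (⟨p * y * p⁻¹, mul_mem (mul_mem hp hy) (inv_mem hp)⟩ : P) = ⟨p, hp⟩ * ⟨y, hy⟩ * ⟨p, hp⟩⁻¹ := rfl
    rw [h1, map_mul, map_mul, map_inv, mul_comm (θ ⟨p, hp⟩), mul_inv_cancel_right]
  · rw [ex_not hy, ex_not]
    intro h1
    apply hy
    have h2 := mul_mem (mul_mem (inv_mem hp) h1) hp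
    have e : p⁻¹ * (p * y * p⁻¹) * p = y := by group
    rwa [e] at h2

local notation "𝐏" => PJ cs h T X {i | i ≠ j}
local notation "𝐕" => VJ cs h X {i | i ≠ j}

open Classical in
include R in
/-- the sum over a coset of `V` -/
theorem sum_V [Fact r.Prime] (θ : ↥(PJ cs h T X {i | i ≠ j}) →* ℂˣ)
    (hθ : ∀ (y : Y) (hy : y ∈ PJ cs h T X {i | i ≠ j}), (∃ a : ℕ, y ^ r ^ a = 1) → θ ⟨y, hy⟩ = 1)
    {z : Y} (hzT : z ∈ T) (hzL : ∀ g ∈ LJ cs h T X {i | i ≠ j}, g * z = z * g)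
    (hzV : ∀ v ∈ VJ cs h X {i | i ≠ j}, v * z = z * v → v = 1) {w : W} {k : Y} (hk : Rp cs R.nsys w k)
    {p l v₀ : Y} (hp : p ∈ PJ cs h T X {i | i ≠ j}) (hl : l ∈ LJ cs h T X {i | i ≠ j})
    (hv₀ : v₀ ∈ VJ cs h X {i | i ≠ j}) :
    ∑ v : VJ cs h X {i | i ≠ j}, ex _ θ ((p * k * l * v₀ * v) * z * (p * k * l * v₀ * v)⁻¹) =
      ex _ θ (k * z * k⁻¹) * (vk cs h T X j k : ℂ) := by
  classical
  have hVP : 𝐕 ≤ 𝐏 := VJ_le_PJ
  have hzP : z ∈ 𝐏 := T_le_PJ R _ hzT
  have hnor : ∀ g ∈ 𝐏, ∀ v ∈ 𝐕, g * v * g⁻¹ ∈ 𝐕 := fun g hg v hv =>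
    (Subgroup.mem_normalizer_iff.1 (PJ_le_normalizer_VJ R _ hg) v).1 hv
  have hlP : l ∈ 𝐏 := LJ_le_PJ hl
  -- the bijection
  have hmem : ∀ v : 𝐕, z⁻¹ * (l * (v₀ * v) * l⁻¹) * z * (l * (v₀ * v) * l⁻¹)⁻¹ ∈ 𝐕 := by
    intro v
    have h1 : l * (v₀ * v) * l⁻¹ ∈ 𝐕 := hnor l hlP _ (mul_mem hv₀ v.2)
    have h2 := hnor z⁻¹ (inv_mem hzP) _ h1
    rw [inv_inv] at h2
    exact mul_mem h2 (inv_mem h1)
  let β : 𝐕 → 𝐕 := fun v => ⟨z⁻¹ * (l * (v₀ * v) * l⁻¹) * z * (l * (v₀ * v) * l⁻¹)⁻¹, hmem v⟩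
  have hβ : Function.Injective β := by
    intro v v' hvv
    have h1 : z⁻¹ * (l * (v₀ * v) * l⁻¹) * z * (l * (v₀ * v) * l⁻¹)⁻¹ =
        z⁻¹ * (l * (v₀ * v') * l⁻¹) * z * (l * (v₀ * v') * l⁻¹)⁻¹ := congrArg Subtype.val hvv
    set a := l * (v₀ * (v : Y)) * l⁻¹ with ha
    set b := l * (v₀ * (v' : Y)) * l⁻¹ with hb
    have haV : a ∈ 𝐕 := hnor l hlP _ (mul_mem hv₀ v.2)
    have hbV : b ∈ 𝐕 := hnor l hlP _ (mul_mem hv₀ v'.2)
    have h2 : b⁻¹ * a = 1 := by
      refine hzV _ (mul_mem (inv_mem hbV) haV) ?_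
      have h3 : z⁻¹ * a * z = z⁻¹ * b * z * b⁻¹ * a := by
        rw [← h1]; group
      have h4 : a * z = b * z * b⁻¹ * a := by
        have := congrArg (fun y => z * y) h3
        simpa only [mul_assoc, _root_.mul_inv_cancel_left] using this
      calc b⁻¹ * a * z = b⁻¹ * (a * z) := by group
        _ = b⁻¹ * (b * z * b⁻¹ * a) := by rw [h4]
        _ = z * (b⁻¹ * a) := by group
    have h3 : a = b := (inv_mul_eq_one.1 h2).symm
    apply Subtype.ext
    rw [ha, hb] at h3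
    exact mul_left_cancel (mul_left_cancel (mul_right_cancel h3))
  have hβb : Function.Bijective β := Finite.injective_iff_bijective.1 hβ
  have hVr : IsPGroup r ↥𝐕 := (R.isPGroup_Upos).to_le (VJ_le_U _)
  have hkz : k * z * k⁻¹ ∈ 𝐏 := T_le_PJ R _ ((Subgroup.mem_normalizer_iff.1 hk.mem_normalizer z).1 hzT)
  -- the terms
  have hterm : ∀ v : 𝐕, ex 𝐏 θ ((p * k * l * v₀ * v) * z * (p * k * l * v₀ * v)⁻¹) =
      ex 𝐏 θ (k * z * k⁻¹) * (if k * ((β v : 𝐕) : Y) * k⁻¹ ∈ 𝐏 then (1 : ℂ) else 0) := by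
    intro v
    set a := l * (v₀ * (v : Y)) * l⁻¹ with ha
    have e1 : (p * k * l * v₀ * v) * z * (p * k * l * v₀ * v)⁻¹ =
        p * (k * z * k⁻¹ * (k * ((β v : 𝐕) : Y) * k⁻¹)) * p⁻¹ := by
      have h1 : z * l⁻¹ = l⁻¹ * z := (hzL _ (inv_mem hl)).symm
      have e2 : ((β v : 𝐕) : Y) = z⁻¹ * a * z * a⁻¹ := rfl
      rw [e2]
      calc (p * k * l * v₀ * v) * z * (p * k * l * v₀ * v)⁻¹
          = p * k * (l * (v₀ * v)) * (z * (l⁻¹ * l)) * (l * (v₀ * v))⁻¹ * k⁻¹ * p⁻¹ := by group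
        _ = p * k * (l * (v₀ * v)) * (z * l⁻¹ * l) * (l * (v₀ * v))⁻¹ * k⁻¹ * p⁻¹ := by group
        _ = p * k * (l * (v₀ * v)) * (l⁻¹ * z * l) * (l * (v₀ * v))⁻¹ * k⁻¹ * p⁻¹ := by rw [h1]
        _ = p * (k * z * k⁻¹ * (k * (z⁻¹ * a * z * a⁻¹) * k⁻¹)) * p⁻¹ := by rw [ha]; group
    rw [e1, ex_conj hp]
    by_cases hb : k * ((β v : 𝐕) : Y) * k⁻¹ ∈ 𝐏
    · rw [if_pos hb, mul_one, ex_of (mul_mem hkz hb), ex_of hkz]
      have h2 : (⟨k * z * k⁻¹ * (k * ((β v : 𝐕) : Y) * k⁻¹), mul_mem hkz hb⟩ : 𝐏) = ⟨_, hkz⟩ * ⟨_, hb⟩ := rfl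
      rw [h2, map_mul]
      have h3 : θ ⟨_, hb⟩ = 1 := by
        apply hθ
        obtain ⟨c, hc⟩ := hVr (β v)
        refine ⟨c, ?_⟩
        have h4 : ((β v : 𝐕) : Y) ^ r ^ c = 1 := congrArg Subtype.val hc
        rw [conj_pow, h4, mul_one, mul_inv_cancel]
      rw [h3, mul_one]
    · rw [if_neg hb, mul_zero, ex_not]
      intro h2
      exact hb ((Subgroup.mul_mem_cancel_left 𝐏 hkz).1 h2)
  rw [Finset.sum_congr rfl fun v _ => hterm v, ← Finset.mul_sum]
  congr 1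
  rw [hβb.sum_comp (fun v : 𝐕 => if k * (v : Y) * k⁻¹ ∈ 𝐏 then (1 : ℂ) else 0), vk]
  push_cast
  exact Finset.sum_congr rfl fun v _ => by split_ifs <;> simp

omit [Finite W] [Fintype Y] [Fintype I] in
/-- sums over the states of functions of the class -/
theorem sum_kk (D : Data A j N m) (x : ℕ) (f : Fin m → ℚ) :
    ∑ s, ((x ^ D.wl s : ℕ) : ℚ) * f (D.t.cls s) = ∑ c, _root_.Cfsg.Agent.H64.Dl.Sph.ev x (D.kk c) * f c := by
  rw [← Finset.sum_fiberwise (s := Finset.univ) (g := fun s => D.t.cls s)]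
  refine Finset.sum_congr rfl fun c _ => ?_
  rw [← ChkK.spec (x : ℚ) D.chkK c, Finset.sum_mul]
  refine Finset.sum_congr rfl fun s hs => ?_
  rw [(Finset.mem_filter.1 hs).2]
  push_cast
  rfl

/-- the sum over the group of a function of the class of the state -/
theorem sum_cls (D : Data A j N m) {x : ℕ} (hq : ∀ i, Nat.card (X (sr i)) = x ^ D.e i) (f : Fin m → ℚ) :
    ∑ g, f (D.t.cls (stY R hG D.t g)) = Nat.card 𝐏 * ∑ c, _root_.Cfsg.Agent.H64.Dl.Sph.ev x (D.kk c) * f c := by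
  rw [sum_stY R hG D.t (fun s => f (D.t.cls s))]
  have h1 : ∀ s, cnt R hG D.t s = ((x ^ D.wl s : ℕ) : ℚ) * Nat.card 𝐏 := by
    intro s
    rw [cnt_eq R hG D.t (fun i => x ^ D.e i) hq (fun s => x ^ D.wl s) (by rw [D.wo, pow_zero])
      (fun i s hs => by rw [D.ws i s hs, pow_add]) s, cnt_o]
  rw [← sum_kk, Finset.mul_sum]
  refine Finset.sum_congr rfl fun s _ => ?_
  rw [h1]
  ring

open Classical in
include hG in
/-- **The sum over the conjugates.** -/
theorem sum_conj [Fact r.Prime] (D : Data A j N m) {x : ℕ} (hx : x ≠ 0)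
    (hq : ∀ i, Nat.card (X (sr i)) = x ^ D.e i) (θ : ↥𝐏 →* ℂˣ)
    (hθ : ∀ (y : Y) (hy : y ∈ 𝐏), (∃ a : ℕ, y ^ r ^ a = 1) → θ ⟨y, hy⟩ = 1)
    {z : Y} (hzT : z ∈ T) (hzL : ∀ g ∈ LJ cs h T X {i | i ≠ j}, g * z = z * g)
    (hzV : ∀ v ∈ 𝐕, v * z = z * v → v = 1) (w : Fin m → W) (hw1 : ∀ c, D.t.cls (D.t.sw cs h (w c)) = c)
    (hw2 : ∀ c i, i ≠ j → 0 ≤ D.t.vec (D.t.sw cs h (w c)) i) (ε : Fin m → ℚ)
    (hε : ∀ c k, Rp cs R.nsys (w c) k → ex 𝐏 θ (k * z * k⁻¹) = (ε c : ℂ)) :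
    ∑ g, ex 𝐏 θ (g * z * g⁻¹) =
      (Nat.card 𝐏 : ℂ) * ((∑ c, _root_.Cfsg.Agent.H64.Dl.Sph.ev x (D.kk c) * (ε c / (x : ℚ) ^ D.wl (D.t.sw cs h (w c))) : ℚ) : ℂ) := by
  choose k hk using fun c => exists_rp cs R.nsys (w c)
  have hx' : (x : ℚ) ≠ 0 := Nat.cast_ne_zero.2 hx
  have hV0 : (Nat.card 𝐕 : ℚ) ≠ 0 := Nat.cast_ne_zero.2 Nat.card_pos.ne'
  have hP0 : (Nat.card 𝐏 : ℚ) ≠ 0 := Nat.cast_ne_zero.2 Nat.card_pos.ne'
  have hvk : ∀ c, vk cs h T X j (k c) = Nat.card 𝐕 * (1 / (x : ℚ) ^ D.wl (D.t.sw cs h (w c))) := by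
    intro c
    have h1 := cnt_mul_vk R hG D.t (hk c) (fun i hi => by rw [← Tab.vec_sw cs h D.t]; exact hw2 c i hi)
    rw [cnt_eq R hG D.t (fun i => x ^ D.e i) hq (fun s => x ^ D.wl s) (by rw [D.wo, pow_zero])
      (fun i s hs => by rw [D.ws i s hs, pow_add]) _, cnt_o] at h1
    push_cast at h1
    field_simp
    have h2 : (Nat.card 𝐏 : ℚ) * ((x : ℚ) ^ D.wl (D.t.sw cs h (w c)) * vk cs h T X j (k c)) =
        (Nat.card 𝐏 : ℚ) * Nat.card 𝐕 := by
      linear_combination h1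
    have h3 := mul_left_cancel₀ hP0 h2
    linear_combination h3
  -- the sum over a coset
  have h1 : ∀ g : Y, ∑ v : 𝐕, ex 𝐏 θ ((g * v) * z * (g * v)⁻¹) =
      ((Nat.card 𝐕 * (ε (D.t.cls (stY R hG D.t g)) /
        (x : ℚ) ^ D.wl (D.t.sw cs h (w (D.t.cls (stY R hG D.t g))))) : ℚ) : ℂ) := by
    intro g
    set c := D.t.cls (stY R hG D.t g) with hc
    obtain ⟨p, hp, l, hl, v₀, hv₀, e⟩ := exists_PkLV R hG D.t (hk c) (g := g) (by rw [hw1])
    have h2 := sum_V R θ hθ hzT hzL hzV (hk c) hp hl hv₀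
    rw [hε c _ (hk c), hvk] at h2
    have h3 : ∑ v : 𝐕, ex 𝐏 θ ((g * v) * z * (g * v)⁻¹) =
        ∑ v : 𝐕, ex 𝐏 θ ((p * k c * l * v₀ * v) * z * (p * k c * l * v₀ * v)⁻¹) :=
      Finset.sum_congr rfl fun v _ => by rw [← e]
    rw [h3, h2]
    push_cast
    ring
  have h2 : ((Nat.card 𝐕 : ℚ) : ℂ) * ∑ g, ex 𝐏 θ (g * z * g⁻¹) = ((Nat.card 𝐕 : ℚ) : ℂ) * ((Nat.card 𝐏 : ℂ) *
      ((∑ c, _root_.Cfsg.Agent.H64.Dl.Sph.ev x (D.kk c) * (ε c / (x : ℚ) ^ D.wl (D.t.sw cs h (w c))) : ℚ) : ℂ)) := by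
    have h3 : ∑ v : 𝐕, ∑ g : Y, ex 𝐏 θ ((g * v) * z * (g * v)⁻¹) = ((Nat.card 𝐕 : ℚ) : ℂ) * ∑ g, ex 𝐏 θ (g * z * g⁻¹) := by
      have h4 : ∀ v : 𝐕, ∑ g : Y, ex 𝐏 θ ((g * v) * z * (g * v)⁻¹) = ∑ g, ex 𝐏 θ (g * z * g⁻¹) := fun v =>
        Fintype.sum_equiv (Equiv.mulRight (v : Y)) _ _ fun g => rfl
      rw [Finset.sum_congr rfl fun v _ => h4 v, Finset.sum_const, Finset.card_univ, nsmul_eq_mul,
        Nat.card_eq_fintype_card (α := 𝐕)]
      push_cast
      rfl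
    rw [← h3, Finset.sum_comm, Finset.sum_congr rfl fun g _ => h1 g]
    have h5 := sum_cls R hG D hq fun c => (ε c / (x : ℚ) ^ D.wl (D.t.sw cs h (w c)))
    have h6 : (∑ g : Y, ((Nat.card 𝐕 * (ε (D.t.cls (stY R hG D.t g)) /
        (x : ℚ) ^ D.wl (D.t.sw cs h (w (D.t.cls (stY R hG D.t g))))) : ℚ) : ℂ)) =
        ((Nat.card 𝐕 * ∑ g : Y, (ε (D.t.cls (stY R hG D.t g)) /
        (x : ℚ) ^ D.wl (D.t.sw cs h (w (D.t.cls (stY R hG D.t g))))) : ℚ) : ℂ) := by
      rw [Finset.mul_sum]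
      push_cast
      rfl
    rw [h6, h5]
    push_cast
    ring
  refine mul_left_cancel₀ ?_ h2
  exact_mod_cast hV0

end val

end Cfsg.Agent.H526.PQ
end

-- part: H526/PQ/CenTest
section
/-!
# The class test for induced linear characters at central elements of the Levi subgroup (helper526, for S4612)

`central_test` : `θ` of `p`-power order on the maximal parabolic subgroup `P_j`, inducing irreducibly; `z ∈ T` central in
the Levi subgroup, `C_V(z) = 1`: if `B0 p = B0 l`, then `l` divides `|V| (χ(1) - χ(z))`.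
-/

set_option autoImplicit false
set_option linter.unusedSectionVars false
set_option quotPrecheck false

namespace Cfsg.Agent.H526.PQ

open Cfsg Cfsg.Agent.H967.Sph Cfsg.Agent.H996.Eight.Cert Cfsg.Agent.H64.Dl.Sph
open CoxeterSystem Cfsg.Agent.ChevalleyStructure.CoxeterGeom Cfsg.Agent.Tits.Roots Cfsg.Agent.Tits.Core
  Cfsg.Agent.Tits.Exchange Cfsg.Agent.Nodes.Reps Cfsg.Agent.Nodes.BNOf Cfsg.Agent.Nodes.StabComb Cfsg.Agent.Nodes.Bruhat
  Cfsg.Agent.Nodes.OppDec Cfsg.Agent.Nodes.LeviDec Cfsg.Agent.H632.PQ Cfsg.Agent.H317.PQ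
  Cfsg.Agent.Blocks.Basic Cfsg.Agent.Blocks.Local Cfsg.Agent.Characters.Core

universe u

/-- the formula of the induced character -/
theorem indFun_formula {G : Type u} [Group G] [Fintype G] (H : Subgroup G) (θ : ↥H →* ℂˣ) (g : G) :
    indFun H (fun t => (θ t : ℂ)) g =
      (Nat.card H : ℂ)⁻¹ * ∑ᶠ x : {x : G // x⁻¹ * g * x ∈ H}, ((θ ⟨_, x.2⟩ : ℂˣ) : ℂ) := by
  classical
  rw [indFun]
  congr 1
  rw [finsum_eq_sum_of_fintype, ← Finset.sum_filter_add_sum_filter_not Finset.univ (fun x : G => x⁻¹ * g * x ∈ H)]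
  have h0 : ∑ x : G with ¬ x⁻¹ * g * x ∈ H, extendByZero H (fun t => ((θ t : ℂˣ) : ℂ)) (x⁻¹ * g * x) = 0 := by
    refine Finset.sum_eq_zero fun x hx => ?_
    simp only [Finset.mem_filter, Finset.mem_univ, true_and] at hx
    exact Cfsg.Agent.OddOrderCharacters.Clifford.ext_apply_not_mem H _ _ hx
  rw [h0, add_zero]
  rw [Finset.sum_subtype (Finset.univ.filter fun x : G => x⁻¹ * g * x ∈ H) (p := fun x : G => x⁻¹ * g * x ∈ H)
    (fun x => by simp only [_root_.Finset.mem_filter, _root_.Finset.mem_univ, _root_.true_and]) (fun x => extendByZero H (fun t => ((θ t : ℂˣ) : ℂ)) (x⁻¹ * g * x))]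
  refine Finset.sum_congr rfl fun x _ => ?_
  exact Cfsg.Agent.OddOrderCharacters.Clifford.ext_apply_mem H _ _ x.2

/-- `θ` of `p`-power order: `Ind θ` is in the principal `p`-block -/
theorem mem_B0_ind {G : Type u} [Group G] [Fintype G] {p : ℕ} (hp : p.Prime) (H : Subgroup G) (θ : ↥H →* ℂˣ)
    (hθ : ∀ h, ∃ k : ℕ, θ h ^ p ^ k = 1) (χ : IrrCharacter G)
    (hχ : ∀ g : G, (χ : G → ℂ) g = (Nat.card H : ℂ)⁻¹ * ∑ᶠ x : {x : G // x⁻¹ * g * x ∈ H}, ((θ ⟨_, x.2⟩ : ℂˣ) : ℂ)) :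
    χ ∈ B0 p G := by
  classical
  have := Fintype.ofFinite H
  have hHc : (Nat.card H : ℂ)⁻¹ ≠ 0 := inv_ne_zero (by exact_mod_cast Nat.card_pos.ne')
  have hGc : (Fintype.card G : ℂ) ≠ 0 := by exact_mod_cast Fintype.card_ne_zero
  intro M hM
  refine H809.PQ.mem_principal_of_sum hp hM χ ?_
  rw [H809.PQ.sum_reg H θ χ hχ p]
  refine mul_ne_zero hHc (mul_ne_zero hGc ?_)
  have h1 : ∑ h : H with ¬ p ∣ orderOf h, ((θ h : ℂˣ) : ℂ) = ∑ h : H with ¬ p ∣ orderOf h, (1 : ℂ) := by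
    refine Finset.sum_congr rfl fun h hh => ?_
    simp only [Finset.mem_filter, Finset.mem_univ, true_and] at hh
    obtain ⟨k, hk⟩ := hθ h
    have h2 : orderOf (θ h) ∣ p ^ k := orderOf_dvd_of_pow_eq_one hk
    have h3 : orderOf (θ h) ∣ orderOf h := orderOf_map_dvd θ h
    have h4 : Nat.Coprime (orderOf h) (p ^ k) := ((Nat.Prime.coprime_iff_not_dvd hp).2 hh).symm.pow_right k
    have h5 : orderOf (θ h) = 1 := Nat.eq_one_of_dvd_coprimes h4 h3 h2
    rw [orderOf_eq_one_iff.1 h5, Units.val_one]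
  rw [h1, Finset.sum_const, nsmul_eq_mul, mul_one]
  have h6 : (1 : H) ∈ Finset.univ.filter fun h : H => ¬ p ∣ orderOf h := by
    simp only [Finset.mem_filter, Finset.mem_univ, true_and, orderOf_one]
    exact hp.one_lt.ne' ∘ Nat.dvd_one.1
  exact_mod_cast (Finset.card_pos.2 ⟨1, h6⟩).ne'

/-- the class test without knowledge of the centraliser: `e |g^G| = b` -/
theorem class_test_mul {G : Type u} [Group G] [Finite G] {p : ℕ} (hp : p.Prime) {χ : IrrCharacter G} (h : χ ∈ B0 p G)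
    (g : G) {d v : ℚ} {c e : ℤ} (hd : (χ : G → ℂ) 1 = (d : ℂ)) (hv : (χ : G → ℂ) g = (v : ℂ))
    (hc : (c : ℚ) * d = e * ((Subgroup.centralizer ({g} : Set G)).index : ℚ) * (d - v)) : (p : ℤ) ∣ c := by
  have : Fact p.Prime := ⟨hp⟩
  obtain ⟨M, hM⟩ := Blocks.ExistsModular.exists_isPModular hp
  have hMp : M.IsPrime := isPrime_of_isPModular hM
  rw [B0_eq hp hM] at h
  have h1 := h g
  have hd0 : (d : ℂ) ≠ 0 := by
    rw [← hd]
    exact irr_one_ne_zero χ.2
  have h2 : (e : ℂ) * (centralChar (fun _ : G => (1 : ℂ)) g - centralChar (χ : G → ℂ) g) = (c : ℂ) := by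
    have hc' : (c : ℂ) * d = e * ((Subgroup.centralizer ({g} : Set G)).index : ℂ) * (d - v) := by exact_mod_cast hc
    unfold centralChar
    rw [hd, hv]
    field_simp
    linear_combination -hc'
  have he : MemLocalRing M (e : ℂ) := memLocalRing_intCast e
  have h3 := memLocalIdeal_mul_left he h1
  rw [h2] at h3
  rcases Int.natAbs_eq c with h4 | h4
  · rw [h4] at h3 ⊢
    rw [Int.cast_natCast, memLocalIdeal_natCast_iff hM] at h3
    exact_mod_cast h3
  · have h5 : MemLocalIdeal M ((c.natAbs : ℕ) : ℂ) := by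
      have h6 := memLocalIdeal_neg h3
      rw [h4] at h6
      simpa using h6
    rw [memLocalIdeal_natCast_iff hM] at h5
    rw [h4, dvd_neg]
    exact_mod_cast h5

variable {I W : Type*} {Y : Type u} [Fintype I] [DecidableEq I] [Group W] [Finite W] [Group Y]
    {M : CoxeterMatrix I} {cs : CoxeterSystem M W} {A : I → I → ℤ} {h : IsCartan M A} {r : ℕ} {T : Subgroup Y}
    {n : I → Y} {X : (I → ℤ) → Subgroup Y} (R : RGD cs h r T n X) (hG : GG cs h T X = ⊤)
    {j : I} {N m : ℕ}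

local notation "𝐏" => PJ cs h T X {i | i ≠ j}
local notation "𝐕" => VJ cs h X {i | i ≠ j}

include R in
theorem card_PJ_eq (J : Set I) :
    Nat.card (PJ cs h T X J) = Nat.card (LJ cs h T X J) * Nat.card (VJ cs h X J) := by
  rw [← Nat.card_prod]
  symm
  refine Nat.card_congr (Equiv.ofBijective (fun x : LJ cs h T X J × VJ cs h X J =>
    (⟨x.1 * x.2, mul_mem (LJ_le_PJ x.1.2) (VJ_le_PJ x.2.2)⟩ : PJ cs h T X J)) ⟨?_, ?_⟩)
  · rintro ⟨l, v⟩ ⟨l', v'⟩ h1
    have h2 : (l : Y) * v = l' * v' := congrArg Subtype.val h1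
    have h3 : (l' : Y)⁻¹ * l = v' * (v : Y)⁻¹ := by
      rw [eq_mul_inv_iff_mul_eq, mul_assoc, h2, inv_mul_cancel_left]
    have h4 : (l' : Y)⁻¹ * l ∈ (⊥ : Subgroup Y) := by
      rw [← LJ_inf_VJ R J]
      exact Subgroup.mem_inf.2 ⟨mul_mem (inv_mem l'.2) l.2, by rw [h3]; exact mul_mem v'.2 (inv_mem v.2)⟩
    rw [Subgroup.mem_bot] at h4
    have h5 : (l' : Y) = l := inv_mul_eq_one.1 h4
    have h6 : (v' : Y) = v := by
      rw [h4] at h3
      exact mul_inv_eq_one.1 h3.symm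
    exact Prod.ext (Subtype.ext h5.symm) (Subtype.ext h6.symm)
  · rintro ⟨g, hg⟩
    obtain ⟨l, hl, v, hv, rfl⟩ := (mem_PJ R).1 hg
    exact ⟨(⟨l, hl⟩, ⟨v, hv⟩), rfl⟩

include R in
/-- **Mackey's criterion** for linear characters of `P_J`. -/
theorem isIrr_PJ [Fintype Y] (hG : GG cs h T X = ⊤) (J : Set I) (θ : ↥(PJ cs h T X J) →* ℂˣ)
    (hm : ∀ w : W, w ∉ WJ cs J → ∀ k, Rp cs R.nsys w k → ∃ t ∈ T,
      ex _ θ t ≠ ex _ θ (k⁻¹ * t * k)) : IsIrrCharacter Y (indFun (PJ cs h T X J) (fun t => (θ t : ℂ))) := by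
  have hBP : RGD.B cs h T X ≤ PJ cs h T X J := B_le_PJ
  have hTP : T ≤ PJ cs h T X J := RGD.T_le_B.trans hBP
  apply Cfsg.Agent.CharactersDeep.MackeyLinear.isIrrCharacter_indFun
  intro g hg
  obtain ⟨b₁, hb₁, k, hk, b₂, hb₂, e⟩ := cell_wOf R hG g
  have hw : wOf R hG g ∉ WJ cs J := by
    intro hw
    apply hg
    rw [mem_PJ_iff_cell R]
    exact ⟨_, hw, cell_wOf R hG g⟩
  obtain ⟨t, ht, hd⟩ := hm _ hw k hk
  have hkt : k⁻¹ * t * k ∈ T := conj_mem_T R hk ht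
  have h1 : b₁ * t * b₁⁻¹ ∈ PJ cs h T X J := mul_mem (mul_mem (hBP hb₁) (hTP ht)) (inv_mem (hBP hb₁))
  have e2 : g⁻¹ * (b₁ * t * b₁⁻¹) * g = b₂⁻¹ * (k⁻¹ * t * k) * b₂⁻¹⁻¹ := by rw [e]; group
  have h2 : g⁻¹ * (b₁ * t * b₁⁻¹) * g ∈ PJ cs h T X J := by
    rw [e2]
    exact mul_mem (mul_mem (inv_mem (hBP hb₂)) (hTP hkt)) (inv_mem (inv_mem (hBP hb₂)))
  refine ⟨⟨_, h1⟩, h2, fun h3 => hd ?_⟩
  rw [← ex_conj (hBP hb₁) t, ← ex_conj (inv_mem (hBP hb₂)) (k⁻¹ * t * k), ← e2, ex_of h1, ex_of h2, h3]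

include R in
/-- **The test at a central element of the Levi subgroup.** -/
theorem central_test [Finite Y] [hr : Fact r.Prime] (hG : GG cs h T X = ⊤) (D : Data A j N m) {x : ℕ} (hx : x ≠ 0)
    (hq : ∀ i, Nat.card (X (sr i)) = x ^ D.e i) {p l : ℕ} (hp : p.Prime) (hl : l.Prime) (hpr : p ≠ r)
    (θ : ↥𝐏 →* ℂˣ) (hθp : ∀ g, ∃ k : ℕ, θ g ^ p ^ k = 1)
    (hm : ∀ w : W, w ∉ WJ cs {i | i ≠ j} → ∀ k, Rp cs R.nsys w k → ∃ t ∈ T, ex 𝐏 θ t ≠ ex 𝐏 θ (k⁻¹ * t * k))
    {z : Y} (hzT : z ∈ T) (hzL : ∀ g ∈ LJ cs h T X {i | i ≠ j}, g * z = z * g)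
    (hzV : ∀ v ∈ 𝐕, v * z = z * v → v = 1) (w : Fin m → W) (hw1 : ∀ c, D.t.cls (D.t.sw cs h (w c)) = c)
    (hw2 : ∀ c i, i ≠ j → 0 ≤ D.t.vec (D.t.sw cs h (w c)) i) (ε : Fin m → ℚ)
    (hε : ∀ c k, Rp cs R.nsys (w c) k → ex 𝐏 θ (k * z * k⁻¹) = (ε c : ℂ)) (hS : Same p l Y) {b : ℤ}
    (hb : (b : ℚ) = Nat.card 𝐕 * (∑ c, _root_.Cfsg.Agent.H64.Dl.Sph.ev x (D.kk c) * (1 - ε c / (x : ℚ) ^ D.wl (D.t.sw cs h (w c))))) :
    (l : ℤ) ∣ b := by
  classical
  have := Fintype.ofFinite Y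
  have hirr := isIrr_PJ R hG {i | i ≠ j} θ hm
  set χ : IrrCharacter Y := ⟨_, hirr⟩ with hχ
  have hθr : ∀ (y : Y) (hy : y ∈ 𝐏), (∃ a : ℕ, y ^ r ^ a = 1) → θ ⟨y, hy⟩ = 1 := by
    rintro y hy ⟨a, ha⟩
    obtain ⟨k, hk⟩ := hθp ⟨y, hy⟩
    have h1 : θ ⟨y, hy⟩ ^ r ^ a = 1 := by
      rw [← map_pow]
      have : (⟨y, hy⟩ : 𝐏) ^ r ^ a = 1 := Subtype.ext ha
      rw [this, map_one]
    have h2 : Nat.Coprime (p ^ k) (r ^ a) := ((Nat.coprime_primes hp hr.out).2 hpr).pow _ _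
    have h3 := Nat.eq_one_of_dvd_coprimes h2 (orderOf_dvd_of_pow_eq_one hk) (orderOf_dvd_of_pow_eq_one h1)
    exact orderOf_eq_one_iff.1 h3
  have hP0 : (Nat.card 𝐏 : ℚ) ≠ 0 := Nat.cast_ne_zero.2 Nat.card_pos.ne'
  have hP0' : (Nat.card 𝐏 : ℂ) ≠ 0 := Nat.cast_ne_zero.2 Nat.card_pos.ne'
  set Nn : ℚ := ∑ c, _root_.Cfsg.Agent.H64.Dl.Sph.ev x (D.kk c) with hNn
  set S : ℚ := ∑ c, _root_.Cfsg.Agent.H64.Dl.Sph.ev x (D.kk c) * (ε c / (x : ℚ) ^ D.wl (D.t.sw cs h (w c))) with hSn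
  -- the index
  have hind : ((𝐏).index : ℚ) = Nn := by
    have h1 := sum_cls R hG D hq fun _ => 1
    simp only [mul_one, Finset.sum_const, Finset.card_univ, nsmul_eq_mul] at h1
    have h2 : ((𝐏).index : ℚ) * Nat.card 𝐏 = Fintype.card Y := by
      have := (𝐏).index_mul_card
      rw [Nat.card_eq_fintype_card (α := Y)] at this
      exact_mod_cast this
    apply mul_right_cancel₀ hP0
    rw [h2, h1, mul_comm]
  have hval1 : (χ : Y → ℂ) 1 = (Nn : ℂ) := by
    show indFun 𝐏 (fun t => (θ t : ℂ)) 1 = _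
    rw [Cfsg.Agent.CharactersDeep.NormalInd.indFun_one, map_one, Units.val_one, mul_one, ← hind]
    push_cast
    rfl
  have hvalz : (χ : Y → ℂ) z = (S : ℂ) := by
    show indFun 𝐏 (fun t => (θ t : ℂ)) z = _
    rw [indFun]
    have h1 : ∑ y : Y, extendByZero 𝐏 (fun t => ((θ t : ℂˣ) : ℂ)) (y⁻¹ * z * y) = ∑ g : Y, ex 𝐏 θ (g * z * g⁻¹) := by
      refine Fintype.sum_equiv (Equiv.inv Y) _ _ fun y => ?_
      rw [Equiv.inv_apply, inv_inv]
      by_cases hy : y⁻¹ * z * y ∈ 𝐏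
      · rw [ex_of hy, Cfsg.Agent.OddOrderCharacters.Clifford.ext_apply_mem _ _ _ hy]
      · rw [ex_not hy, Cfsg.Agent.OddOrderCharacters.Clifford.ext_apply_not_mem _ _ _ hy]
    rw [h1, sum_conj R hG D hx hq θ hθr hzT hzL hzV w hw1 hw2 ε hε, ← mul_assoc]
    rw [show ((Nat.card 𝐏 : ℕ) : ℂ)⁻¹ * ((Nat.card 𝐏 : ℕ) : ℂ) = 1 from inv_mul_cancel₀ hP0', one_mul]
  -- in the principal `p`-block
  have hmem : χ ∈ B0 p Y := mem_B0_ind hp 𝐏 θ hθp χ (fun g => indFun_formula 𝐏 θ g)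
  -- the index of the centraliser
  have hLC : LJ cs h T X {i | i ≠ j} ≤ Subgroup.centralizer {z} := fun g hg =>
    Subgroup.mem_centralizer_singleton_iff.2 (hzL g hg)
  obtain ⟨e, he⟩ := Subgroup.card_dvd_of_le hLC
  have hL0 : (Nat.card (LJ cs h T X {i | i ≠ j}) : ℚ) ≠ 0 := Nat.cast_ne_zero.2 Nat.card_pos.ne'
  have he2 : (e : ℚ) * ((Subgroup.centralizer ({z} : Set Y)).index : ℚ) = Nat.card 𝐕 * Nn := by
    have h1 := (Subgroup.centralizer ({z} : Set Y)).index_mul_card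
    have h2 := (𝐏).index_mul_card
    rw [← h2, he, card_PJ_eq R] at h1
    have h3 : ((Subgroup.centralizer ({z} : Set Y)).index : ℚ) * (Nat.card (LJ cs h T X {i | i ≠ j}) * e) =
        ((𝐏).index : ℚ) * (Nat.card (LJ cs h T X {i | i ≠ j}) * Nat.card 𝐕) := by exact_mod_cast h1
    rw [hind] at h3
    apply mul_left_cancel₀ hL0
    linear_combination h3
  refine class_test_mul hl (hS ▸ hmem : χ ∈ B0 l Y) z hval1 hvalz (c := b) (e := e) ?_
  have hb' : (b : ℚ) = Nat.card 𝐕 * (Nn - S) := by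
    rw [hb, hNn, hSn, ← Finset.sum_sub_distrib]
    congr 1
    exact Finset.sum_congr rfl fun c _ => by ring
  rw [hb', Int.cast_natCast, he2]
  ring

end Cfsg.Agent.H526.PQ
end

-- part: H526/PQ/ExtPJ
section
/-!
# Linear characters of the parabolic subgroups (helper526, for S4612)

`T_inf_MJ_le` : `T ∩ M_J ≤ ⨆ i ∈ J, T ∩ ⟨X_i, X_{-i}⟩`;
`exists_ext` : a linear character of `T` trivial on the `T ∩ ⟨X_i, X_{-i}⟩`, `i ∈ J`, extends to `P_J`.
-/

set_option autoImplicit false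
set_option linter.unusedSectionVars false

namespace Cfsg.Agent.H526.PQ

open Cfsg CoxeterSystem Cfsg.Agent.ChevalleyStructure.CoxeterGeom Cfsg.Agent.Tits.Roots Cfsg.Agent.Tits.Core
  Cfsg.Agent.Tits.Exchange Cfsg.Agent.Nodes.Comb Cfsg.Agent.Nodes.Reps Cfsg.Agent.Nodes.BNOf
  Cfsg.Agent.Nodes.StabComb Cfsg.Agent.Nodes.Bruhat Cfsg.Agent.Nodes.NormalForm Cfsg.Agent.Nodes.OppDec
  Cfsg.Agent.Nodes.LeviDec
  Cfsg.Agent.Nodes.FreeTorus Cfsg.Agent.Nodes.SubComb Cfsg.Agent.Nodes.Sub Cfsg.Agent.Nodes.ClsSub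
  Cfsg.Agent.H53.HC Cfsg.Agent.H292.S38.Tor

variable {I W Y : Type*} [Fintype I] [DecidableEq I] [Group W] [Group Y] {M : CoxeterMatrix I}
  {cs : CoxeterSystem M W} {A : I → I → ℤ} {h : IsCartan M A} {p : ℕ} {T : Subgroup Y} {n : I → Y}
  {X : (I → ℤ) → Subgroup Y}

/-- **The torus of `M_J`.** -/
theorem T_inf_MJ_le [Finite W] (R : RGD cs h p T n X) {J : Set I} (hn : ∀ i ∈ J, n i ∈ LL X (sr i)) :
    T ⊓ MJ cs h X J ≤ ⨆ i : J, T ⊓ LL X (sr i.1) := by
  classical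
  let f : J ↪ I := Function.Embedding.subtype _
  have hf : Set.range f = J := Subtype.range_coe
  let cs' : CoxeterSystem (leviMatrix f M) (leviMatrix f M).Group := (leviMatrix f M).toCoxeterSystem
  have hW' : Finite (leviMatrix f M).Group := (levi_subSys (cs := cs) (h := h) f).finite cs' (levi_isCartan f h)
  have hi : ∀ j : J, iota (fun j : J => sr (f j)) (sr j) = sr (f j) := fun j => iota_sr _ j
  have := Fintype.ofFinite W
  have := Fintype.ofFinite (leviMatrix f M).Group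
  have hR : ∀ {x : I → ℤ}, x ∈ RootsJ cs h J ↔ ∃ c, IsRoot cs' (levi_isCartan f h) c ∧
      x = iota (fun j => sr (f j)) c := by
    intro x
    rw [← mem_RootsJ_range_iff (cs := cs) (h := h) f cs', hf]
  have e : TS T (fun c => X (iota (fun j : J => sr (f j)) c)) = ⨆ i : J, T ⊓ LL X (sr i.1) := by
    unfold TS LL
    refine iSup_congr fun j => ?_
    beta_reduce
    rw [map_neg, hi]
    rfl
  have hn' : ∀ j : J, n (f j) ∈ LL (fun c => X (iota (fun j : J => sr (f j)) c)) (sr j) := by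
    intro j
    unfold LL
    beta_reduce
    rw [map_neg, hi]
    exact hn _ j.2
  have R' := rgd_levi R f cs'
  rw [← e]
  intro t ht
  obtain ⟨ht1, ht2⟩ := Subgroup.mem_inf.1 ht
  refine HH_inf_GG_le (rgd_small R' hn') (Subgroup.mem_inf.2 ⟨T_le_HH R' ht1, (le_sup_right : _ ≤ GG cs'
    (levi_isCartan f h) (TS T (fun c => X (iota (fun j : J => sr (f j)) c)))
      (fun c => X (iota (fun j : J => sr (f j)) c))) ?_⟩)
  refine (?_ : MJ cs h X J ≤ _) ht2
  refine RGD.Sup_le fun x hx => ?_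
  obtain ⟨c, hc', rfl⟩ := hR.1 hx
  exact RGD.le_Sup (X := fun c => X (iota (fun j : J => sr (f j)) c)) (S := {x | IsRoot cs' (levi_isCartan f h) x})
    hc'

/-- **Extension of linear characters of `T` to `P_J`.** -/
theorem exists_ext_PJ [Finite W] (R : RGD cs h p T n X) (J : Set I) (θ : T →* ℂˣ)
    (hθ : ∀ (t : Y) (ht : t ∈ T), t ∈ MJ cs h X J → θ ⟨t, ht⟩ = 1) :
    ∃ f : ↥(PJ cs h T X J) →* ℂˣ, (∀ (t : Y) (ht : t ∈ T), f ⟨t, (RGD.T_le_B.trans B_le_PJ) ht⟩ = θ ⟨t, ht⟩) ∧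
      (∀ (m : Y) (hm : m ∈ MJ cs h X J), f ⟨m, LJ_le_PJ (MJ_le_LJ _ hm)⟩ = 1) ∧
      ∀ (v : Y) (hv : v ∈ VJ cs h X J), f ⟨v, VJ_le_PJ hv⟩ = 1 := by
  obtain ⟨π, hπ1, hπ2⟩ := exists_projL R J
  let N := (MJ cs h X J).subgroupOf (LJ cs h T X J)
  have hN : N.Normal := (Subgroup.normal_subgroupOf_iff_le_normalizer (MJ_le_LJ _)).2 (LJ_le_normalizer_MJ R _)
  let g : T →* ↥(LJ cs h T X J) ⧸ N := (QuotientGroup.mk' N).comp (Subgroup.inclusion T_le_LJ)
  have hsurj : Function.Surjective g := by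
    intro q
    obtain ⟨⟨l, hl⟩, rfl⟩ := QuotientGroup.mk'_surjective N q
    obtain ⟨t, ht, m, hm, rfl⟩ := (mem_LJ_iff_mul R _).1 hl
    refine ⟨⟨t, ht⟩, ?_⟩
    refine (QuotientGroup.eq (s := N)).2 ?_
    rw [Subgroup.mem_subgroupOf]
    have e : ((((Subgroup.inclusion (T_le_LJ (cs := cs) (h := h) (T := T) (X := X) (J := J)) ⟨t, ht⟩)⁻¹ *
      ⟨t * m, hl⟩ : ↥(LJ cs h T X J))) : Y) = m := by
      change t⁻¹ * (t * m) = m
      group
    rw [e]
    exact hm
  have hker : g.ker ≤ θ.ker := by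
    rintro ⟨t, ht⟩ h1
    rw [MonoidHom.mem_ker] at h1 ⊢
    refine hθ t ht ?_
    have h2 := (QuotientGroup.eq_one_iff _).1 h1
    rw [Subgroup.mem_subgroupOf] at h2
    exact h2
  let e := QuotientGroup.quotientKerEquivOfSurjective g hsurj
  let θ' : T ⧸ g.ker →* ℂˣ := QuotientGroup.lift g.ker θ hker
  let fL : ↥(LJ cs h T X J) →* ℂˣ := θ'.comp (e.symm.toMonoidHom.comp (QuotientGroup.mk' N))
  have hfT : ∀ (t : Y) (ht : t ∈ T), fL ⟨t, T_le_LJ ht⟩ = θ ⟨t, ht⟩ := by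
    intro t ht
    have h1 : e.symm (QuotientGroup.mk' N ⟨t, T_le_LJ ht⟩) = QuotientGroup.mk (⟨t, ht⟩ : T) := by
      rw [MulEquiv.symm_apply_eq]
      rfl
    change θ' (e.symm (QuotientGroup.mk' N ⟨t, T_le_LJ ht⟩)) = _
    rw [h1]
    rfl
  have hfM : ∀ (m : Y) (hm : m ∈ MJ cs h X J), fL ⟨m, MJ_le_LJ _ hm⟩ = 1 := by
    intro m hm
    have h1 : QuotientGroup.mk' N ⟨m, MJ_le_LJ _ hm⟩ = 1 := by
      refine (QuotientGroup.eq_one_iff _).2 ?_
      rw [Subgroup.mem_subgroupOf]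
      exact hm
    change θ' (e.symm (QuotientGroup.mk' N ⟨m, MJ_le_LJ _ hm⟩)) = 1
    rw [h1, map_one, map_one]
  refine ⟨fL.comp π, fun t ht => ?_, fun m hm => ?_, fun v hv => ?_⟩
  · rw [MonoidHom.comp_apply, hπ1 t (T_le_LJ ht), hfT]
  · rw [MonoidHom.comp_apply, hπ1 m (MJ_le_LJ _ hm), hfM m hm]
  · rw [MonoidHom.comp_apply, hπ2 v hv, map_one]

/-- **Extension of linear characters of `T` to `P_J`**, if they are trivial on the rank one tori of `J`. -/
theorem exists_ext [Finite W] (R : RGD cs h p T n X) {J : Set I} (hn : ∀ i ∈ J, n i ∈ LL X (sr i)) (θ : T →* ℂˣ)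
    (hθ : ∀ i ∈ J, ∀ (t : Y) (ht : t ∈ T), t ∈ LL X (sr i) → θ ⟨t, ht⟩ = 1) :
    ∃ f : ↥(PJ cs h T X J) →* ℂˣ, (∀ (t : Y) (ht : t ∈ T), f ⟨t, (RGD.T_le_B.trans B_le_PJ) ht⟩ = θ ⟨t, ht⟩) ∧
      (∀ (m : Y) (hm : m ∈ MJ cs h X J), f ⟨m, LJ_le_PJ (MJ_le_LJ _ hm)⟩ = 1) ∧
      ∀ (v : Y) (hv : v ∈ VJ cs h X J), f ⟨v, VJ_le_PJ hv⟩ = 1 := by
  refine exists_ext_PJ R J θ fun t ht hm => ?_
  have h1 : (⨆ i : J, T ⊓ LL X (sr i.1)) ≤ θ.ker.map T.subtype := by
    refine iSup_le fun i t ht => ?_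
    obtain ⟨h1, h2⟩ := Subgroup.mem_inf.1 ht
    exact ⟨⟨t, h1⟩, hθ i i.2 t h1 h2, rfl⟩
  obtain ⟨⟨t', ht'⟩, h2, h3⟩ := h1 (T_inf_MJ_le R hn (Subgroup.mem_inf.2 ⟨ht, hm⟩))
  have h4 : (⟨t', ht'⟩ : T) = ⟨t, ht⟩ := Subtype.ext h3
  rw [← h4]
  exact h2

end Cfsg.Agent.H526.PQ
end

-- part: H526/PQ/Mod2
section
/-!
# Linear characters of order two (helper526, for S4612)

`D` a simply laced tabulated datum, `v₀` a multiple of a fundamental coweight in the coroot lattice, `-1` not a square of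
`K`: the quadratic character `lamT` of the torus; its values at the elements `tau y = ∏ h_i((-1)^(y i))`.
-/

set_option autoImplicit false
set_option linter.unusedSectionVars false

open Cfsg

namespace Cfsg.Agent.H526.PQ

open Cfsg.Lie Cfsg.Agent.ChevalleyStructure Cfsg.Agent.ChevalleyStructure.Elts
  Cfsg.Agent.ChevalleyStructure.RootVec Cfsg.Agent.ChevalleyStructure.RootVecTab
  Cfsg.Agent.ChevalleyStructure.NPerm Cfsg.Agent.ChevalleyStructure.CoxeterGeomTypes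
open Cfsg.Agent.Nodes Cfsg.Agent.Nodes.RGDChev Cfsg.Agent.H35.ExcIdx
open CoxeterSystem Cfsg.Agent.ChevalleyStructure.CoxeterGeom Cfsg.Agent.Tits.Roots Cfsg.Agent.Tits.Core
  Cfsg.Agent.Tits.Exchange Cfsg.Agent.Nodes.Reps Cfsg.Agent.Nodes.BNOf Cfsg.Agent.Nodes.StabComb
  Cfsg.Agent.Nodes.Bruhat Cfsg.Agent.Nodes.OppDec Cfsg.Agent.Nodes.LeviDec
open Cfsg.Agent.H317.PQ Cfsg.Agent.H996.PQ Cfsg.Agent.H632.PQ Cfsg.Agent.H526.Van Cfsg.Agent.H89.PQX
open Cfsg.Agent.KFacts.RgdField Cfsg.Agent.KFacts Cfsg.Agent.H967.Sph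

universe u

/-- the quadratic character -/
noncomputable def sg (K : Type*) [Field K] [Fintype K] [DecidableEq K] : Kˣ →* ℂˣ :=
  (Units.map (Int.castRingHom ℂ).toMonoidHom).comp (quadraticChar K).toUnitHom

theorem sg_sq (K : Type*) [Field K] [Fintype K] [DecidableEq K] (a : Kˣ) : sg K a ^ 2 = 1 := by
  unfold sg
  rw [MonoidHom.comp_apply, ← map_pow, Int.units_sq, map_one]

theorem sg_neg_one {K : Type*} [Field K] [Fintype K] [DecidableEq K] (h4 : Fintype.card K % 4 = 3) : sg K (-1) = -1 := by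
  have h2 : ringChar K ≠ 2 := by
    intro h
    have h1 := FiniteField.even_card_of_char_two h
    omega
  unfold sg
  rw [MonoidHom.comp_apply]
  apply Units.ext
  have h1 : quadraticChar K (-1) = -1 := by
    rw [quadraticChar_neg_one h2]
    exact ZMod.χ₄_nat_three_mod_four h4
  have h3 : (((quadraticChar K).toUnitHom (-1) : ℤˣ) : ℤ) = -1 := by
    rw [MulChar.coe_toUnitHom]
    simpa only [_root_.Units.val_neg, _root_.Units.val_one, _root_.quadraticChar_apply, _root_.Int.reduceNeg] using h1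
  change (((((quadraticChar K).toUnitHom (-1) : ℤˣ) : ℤ)) : ℂ) = _
  rw [h3]
  simp

theorem sg_zpow_odd {K : Type*} [Field K] [Fintype K] [DecidableEq K] (h4 : Fintype.card K % 4 = 3) {d : ℤ} (hd : Odd d) :
    sg K ((-1) ^ d) = -1 := by
  rw [map_zpow, sg_neg_one h4, hd.neg_one_zpow]

theorem sg_zpow_even {K : Type*} [Field K] [Fintype K] [DecidableEq K] {d : ℤ} (hd : Even d) :
    sg K ((-1) ^ d) = 1 := by
  rw [hd.neg_one_zpow, map_one]

variable {D : ChevalleyDatum} {l : ℕ} {M : CoxeterMatrix (Fin l)} (hp : IsType D l M) {K : Type u} [Field K]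

/-- the scalar of the torus on a root group -/
noncomputable def chU (hp : IsType D l M) [Fintype K] (r : ℕ) [Fact r.Prime] [CharP K r] {x : Fin l → ℤ}
    (hx : IsRoot M.toCoxeterSystem hp.isCartan x) : ↥(RgdChevCoord.TT D K) →* Kˣ :=
  MonoidHom.mk' (fun t => Units.mk0 (RgdChevCoord.ch hp x t)
    (((RgdChevCoord.coords (K := K) hp M.toCoxeterSystem r).coord x hx).chi_ne_zero t.2)) fun s t => by
      apply Units.ext
      exact ((RgdChevCoord.coords (K := K) hp M.toCoxeterSystem r).coord x hx).chi_mul s.2 t.2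

theorem coe_chU [Fintype K] (r : ℕ) [Fact r.Prime] [CharP K r] {x : Fin l → ℤ}
    (hx : IsRoot M.toCoxeterSystem hp.isCartan x) (t : ↥(RgdChevCoord.TT D K)) :
    ((chU hp r hx t : Kˣ) : K) = RgdChevCoord.ch hp x t := rfl

/-- the product of the scalars at the simple roots with exponents `v₀` -/
noncomputable def chV (hp : IsType D l M) [Fintype K] (r : ℕ) [Fact r.Prime] [CharP K r] (v₀ : Fin l → ℤ) :
    ↥(RgdChevCoord.TT D K) →* Kˣ :=
  ∏ i : Fin l, chU hp r (isRoot_sr M.toCoxeterSystem hp.isCartan i) ^ v₀ i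

theorem chV_apply [Fintype K] (r : ℕ) [Fact r.Prime] [CharP K r] (v₀ : Fin l → ℤ) (t : ↥(RgdChevCoord.TT D K)) :
    chV hp r v₀ t = ∏ i : Fin l, chU hp r (isRoot_sr M.toCoxeterSystem hp.isCartan i) t ^ v₀ i := by
  unfold chV
  rw [MonoidHom.finsetProd_apply]
  rfl

/-- extension of a vector by zero -/
def exv {l : ℕ} (y : Fin l → ℤ) (i : ℕ) : ℤ := if h : i < l then y ⟨i, h⟩ else 0

include hp in
theorem expo_eq (y : Fin l → ℤ) {ρ : ℕ} (hρ : ρ < D.nroots) :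
    expo D (exv y) ρ = frm (cartanOf D l) (fun _ => 1) y (vec D l ρ) := by
  unfold expo frm
  rw [hp.rank_eq]
  have h1 : ((List.range l).map fun i => exv y i * D.cartan i ρ).sum = ∑ i ∈ Finset.range l, exv y i * D.cartan i ρ := rfl
  rw [h1, Finset.sum_range]
  refine Finset.sum_congr rfl fun i _ => ?_
  rw [exv, dif_pos i.2, pairing_vec hp i hρ, mul_one]

/-- the torus element `∏ h_i((-1)^(y i))` -/
noncomputable def tau (hp : IsType D l M) (K : Type u) [Field K] (y : Fin l → ℤ) : ↥(D.group K) := torG hp (exv y) (-1 : Kˣ)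

theorem tau_mem (y : Fin l → ℤ) : tau hp K y ∈ RgdChevCoord.TT D K := torG_mem hp _ _

/-- the scalars of `tau y` -/
theorem ch_tau (y : Fin l → ℤ) {ρ : ℕ} (hρ : ρ < D.nroots) :
    RgdChevCoord.ch hp (vec D l ρ) (tau hp K y) =
      (((-1 : Kˣ) ^ frm (cartanOf D l) (fun _ => 1) y (vec D l ρ) : Kˣ) : K) := by
  apply RgdChevCoord.ch_eq hp hρ (torG_mem hp _ _)
  apply Subtype.ext
  rw [Subgroup.coe_mul, Subgroup.coe_mul, Subgroup.coe_inv, RgdChevCoord.coe_xc hp hρ,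
    RgdChevCoord.coe_xc hp hρ, mul_inv_eq_iff_eq_mul]
  have h5 := tor_mul_xG (K := K) hp.inList (exv y) (-1) hρ 1
  rw [expo_eq hp y hρ, mul_one] at h5
  exact h5

theorem frm_sum (A : Fin l → Fin l → ℤ) (y : Fin l → ℤ) (w : M.Group) (h : IsCartan M A) (v₀ : Fin l → ℤ) :
    ∑ i, v₀ i * frm A (fun _ => 1) y (rep M.toCoxeterSystem h w (sr i)) =
      frm A (fun _ => 1) y (rep M.toCoxeterSystem h w v₀) := by
  have h1 : rep M.toCoxeterSystem h w v₀ = ∑ i, v₀ i • rep M.toCoxeterSystem h w (sr i) := by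
    conv_lhs => rw [H967.Sph.eq_sum_sr v₀]
    rw [map_sum]
    exact Finset.sum_congr rfl fun i _ => by rw [map_smul]
  have h2 : ∀ x : Fin l → ℤ, frm A (fun _ => 1) y x = ∑ k, (∑ i, y i * A i k) * x k := by
    intro x
    unfold frm pairing
    simp_rw [mul_one, Finset.mul_sum, Finset.sum_mul]
    rw [Finset.sum_comm]
    exact Finset.sum_congr rfl fun k _ => Finset.sum_congr rfl fun i _ => by ring
  rw [h2, h1]
  simp_rw [h2, Finset.sum_apply, Pi.smul_apply, smul_eq_mul, Finset.mul_sum]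
  rw [Finset.sum_comm]
  exact Finset.sum_congr rfl fun k _ => Finset.sum_congr rfl fun i _ => by ring

/-- the value of the character at the conjugates of `tau y` -/
theorem chV_conj [Fintype K] (r : ℕ) [Fact r.Prime] [CharP K r] (v₀ y : Fin l → ℤ) {w : M.Group} {k : ↥(D.group K)}
    (hk : Rp M.toCoxeterSystem (rgd (K := K) hp M.toCoxeterSystem r).nsys w k)
    (hkt : k⁻¹ * tau hp K y * k ∈ RgdChevCoord.TT D K) :
    chV hp r v₀ ⟨_, hkt⟩ =
      (-1) ^ frm (cartanOf D l) (fun _ => 1) y (rep M.toCoxeterSystem hp.isCartan w v₀) := by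
  have C := RgdChevCoord.coords (K := K) hp M.toCoxeterSystem r
  rw [chV_apply, ← frm_sum]
  have h1 : ∀ i : Fin l, chU hp r (isRoot_sr M.toCoxeterSystem hp.isCartan i) ⟨_, hkt⟩ ^ v₀ i =
      (-1) ^ (v₀ i * frm (cartanOf D l) (fun _ => 1) y (rep M.toCoxeterSystem hp.isCartan w (sr i))) := by
    intro i
    have h2 : chU hp r (isRoot_sr M.toCoxeterSystem hp.isCartan i) ⟨_, hkt⟩ =
        (-1) ^ frm (cartanOf D l) (fun _ => 1) y (rep M.toCoxeterSystem hp.isCartan w (sr i)) := by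
      apply Units.ext
      rw [coe_chU]
      have h3 := C.chi_rp (rgd (K := K) hp M.toCoxeterSystem r).nsys hk
        (isRoot_sr M.toCoxeterSystem hp.isCartan i) hkt
      have e : k * (k⁻¹ * tau hp K y * k) * k⁻¹ = tau hp K y := by group
      rw [e] at h3
      rw [← h3]
      obtain ⟨ρ, hρ, e2⟩ := (isRoot_iff hp M.toCoxeterSystem _).1
        ((isRoot_sr M.toCoxeterSystem hp.isCartan i).act w)
      rw [← e2]
      exact ch_tau hp y hρ
    rw [h2, mul_comm, zpow_mul]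
  rw [Finset.prod_congr rfl fun i _ => h1 i]
  have h2 : ∀ (s : Finset (Fin l)) (f : Fin l → ℤ), ∏ i ∈ s, (-1 : Kˣ) ^ f i = (-1) ^ ∑ i ∈ s, f i := by
    classical
    intro s f
    induction s using Finset.induction_on with
    | empty => simp
    | insert a s ha ih => rw [Finset.prod_insert ha, Finset.sum_insert ha, zpow_add, ih]
  exact h2 _ _

/-- the value at `h_i(a)` -/
theorem chV_hc [Fintype K] (r : ℕ) [Fact r.Prime] [CharP K r] (v₀ : Fin l → ℤ) (i : Fin l) (a : Kˣ)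
    (hmem : RgdChevCoord.hc hp i (a : K) ∈ RgdChevCoord.TT D K) :
    chV hp r v₀ ⟨_, hmem⟩ = a ^ pairing (cartanOf D l) i v₀ := by
  rw [chV_apply]
  have C := RgdChevCoord.coroots (K := K) hp M.toCoxeterSystem r
  have h1 : ∀ k : Fin l, chU hp r (isRoot_sr M.toCoxeterSystem hp.isCartan k) ⟨_, hmem⟩ ^ v₀ k =
      a ^ (cartanOf D l i k * v₀ k) := by
    intro k
    rw [zpow_mul]
    congr 1
    apply Units.ext
    rw [coe_chU, Units.val_zpow_eq_zpow_val]
    exact C.char k i _ a.ne_zero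
  rw [Finset.prod_congr rfl fun k _ => h1 k]
  unfold pairing
  have h2 : ∀ (s : Finset (Fin l)) (f : Fin l → ℤ), ∏ i ∈ s, a ^ f i = a ^ ∑ i ∈ s, f i := by
    classical
    intro s f
    induction s using Finset.induction_on with
    | empty => simp
    | insert b s ha ih => rw [Finset.prod_insert ha, Finset.sum_insert ha, zpow_add, ih]
  exact h2 _ _

/-- the reflections lie in the rank one groups -/
theorem nc_mem_LL (i : Fin l) : RgdChevCoord.nc hp K i ∈
    Cfsg.Agent.Nodes.FreeTorus.LL (RgdChevCoord.XX D l K) (sr i) := by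
  have hX : ∀ t : K, (⟨xG hp.inList (D.simple i) t, xG_mem_group hp.inList _ t⟩ : ↥(D.group K)) ∈
      RgdChevCoord.XX D l K (sr i) := fun t => by
    rw [Subgroup.mem_subgroupOf, XV_sr hp i]
    exact xG_mem_rootSubgroup hp.inList _ t
  have hY : ∀ t : K, (⟨xG hp.inList (D.neg (D.simple i)) t, xG_mem_group hp.inList _ t⟩ : ↥(D.group K)) ∈
      RgdChevCoord.XX D l K (-sr i) := fun t => by
    rw [Subgroup.mem_subgroupOf, XV_neg_sr hp i]
    exact xG_mem_rootSubgroup hp.inList _ t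
  have e : RgdChevCoord.nc hp K i = ⟨xG hp.inList (D.simple i) 1, xG_mem_group hp.inList _ _⟩ *
      (⟨xG hp.inList (D.neg (D.simple i)) (-1⁻¹), xG_mem_group hp.inList _ _⟩ *
        ⟨xG hp.inList (D.simple i) 1, xG_mem_group hp.inList _ _⟩) := Subtype.ext (nG_def hp.inList (D.simple i) 1)
  rw [e]
  exact mul_mem (Subgroup.mem_sup_left (hX _)) (mul_mem (Subgroup.mem_sup_right (hY _)) (Subgroup.mem_sup_left (hX _)))

/-- **The character of order two of the parabolic subgroup.** -/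
theorem exists_theta_PJ [Fintype K] [DecidableEq K] (r : ℕ) [Fact r.Prime] [CharP K r] {j : Fin l} {v₀ : Fin l → ℤ}
    (hv : ∀ i, i ≠ j → pairing (cartanOf D l) i v₀ = 0) :
    ∃ θ : ↥(PJ M.toCoxeterSystem hp.isCartan (RgdChevCoord.TT D K) (RgdChevCoord.XX D l K) {i | i ≠ j}) →* ℂˣ,
      (∀ g, θ g ^ 2 = 1) ∧ ∀ (t : ↥(D.group K)) (ht : t ∈ RgdChevCoord.TT D K),
        ex _ θ t = ((sg K (chV hp r v₀ ⟨t, ht⟩) : ℂˣ) : ℂ) := by
  have hfin := finite_W hp M.toCoxeterSystem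
  have R := rgd (K := K) hp M.toCoxeterSystem r
  have C := RgdChevCoord.coroots (K := K) hp M.toCoxeterSystem r
  obtain ⟨θ, h1, h2, h3⟩ := exists_ext R (J := {i | i ≠ j}) (fun i _ => nc_mem_LL hp i) ((sg K).comp (chV hp r v₀))
    (by
      intro i hi t ht htL
      obtain ⟨a, ha, rfl⟩ := (C.mem i t).1 (Subgroup.mem_inf.2 ⟨ht, htL⟩)
      have h4 := chV_hc hp r v₀ i (Units.mk0 a ha) ht
      rw [hv i hi, zpow_zero] at h4
      rw [MonoidHom.comp_apply]
      erw [h4]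
      rw [map_one])
  refine ⟨θ, fun g => ?_, fun t ht => ?_⟩
  · obtain ⟨g, hg⟩ := g
    obtain ⟨a, ha, v, hv', rfl⟩ := (mem_PJ R).1 hg
    obtain ⟨t, ht, m, hm, rfl⟩ := (Cfsg.Agent.H53.HC.mem_LJ_iff_mul R _).1 ha
    have e : (⟨t * m * v, hg⟩ : ↥(PJ M.toCoxeterSystem hp.isCartan (RgdChevCoord.TT D K) (RgdChevCoord.XX D l K) {i | i ≠ j})) =
        ⟨t, (RGD.T_le_B.trans B_le_PJ) ht⟩ * ⟨m, LJ_le_PJ (Cfsg.Agent.H53.HC.MJ_le_LJ _ hm)⟩ * ⟨v, VJ_le_PJ hv'⟩ := rfl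
    rw [e, map_mul, map_mul, h1 t ht, h2 m hm, h3 v hv', mul_one, mul_one]
    exact sg_sq K _
  · rw [ex_of ((RGD.T_le_B.trans B_le_PJ) ht), h1 t ht]
    rfl

/-- the maximal parabolic subgroup -/
abbrev PP (hp : IsType D l M) (K : Type u) [Field K] (j : Fin l) : Subgroup ↥(D.group K) :=
  PJ M.toCoxeterSystem hp.isCartan (RgdChevCoord.TT D K) (RgdChevCoord.XX D l K) {i | i ≠ j}

/-- its unipotent radical -/
abbrev VV (hp : IsType D l M) (K : Type u) [Field K] (j : Fin l) : Subgroup ↥(D.group K) :=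
  VJ M.toCoxeterSystem hp.isCartan (RgdChevCoord.XX D l K) {i | i ≠ j}

theorem pos_of_NotJ {j : Fin l} {x : Fin l → ℤ} (hx : x ∈ NotJ M.toCoxeterSystem hp.isCartan {i | i ≠ j}) : 0 < x j := by
  obtain ⟨-, -, k, hk, h1⟩ := hx
  have : k = j := by simpa using hk
  rwa [this] at h1

/-- the unipotent radical is commutative -/
theorem VJ_comm {j : Fin l} (hcom : ∀ r < D.nroots, ∀ s < D.nroots, r ≠ s → 0 < vec D l r j → 0 < vec D l s j →
      s ≠ D.neg r ∧ D.commTerms r s = []) : ∀ a ∈ VV hp K j, ∀ b ∈ VV hp K j, a * b = b * a := by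
  set cs := M.toCoxeterSystem
  have key : ∀ x ∈ NotJ cs hp.isCartan {i | i ≠ j}, ∀ y ∈ NotJ cs hp.isCartan {i | i ≠ j},
      ∀ a ∈ RgdChevCoord.XX D l K x, ∀ b ∈ RgdChevCoord.XX D l K y, a * b = b * a := by
    intro x hx y hy a ha b hb
    have hx5 := pos_of_NotJ hp hx
    have hy5 := pos_of_NotJ hp hy
    obtain ⟨r, hr, rfl⟩ := (isRoot_iff hp cs x).1 hx.1
    obtain ⟨s, hs, rfl⟩ := (isRoot_iff hp cs y).1 hy.1
    have ha' : (a : GL D.Idx K) ∈ XV D l K (vec D l r) := ha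
    have hb' : (b : GL D.Idx K) ∈ XV D l K (vec D l s) := hb
    rw [XV_vec hp K hr] at ha'
    rw [XV_vec hp K hs] at hb'
    obtain ⟨t, ht⟩ := (mem_rootSubgroup_iff hp.inList r _).1 ha'
    obtain ⟨u, hu⟩ := (mem_rootSubgroup_iff hp.inList s _).1 hb'
    have ea : a = Cfsg.Agent.H934.HeisChev.xe hp.inList r t := Subtype.ext ht
    have eb : b = Cfsg.Agent.H934.HeisChev.xe hp.inList s u := Subtype.ext hu
    rcases eq_or_ne r s with rfl | hne
    · rw [ea, eb, ← Cfsg.Agent.H934.HeisChev.xe_add, ← Cfsg.Agent.H934.HeisChev.xe_add, add_comm]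
    · obtain ⟨h1, h2⟩ := hcom s hs r hr (Ne.symm hne) hy5 hx5
      rw [ea, eb]
      exact Cfsg.Agent.H934.HeisChev.comm_nil hp.inList hs hr hne h1 h2 u t
  have h1 : VV hp K j ≤ Subgroup.centralizer ((VV hp K j : Subgroup _) : Set ↥(D.group K)) := by
    refine RGD.Sup_le fun x hx a ha => ?_
    rw [Subgroup.mem_centralizer_iff]
    intro b hb
    have h2 : VV hp K j ≤ Subgroup.centralizer ({a} : Set ↥(D.group K)) := by
      refine RGD.Sup_le fun y hy b hb => ?_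
      rw [Subgroup.mem_centralizer_singleton_iff]
      exact (key x hx y hy a ha b hb).symm
    exact Subgroup.mem_centralizer_singleton_iff.1 (h2 hb)
  intro a ha b hb
  exact ((Subgroup.mem_centralizer_iff.1 (h1 ha)) b hb).symm

/-- conjugation of root elements by `tau` -/
theorem tau_conj (y : Fin l → ℤ) {ρ : ℕ} (hρ : ρ < D.nroots) {a : ↥(D.group K)}
    (ha : a ∈ RgdChevCoord.XX D l K (vec D l ρ)) :
    (Even (frm (cartanOf D l) (fun _ => 1) y (vec D l ρ)) → a * tau hp K y = tau hp K y * a) ∧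
      (Odd (frm (cartanOf D l) (fun _ => 1) y (vec D l ρ)) → tau hp K y * a * (tau hp K y)⁻¹ = a⁻¹) := by
  have ha' : (a : GL D.Idx K) ∈ D.rootSubgroup K ρ := by
    rw [← XV_vec hp K hρ]
    exact ha
  obtain ⟨b, hb⟩ := (mem_rootSubgroup_iff hp.inList ρ _).1 ha'
  have h5 := tor_mul_xG (K := K) hp.inList (exv y) (-1) hρ b
  rw [expo_eq hp y hρ] at h5
  constructor
  · intro he
    apply Subtype.ext
    rw [he.neg_one_zpow, Units.val_one, one_mul] at h5
    rw [Subgroup.coe_mul, Subgroup.coe_mul, hb]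
    exact h5.symm
  · intro ho
    apply Subtype.ext
    rw [ho.neg_one_zpow] at h5
    rw [Subgroup.coe_mul, Subgroup.coe_mul, Subgroup.coe_inv, Subgroup.coe_inv, hb, mul_inv_eq_iff_eq_mul, xG_inv]
    have e : (((-1 : Kˣ) : K) * b) = -b := by simp
    rw [e] at h5
    exact h5

/-- the centraliser of `tau` in the unipotent radical -/
theorem cen_VJ [Fintype K] (r : ℕ) [hr : Fact r.Prime] [CharP K r] (hr2 : r ≠ 2) {j : Fin l}
    (hcom : ∀ r < D.nroots, ∀ s < D.nroots, r ≠ s → 0 < vec D l r j → 0 < vec D l s j →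
      s ≠ D.neg r ∧ D.commTerms r s = []) {y : Fin l → ℤ}
    (hy : ∀ ρ < D.nroots, 0 < vec D l ρ j → Odd (frm (cartanOf D l) (fun _ => 1) y (vec D l ρ))) :
    ∀ v ∈ VV hp K j, v * tau hp K y = tau hp K y * v → v = 1 := by
  have hfin := finite_W hp M.toCoxeterSystem
  have R := rgd (K := K) hp M.toCoxeterSystem r
  set z := tau hp K y with hz
  have hcV := VJ_comm hp (K := K) hcom
  have hzP : z ∈ PP hp K j := (RGD.T_le_B.trans B_le_PJ) (tau_mem hp y)
  have hnor : ∀ v ∈ VV hp K j, z * v * z⁻¹ ∈ VV hp K j := fun v hv =>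
    (Subgroup.mem_normalizer_iff.1 (PJ_le_normalizer_VJ R _ hzP) v).1 hv
  let S : Subgroup ↥(D.group K) :=
    { carrier := {a | a ∈ VV hp K j ∧ z * a * z⁻¹ * a = 1}
      one_mem' := ⟨one_mem _, by group⟩
      mul_mem' := by
        rintro a b ⟨ha, ha'⟩ ⟨hb, hb'⟩
        refine ⟨mul_mem ha hb, ?_⟩
        have h1 : a * (z * b * z⁻¹) = z * b * z⁻¹ * a := hcV a ha _ (hnor b hb)
        calc z * (a * b) * z⁻¹ * (a * b) = z * a * z⁻¹ * (z * b * z⁻¹ * a) * b := by group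
          _ = z * a * z⁻¹ * (a * (z * b * z⁻¹)) * b := by rw [h1]
          _ = (z * a * z⁻¹ * a) * (z * b * z⁻¹ * b) := by group
          _ = 1 := by rw [ha', hb', one_mul]
      inv_mem' := by
        rintro a ⟨ha, ha'⟩
        refine ⟨inv_mem ha, ?_⟩
        have h1 := hcV _ (inv_mem ha) _ (hnor _ (inv_mem ha))
        rw [← h1]
        have h2 : a⁻¹ * (z * a⁻¹ * z⁻¹) = (z * a * z⁻¹ * a)⁻¹ := by group
        rw [h2, ha', inv_one] }
  have hVS : VV hp K j ≤ S := by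
    refine RGD.Sup_le fun x hx a ha => ⟨RGD.le_Sup hx ha, ?_⟩
    have hx0 := pos_of_NotJ hp hx
    obtain ⟨ρ, hρ, rfl⟩ := (isRoot_iff hp M.toCoxeterSystem x).1 hx.1
    rw [(tau_conj hp y hρ ha).2 (hy ρ hρ hx0), inv_mul_cancel]
  intro v hv hvz
  have h1 : z * v * z⁻¹ * v = 1 := (hVS hv).2
  rw [← hvz, mul_inv_cancel_right] at h1
  have hVr : IsPGroup r ↥(VV hp K j) := (R.isPGroup_Upos).to_le (VJ_le_U _)
  obtain ⟨k, hk⟩ := hVr ⟨v, hv⟩
  have h2 : v ^ r ^ k = 1 := congrArg Subtype.val hk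
  have h3 : v ^ 2 = 1 := by rw [pow_two, h1]
  have h4 : Nat.Coprime 2 (r ^ k) := ((Nat.coprime_primes Nat.prime_two hr.out).2 (Ne.symm hr2)).pow_right k
  exact orderOf_eq_one_iff.1 (Nat.eq_one_of_dvd_coprimes h4 (orderOf_dvd_of_pow_eq_one h3) (orderOf_dvd_of_pow_eq_one h2))

theorem frm_right {A : Fin l → Fin l → ℤ} {j : Fin l} {v₀ : Fin l → ℤ} {d : ℤ}
    (hv : ∀ i, pairing A i v₀ = if i = j then d else 0) (x : Fin l → ℤ) : frm A (fun _ => 1) x v₀ = x j * d := by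
  unfold frm
  rw [Finset.sum_eq_single j]
  · rw [hv, if_pos rfl, mul_one]
  · intro i _ hi
    rw [hv, if_neg hi, mul_zero]
  · exact fun h => absurd (Finset.mem_univ _) h

open Classical in
include hp in
/-- **The test for the character of order two**: simply laced groups, cominuscule node `j`. -/
theorem two_test [Fintype K] (h4 : Fintype.card K % 4 = 3) {A : Fin l → Fin l → ℤ} (hA : cartanOf D l = A)
    {j : Fin l} {N m : ℕ} (Dt : Cfsg.Agent.H996.Eight.Cert.Data A j N m) (he : ∀ i, Dt.e i = 1)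
    (hsym : ∀ i k, A i k = A k i) {v₀ : Fin l → ℤ} {d : ℤ} (hd : Odd d)
    (hv : ∀ i, pairing A i v₀ = if i = j then d else 0)
    (hone : ∀ ρ < D.nroots, 0 < vec D l ρ j → vec D l ρ j = 1)
    (hcom : ∀ r < D.nroots, ∀ s < D.nroots, r ≠ s → 0 < vec D l r j → 0 < vec D l s j →
      s ≠ D.neg r ∧ D.commTerms r s = [])
    (hpar : ∀ s, s ≠ Dt.t.o → ∃ i, ¬ Even (Dt.t.vec s i - if i = j then 1 else 0))
    (sc : Fin m → Fin N) (hsc1 : ∀ c, Dt.t.cls (sc c) = c) (hsc2 : ∀ c i, i ≠ j → 0 ≤ Dt.t.vec (sc c) i)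
    {q : ℕ} (hq : q.Prime) (hS : Same 2 q ↥(D.group K)) {b : ℤ}
    (hb : (b : ℚ) = Nat.card (VV hp K j) * ∑ c, Cfsg.Agent.H64.Dl.Sph.ev (Fintype.card K : ℕ) (Dt.kk c) *
      (1 - (if Even (∑ i, v₀ i * Dt.t.vec (sc c) i) then (1 : ℚ) else -1) / ((Fintype.card K : ℕ) : ℚ) ^ Dt.wl (sc c))) :
    (q : ℤ) ∣ b := by
  subst hA
  obtain ⟨r, hcr⟩ := CharP.exists K
  obtain ⟨f, hr, hK⟩ := FiniteField.card K r
  have hrf : Fact r.Prime := ⟨hr⟩
  have hr2 : r ≠ 2 := by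
    rintro rfl
    have h1 : 2 ∣ Fintype.card K := by rw [hK]; exact dvd_pow_self _ f.pos.ne'
    omega
  have hfin := finite_W hp M.toCoxeterSystem
  have : Finite ↥(D.group K) := H53.HC.ExcRows.finite_group (K := K) D
  have R := rgd (K := K) hp M.toCoxeterSystem r
  have hG := GG_eq_top hp K M.toCoxeterSystem
  have hs : ∀ i k, (fun _ : Fin l => (1 : ℤ)) i * cartanOf D l i k = (fun _ => 1) k * cartanOf D l k i := fun i k => by
    show (1 : ℤ) * _ = 1 * _
    rw [one_mul, one_mul, hsym]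
  obtain ⟨θ, hθ2, hθ⟩ := exists_theta_PJ hp (K := K) r (j := j) (v₀ := v₀) (fun i hi => by rw [hv, if_neg hi])
  -- the values
  have hval : ∀ (w : M.Group) (k : ↥(D.group K)), Rp M.toCoxeterSystem R.nsys w k → ∀ y : Fin l → ℤ,
      ex _ θ (k⁻¹ * tau hp K y * k) =
        ((sg K ((-1) ^ (rep M.toCoxeterSystem hp.isCartan w⁻¹ y j * d)) : ℂˣ) : ℂ) := by
    intro w k hk y
    have hkt : k⁻¹ * tau hp K y * k ∈ RgdChevCoord.TT D K := conj_mem_T R hk (tau_mem hp y)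
    rw [hθ _ hkt, chV_conj hp r v₀ y hk hkt, ← frm_right hv]
    have h1 := frm_rep (cs := M.toCoxeterSystem) (h := hp.isCartan) (D := fun _ => 1) hs w⁻¹ y
      (rep M.toCoxeterSystem hp.isCartan w v₀)
    rw [← h1, ← rep_mul_apply, inv_mul_cancel, map_one, Module.End.one_apply]
  choose w hw using fun c => Dt.t.exists_sw M.toCoxeterSystem hp.isCartan (sc c)
  refine central_test (z := tau hp K v₀) (w := w) (p := 2)
    (ε := fun c => if Even (∑ i, v₀ i * Dt.t.vec (sc c) i) then (1 : ℚ) else -1) (θ := θ)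
    R hG Dt (Fintype.card_ne_zero (α := K)) (fun i => ?_) Nat.prime_two hq (Ne.symm hr2) (fun g => ⟨1, by
      rw [pow_one]; exact hθ2 g⟩) ?_ (tau_mem hp v₀) ?_ ?_ (fun c => by rw [hw, hsc1]) (fun c i hi => by
      rw [hw]; exact hsc2 c i hi) ?_ hS ?_
  · rw [he, pow_one, ← Nat.card_eq_fintype_card]
    exact card_XX hp K M.toCoxeterSystem (isRoot_sr M.toCoxeterSystem hp.isCartan i)
  · -- Mackey
    intro w hwJ k hk
    have h1 : Dt.t.sw M.toCoxeterSystem hp.isCartan w⁻¹ ≠ Dt.t.o := by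
      intro h1
      apply hwJ
      rw [← Tab.sw_one M.toCoxeterSystem hp.isCartan Dt.t] at h1
      have h2 := Tab.mem_WJ_of_sw M.toCoxeterSystem hp.isCartan Dt.t h1.symm
      rw [inv_one, mul_one] at h2
      have h3 := inv_mem h2
      rwa [inv_inv] at h3
    obtain ⟨i, hi⟩ := hpar _ h1
    refine ⟨tau hp K (sr i), tau_mem hp _, ?_⟩
    have h2 := hval 1 1 rp_one (sr i)
    rw [inv_one, one_mul, mul_one, inv_one, map_one, Module.End.one_apply] at h2
    rw [h2, hval w k hk]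
    rw [Tab.vec_sw] at hi
    have h3 : (sr i : Fin l → ℤ) j = if i = j then 1 else 0 := by
      by_cases hij : i = j
      · subst hij; rw [sr_self, if_pos rfl]
      · rw [sr_ne (Ne.symm hij), if_neg hij]
    rw [← h3] at hi
    have h4' : rep M.toCoxeterSystem hp.isCartan w⁻¹ (sr i) j = lam M.toCoxeterSystem hp.isCartan j w⁻¹ i := rfl
    rw [h4']
    generalize lam M.toCoxeterSystem hp.isCartan j w⁻¹ i = a at hi ⊢
    generalize (sr i : Fin l → ℤ) j = e at hi ⊢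
    intro h5
    have h6 := Units.ext h5
    rcases Int.even_or_odd (e * d) with h7 | h7 <;> rcases Int.even_or_odd (a * d) with h8 | h8
    · apply hi
      rw [Int.even_sub]
      rw [Int.even_mul] at h7 h8
      have hd' : ¬ Even d := Int.not_even_iff_odd.2 hd
      (clear * - h7 h8 hd'; tauto)
    · rw [sg_zpow_even h7, sg_zpow_odd h4 h8] at h6
      have h9 := congrArg Units.val h6
      norm_num at h9
    · rw [sg_zpow_odd h4 h7, sg_zpow_even h8] at h6
      have h9 := congrArg Units.val h6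
      norm_num at h9
    · apply hi
      rw [Int.even_sub']
      rw [Int.odd_mul] at h7 h8
      (clear * - h7 h8; tauto)
  · -- central in the Levi subgroup
    intro g hg
    have h1 : LJ M.toCoxeterSystem hp.isCartan (RgdChevCoord.TT D K) (RgdChevCoord.XX D l K) {i | i ≠ j} ≤
        Subgroup.centralizer {tau hp K v₀} := by
      refine sup_le (fun t ht => ?_) (RGD.Sup_le fun y hy a ha => ?_)
      · rw [Subgroup.mem_centralizer_singleton_iff]
        exact Subtype.ext (FixBN.ChevGood.diag_comm K hp ht (tau_mem hp v₀))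
      · rw [Subgroup.mem_centralizer_singleton_iff]
        obtain ⟨ρ, hρ, rfl⟩ := (isRoot_iff hp M.toCoxeterSystem y).1 hy.1
        refine (tau_conj hp v₀ hρ ha).1 ?_
        rw [frm_symm hs, frm_right hv, hy.2 j (by simp), zero_mul]
        exact Even.zero
    exact Subgroup.mem_centralizer_singleton_iff.1 (h1 hg)
  · -- the unipotent radical
    refine cen_VJ hp r hr2 hcom fun ρ hρ h0 => ?_
    rw [frm_symm hs, frm_right hv, hone ρ hρ h0, one_mul]
    exact hd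
  · -- the signs
    intro c k hk
    have h1 := hval _ _ hk.inv v₀
    rw [inv_inv, inv_inv] at h1
    rw [h1]
    have h2 : rep M.toCoxeterSystem hp.isCartan (w c) v₀ j = ∑ i, v₀ i * Dt.t.vec (sc c) i := by
      rw [← hw c, Tab.vec_sw]
      conv_lhs => rw [H967.Sph.eq_sum_sr v₀]
      rw [map_sum, Finset.sum_apply]
      refine Finset.sum_congr rfl fun i _ => ?_
      rw [map_smul, Pi.smul_apply, smul_eq_mul]
      rfl
    rw [h2]
    have hd' : ¬ Even d := Int.not_even_iff_odd.2 hd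
    split_ifs with h3
    · rw [sg_zpow_even (h3.mul_right d)]
      norm_num
    · rw [sg_zpow_odd h4 ((Int.not_even_iff_odd.1 h3).mul hd)]
      norm_num
  · rw [hb]
    simp only [hw]

end Cfsg.Agent.H526.PQ
end

-- part: H526/PQ/TwoE6
section
/-!
# S4612: `E₆(q)`, `q ≡ 3 mod 4`: the pairs `2, l` (helper526)

`two_dvd` : `B0 2 = B0 l` implies `l ∣ (q+1)(q²+1)(q⁴+1)(q⁸+q⁴+q²+1)`;
`killTwo_E6` : the orders `3, 5, 6, 12`.
-/

set_option autoImplicit false
set_option linter.unusedSectionVars false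

open Cfsg

namespace Cfsg.Agent.H526.PQ

open Cfsg.Lie Cfsg.Agent.ChevalleyStructure Cfsg.Agent.ChevalleyStructure.CoxeterGeomTypes
open Cfsg.Agent.Nodes Cfsg.Agent.Nodes.RGDChev Cfsg.Agent.H35.ExcIdx
open CoxeterSystem Cfsg.Agent.ChevalleyStructure.CoxeterGeom Cfsg.Agent.Tits.Roots
open Cfsg.Agent.H317.PQ Cfsg.Agent.H996.Eight

universe u

theorem hA_E6a : cartanOf chevE6 6 = TabE6a.A := by
  funext i k
  revert i k
  decide +kernel

/-- three times the first fundamental coweight -/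
def v6 : Fin 6 → ℤ := ![4, 3, 5, 6, 4, 2]

/-- the minimal states -/
def sc6 : Fin 3 → Fin 27 := ![0, 1, 12]

theorem hv6 : ∀ i, pairing TabE6a.A i v6 = if i = 0 then 3 else 0 := by decide +kernel
theorem hone6 : ∀ ρ < chevE6.nroots, 0 < vec chevE6 6 ρ 0 → vec chevE6 6 ρ 0 = 1 := by decide +kernel
theorem hcom6' : ∀ r s : Fin 72, r ≠ s → 0 < vec chevE6 6 r.1 0 → 0 < vec chevE6 6 s.1 0 →
    s.1 ≠ chevE6.neg r.1 ∧ chevE6.commTerms r.1 s.1 = [] := by decide +kernel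
theorem nroots6 : chevE6.nroots = 72 := by decide +kernel
theorem hcom6 : ∀ r < chevE6.nroots, ∀ s < chevE6.nroots, r ≠ s → 0 < vec chevE6 6 r 0 → 0 < vec chevE6 6 s 0 →
    s ≠ chevE6.neg r ∧ chevE6.commTerms r s = [] := by
  intro r hr s hs hrs h1 h2
  rw [nroots6] at hr hs
  exact hcom6' ⟨r, hr⟩ ⟨s, hs⟩ (fun h => hrs (congrArg Fin.val h)) h1 h2
theorem hsym6 : ∀ i k, TabE6a.A i k = TabE6a.A k i := by decide +kernel
theorem hpar6 : ∀ s, s ≠ TabE6a.data.t.o → ∃ i, ¬ Even (TabE6a.data.t.vec s i - if i = 0 then 1 else 0) := by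
  decide +kernel
theorem hsc1 : ∀ c, TabE6a.data.t.cls (sc6 c) = c := by decide +kernel
theorem hsc2 : ∀ c i, i ≠ 0 → 0 ≤ TabE6a.data.t.vec (sc6 c) i := by decide +kernel
theorem he6 : ∀ i, TabE6a.data.e i = 1 := by decide +kernel
theorem hwl0 : TabE6a.data.wl (sc6 0) = 0 := by decide +kernel
theorem hwl1 : TabE6a.data.wl (sc6 1) = 1 := by decide +kernel
theorem hwl2 : TabE6a.data.wl (sc6 2) = 8 := by decide +kernel
theorem hev0 : Even (∑ i, v6 i * TabE6a.data.t.vec (sc6 0) i) := by decide +kernel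
theorem hev1 : ¬ Even (∑ i, v6 i * TabE6a.data.t.vec (sc6 1) i) := by decide +kernel
theorem hev2 : Even (∑ i, v6 i * TabE6a.data.t.vec (sc6 2) i) := by decide +kernel
theorem hkk0 : TabE6a.data.kk 0 = [1] := rfl
theorem hkk1 : TabE6a.data.kk 1 = [0, 1, 1, 1, 2, 2, 2, 2, 2, 1, 1, 1] := rfl
theorem hkk2 : TabE6a.data.kk 2 = [0, 0, 0, 0, 0, 0, 0, 0, 1, 1, 1, 1, 2, 1, 1, 1, 1] := rfl

variable {K : Type u} [Field K] [Fintype K]

open Classical in
/-- **The test for `E₆(q)`.** -/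
theorem two_dvd (h4 : Fintype.card K % 4 = 3) {q : ℕ} (hq : q.Prime) (hqK : ¬ q ∣ Fintype.card K)
    (hS : Same 2 q ↥(chevE6.group K)) :
    q ∣ (Fintype.card K + 1) * (Fintype.card K ^ 2 + 1) * (Fintype.card K ^ 4 + 1) *
      (Fintype.card K ^ 8 + Fintype.card K ^ 4 + Fintype.card K ^ 2 + 1) := by
  obtain ⟨x, hx⟩ : ∃ x, x = Fintype.card K := ⟨_, rfl⟩
  have hx0 : (x : ℚ) ≠ 0 := by
    rw [hx]
    exact Nat.cast_ne_zero.2 Fintype.card_ne_zero
  have h1 := two_test hpE6 h4 hA_E6a TabE6a.data he6 hsym6 (v₀ := v6) (d := 3) (by decide) hv6 hone6 hcom6 hpar6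
    sc6 hsc1 hsc2 hq hS (b := Nat.card (VV hpE6 K 0) * ((x : ℤ) * ((x + 1) * (x ^ 2 + 1) * (x ^ 4 + 1) *
      (x ^ 8 + x ^ 4 + x ^ 2 + 1)))) (by
      rw [← hx, Fin.sum_univ_three, hwl0, hwl1, hwl2, if_pos hev0, if_neg hev1, if_pos hev2, hkk0, hkk1, hkk2]
      simp only [Cfsg.Agent.H64.Dl.Sph.ev_cons, Cfsg.Agent.H64.Dl.Sph.ev_nil]
      push_cast
      congr 1
      field_simp
      ring)
  obtain ⟨r, hcr⟩ := CharP.exists K
  obtain ⟨f, hr, hK⟩ := FiniteField.card K r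
  have hrf : Fact r.Prime := ⟨hr⟩
  have hfin := finite_W hpE6 CoxeterMatrix.E₆.toCoxeterSystem
  have hfg : Finite ↥(chevE6.group K) := H53.HC.ExcRows.finite_group (K := K) chevE6
  have R := rgd (K := K) hpE6 CoxeterMatrix.E₆.toCoxeterSystem r
  rw [← hx] at hqK ⊢
  have h2 : q ∣ Nat.card (VV hpE6 K 0) * (x * ((x + 1) * (x ^ 2 + 1) * (x ^ 4 + 1) *
      (x ^ 8 + x ^ 4 + x ^ 2 + 1))) := by exact_mod_cast h1
  rcases hq.dvd_mul.1 h2 with h3 | h3
  · exfalso
    have hVr : IsPGroup r ↥(VV hpE6 K 0) := (R.isPGroup_Upos).to_le (Cfsg.Agent.Nodes.LeviDec.VJ_le_U _)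
    obtain ⟨k, hk⟩ := IsPGroup.iff_card.1 hVr
    rw [hk] at h3
    have h5 := (Nat.prime_dvd_prime_iff_eq hq hr).1 (hq.dvd_of_dvd_pow h3)
    apply hqK
    rw [hx, hK, h5]
    exact dvd_pow_self _ f.pos.ne'
  · rcases hq.dvd_mul.1 h3 with h5 | h5
    · exact absurd h5 hqK
    · exact h5

theorem ord_dvd_of {q l n : ℕ} (h : l ∣ q ^ n + 1) : ord q l ∣ 2 * n := by
  rw [ord, orderOf_dvd_iff_pow_eq_one]
  have h1 : ((q : ZMod l)) ^ n = -1 := by
    have h2 := (ZMod.natCast_eq_zero_iff _ _).2 h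
    push_cast at h2
    exact eq_neg_of_add_eq_zero_left h2
  rw [mul_comm, pow_mul, h1]
  norm_num

/-- **The orders `3, 5, 6, 12`.** -/
theorem killTwo_E6 (h4 : Fintype.card K % 4 = 3) {f : ℕ} (hf : f ∈ ([3, 5, 6, 12] : List ℕ)) :
    KillTwo ↥(chevE6.group K) (Fintype.card K) f := by
  intro l hl hl2 hlG hord hS
  obtain ⟨x, hx⟩ : ∃ x, x = Fintype.card K := ⟨_, rfl⟩
  have hlf : Fact l.Prime := ⟨hl⟩
  have hlK : ¬ l ∣ Fintype.card K := by
    intro h1
    have h2 : ((Fintype.card K : ℕ) : ZMod l) = 0 := (ZMod.natCast_eq_zero_iff _ _).2 h1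
    rw [ord, h2] at hord
    have h3 := pow_orderOf_eq_one (0 : ZMod l)
    rw [hord] at h3
    simp only [List.mem_cons, List.not_mem_nil, or_false] at hf
    rcases hf with rfl | rfl | rfl | rfl <;> simp at h3
  have h1 := two_dvd h4 hl hlK hS
  rw [← hx] at h1 hord hlK
  have hx0 : (x : ZMod l) ≠ 0 := fun h => hlK ((ZMod.natCast_eq_zero_iff _ _).1 h)
  have h2 : l ∣ x ^ 8 + x ^ 4 + x ^ 2 + 1 := by
    rcases hl.dvd_mul.1 h1 with h1 | h1
    · exfalso
      rcases hl.dvd_mul.1 h1 with h1 | h1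
      · rcases hl.dvd_mul.1 h1 with h1 | h1
        · have h3 : ord x l ∣ 2 * 1 := ord_dvd_of (by rwa [pow_one])
          rw [hord] at h3
          simp only [List.mem_cons, List.not_mem_nil, or_false] at hf
          rcases hf with rfl | rfl | rfl | rfl <;> revert h3 <;> decide
        · have h3 := ord_dvd_of h1
          rw [hord] at h3
          simp only [List.mem_cons, List.not_mem_nil, or_false] at hf
          rcases hf with rfl | rfl | rfl | rfl <;> revert h3 <;> decide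
      · have h3 := ord_dvd_of h1
        rw [hord] at h3
        simp only [List.mem_cons, List.not_mem_nil, or_false] at hf
        rcases hf with rfl | rfl | rfl | rfl <;> revert h3 <;> decide
    · exact h1
  have h3 : (x : ZMod l) ^ 8 + x ^ 4 + x ^ 2 + 1 = 0 := by
    have := (ZMod.natCast_eq_zero_iff _ _).2 h2
    exact_mod_cast this
  -- the powers of `x`
  have hne : ∀ n : ℕ, ¬ f ∣ n → (x : ZMod l) ^ n ≠ 1 := fun n hn h => hn (by
    rw [← hord]
    exact orderOf_dvd_of_pow_eq_one h)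
  have hpow : (x : ZMod l) ^ f = 1 := by rw [← hord]; exact pow_orderOf_eq_one _
  generalize (x : ZMod l) = y at *
  simp only [List.mem_cons, List.not_mem_nil, or_false] at hf
  rcases hf with rfl | rfl | rfl | rfl
  · have h5 : y - 1 ≠ 0 := sub_ne_zero.2 (by simpa using hne 1 (by decide))
    have h6 : y ^ 2 + y + 1 = 0 := by
      apply (mul_eq_zero.1 (show (y - 1) * (y ^ 2 + y + 1) = 0 by linear_combination hpow)).resolve_left h5
    apply pow_ne_zero 2 hx0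
    linear_combination h3 - (y ^ 6 - y ^ 5 + y ^ 3 - y + 1) * h6 + 0 * hpow
  · have h5 : y - 1 ≠ 0 := sub_ne_zero.2 (by simpa using hne 1 (by decide))
    have h6 : y ^ 4 + y ^ 3 + y ^ 2 + y + 1 = 0 := by
      apply (mul_eq_zero.1 (show (y - 1) * (y ^ 4 + y ^ 3 + y ^ 2 + y + 1) = 0 by
        linear_combination hpow)).resolve_left h5
    apply hx0
    linear_combination -h3 + (y ^ 4 - y ^ 3 + 1) * h6
  · have h5 : y ^ 3 - 1 ≠ 0 := sub_ne_zero.2 (hne 3 (by decide))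
    have h6 : y ^ 3 + 1 = 0 := by
      apply (mul_eq_zero.1 (show (y ^ 3 - 1) * (y ^ 3 + 1) = 0 by linear_combination hpow)).resolve_left h5
    have h7 : y + 1 ≠ 0 := fun h => hne 2 (by decide) (by linear_combination (y - 1) * h)
    have h8 : y ^ 2 - y + 1 = 0 := by
      apply (mul_eq_zero.1 (show (y + 1) * (y ^ 2 - y + 1) = 0 by linear_combination h6)).resolve_left h7
    apply pow_ne_zero 2 hx0
    linear_combination h3 - (y ^ 2 + y + 1) * (y ^ 4 - y ^ 2 + 1) * h8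
  · have h5 : y ^ 6 - 1 ≠ 0 := sub_ne_zero.2 (hne 6 (by decide))
    have h6 : y ^ 6 + 1 = 0 := by
      apply (mul_eq_zero.1 (show (y ^ 6 - 1) * (y ^ 6 + 1) = 0 by linear_combination hpow)).resolve_left h5
    have h7 : y ^ 2 + 1 ≠ 0 := fun h => hne 4 (by decide) (by linear_combination (y ^ 2 - 1) * h)
    have h8 : y ^ 4 - y ^ 2 + 1 = 0 := by
      apply (mul_eq_zero.1 (show (y ^ 2 + 1) * (y ^ 4 - y ^ 2 + 1) = 0 by linear_combination h6)).resolve_left h7
    apply pow_ne_zero 2 hx0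
    linear_combination h3 - (y ^ 2 + y + 1) * (y ^ 2 - y + 1) * h8

end Cfsg.Agent.H526.PQ
end

-- part: H632/PQ/RowE6
section
/-!
# The rows `E₆(q)` and `²E₆(q)` (helper632, for S4612)

`row_E6_of` : from `Kill` for `(2, 3)`, `(2, 6)`;
`row_2E6_of` : from `Kill` for `(2, 6)`, `(4, 12)`.
-/

set_option autoImplicit false
set_option maxRecDepth 20000

namespace Cfsg.Agent.H632.PQ

open Cfsg Cfsg.Lie Cfsg.Agent.H317.PQ Cfsg.Agent.H632.PQ.Arith Cfsg.Agent.H996.PQ Cfsg.Agent.H996.Eight.Cert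
  Cfsg.Agent.H64.Dl.Sph

universe u

/-- **Type `E₆`: the prime `2`, orders `4, 5, 8, 9, 12`.** -/
theorem killTwo_E6_blk (K : Type u) [Field K] [Fintype K] (h2 : Fintype.card K % 2 = 1) :
    ∀ f ∈ ([4, 5, 8, 9, 12] : List ℕ), KillTwo ↥(chevE6.group K) (Fintype.card K) f := by
  have hx : 2 ≤ Fintype.card K := Fintype.one_lt_card
  have key : ∀ f ∈ ([4, 5, 8, 9, 12] : List ℕ), Bad E6b.dat E6b.tab f (2 ^ 5 - 1) = true := by decide +kernel
  intro f hf
  exact killTwo_of_blk E6b.dat_ok (lam := FullE6b.lam) (by decide +kernel) hx h2 (fun i => FullE6b.deg hx i)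
    (fun p l hp hl hS => FullE6b.sepX (K := K) hp hl hS) (key f hf)

/-- **Type `²E₆`: the prime `2`.** -/
theorem killTwo_2E6_blk {K : Type u} [Field K] [Fintype K] {x : ℕ} (hq : IsPrimePow x) (hK : Fintype.card K = x ^ 2)
    (h2 : x % 2 = 1) : ∀ f ∈ ([2, 3, 4, 6, 8, 10, 12, 18] : List ℕ), KillTwo ↥(twistedE6 K x) x f := by
  have hx : 2 ≤ x := hq.two_le
  have key : ∀ f ∈ ([2, 3, 4, 6, 8, 10, 12, 18] : List ℕ), Bad TwEa.dat TwEa.tab f (2 ^ 5 - 1) = true := by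
    decide +kernel
  intro f hf
  exact killTwo_of_blk TwEa.dat_ok (lam := FullTwEa.lam) (by decide +kernel) hx h2 (fun i => FullTwEa.deg hx i)
    (fun p l hp hl hS => FullTwEa.sepX hq hK hp hl hS) (key f hf)

/-- `(x ^ d - 1) / Phi d` -/
def cof (d : ℕ) : List ℤ :=
  ([[],
    [1],
    [-1, 1],
    [-1, 1],
    [-1, 0, 1],
    [-1, 1],
    [-1, -1, 0, 1, 1],
    [-1, 1],
    [-1, 0, 0, 0, 1],
    [-1, 0, 0, 1],
    [-1, -1, 0, 0, 0, 1, 1],
    [],
    [-1, 0, -1, 0, 0, 0, 1, 0, 1],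
    [],
    [-1, -1, 0, 0, 0, 0, 0, 1, 1],
    [-1, -1, -1, 0, 0, 1, 1, 1],
    [],
    [],
    [-1, 0, 0, -1, 0, 0, 0, 0, 0, 1, 0, 0, 1],
    [],
    [-1, 0, -1, 0, 0, 0, 0, 0, 0, 0, 1, 0, 1],
    [],
    [],
    [],
    [-1, 0, 0, 0, -1, 0, 0, 0, 0, 0, 0, 0, 1, 0, 0, 0, 1],
    [],
    [],
    [],
    [],
    [],
    [-1, 1, -1, 0, 0, -1, 1, -1, 0, 0, 0, 0, 0, 0, 0, 1, -1, 1, 0, 0, 1, -1, 1]] : List (List ℤ)).getD d []

/-- the orders which occur, from the order of the group -/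
theorem es_of {x g N : ℕ} (hx : 2 ≤ x) {r : ℕ} (hr : ∀ p : ℕ, p.Prime → p ∣ x → p = r) {od : List (ℕ × ℕ)}
    (hgd : (g : ℤ) ∣ (x : ℤ) ^ N * (od.map fun d => evZ x (Phi d.1) ^ d.2).prod) {es : List ℕ}
    {ex : List (ℕ × ℕ × ℕ × List ℤ × List ℤ)}
    (hex : ∀ c ∈ ex, (res c.2.1 (Phi c.1) c.2.2.1 c.2.2.2.1 c.2.2.2.2 && chkR c.2.2.1 c.2.1 &&
      [2, 3, 4, 5, 6, 7, 8, 9, 10, 12, 14, 15, 18, 20, 24, 30].contains c.2.1) = true)
    (hod : ∀ d ∈ od, pEq (pMul (Phi d.1) (cof d.1)) (pAdd [-1] (pShift d.1 [1])) = true)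
    (hes : ∀ d ∈ od, ∀ n < d.1 + 1, n ∣ d.1 → n = 1 ∨ n ∈ es ∨ (ex.any fun c => c.1 == d.1 && c.2.1 == n) = true) (h0 : ∀ d ∈ od, 0 < d.1) :
    ∀ p : ℕ, p.Prime → p ∣ g → p = r ∨ p ∣ x - 1 ∨ ord x p ∈ es := by
  intro p hp hpg
  have hpZ : Prime (p : ℤ) := Nat.prime_iff_prime_int.1 hp
  have h1 : (p : ℤ) ∣ (x : ℤ) ^ N * (od.map fun d => evZ x (Phi d.1) ^ d.2).prod :=
    (Int.natCast_dvd_natCast.2 hpg).trans hgd
  rcases hpZ.dvd_or_dvd h1 with h2 | h2
  · left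
    have h3 : (p : ℤ) ∣ (x : ℤ) := hpZ.dvd_of_dvd_pow h2
    exact hr p hp (by exact_mod_cast h3)
  · right
    obtain ⟨z, hz, h3⟩ := (Prime.dvd_prod_iff hpZ).1 h2
    obtain ⟨d, hd, rfl⟩ := List.mem_map.1 hz
    have h4 := hpZ.dvd_of_dvd_pow h3
    have h5 := evZ_of_pEq (x : ℤ) (hod d hd)
    rw [evZ_pMul, evZ_pAdd] at h5
    have h6 : evZ (x : ℤ) (pShift d.1 [1]) = (x : ℤ) ^ d.1 := by
      have h7 := ev_pShift (x : ℚ) d.1 [1]
      have h8 := evZ_cast (x : ℤ) (pShift d.1 [1])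
      push_cast at h8
      rw [← h8] at h7
      simp only [ev_cons, ev_nil] at h7
      push_cast at h7
      rw [mul_zero, add_zero, mul_one] at h7
      exact_mod_cast h7
    rw [h6] at h5
    have h7 : evZ (x : ℤ) [-1] = -1 := by simp [evZ]
    rw [h7] at h5
    have h8 : (p : ℤ) ∣ (x : ℤ) ^ d.1 - 1 := by
      have : (x : ℤ) ^ d.1 - 1 = evZ x (Phi d.1) * evZ x (cof d.1) := by linarith only [h5]
      rw [this]
      exact h4.mul_right _
    have h9 : p ∣ x ^ d.1 - 1 := by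
      have h10 : ((x ^ d.1 - 1 : ℕ) : ℤ) = (x : ℤ) ^ d.1 - 1 := by
        rw [Nat.cast_sub (Nat.one_le_pow _ _ (by omega))]
        push_cast
        rfl
      rw [← h10] at h8
      exact_mod_cast h8
    have h10 : ord x p ∣ d.1 := (ord_dvd (by omega)).2 h9
    rcases hes d hd _ (Nat.lt_succ_of_le (Nat.le_of_dvd (h0 d hd) h10)) h10 with h11 | h11
    · left
      exact (ord_eq_one (by omega)).1 h11
    · rcases h11 with h11 | h11
      · exact Or.inr h11
      · exfalso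
        obtain ⟨c, hc, h12⟩ := List.any_eq_true.1 h11
        simp only [Bool.and_eq_true, beq_iff_eq] at h12
        have h13 := hex c hc
        simp only [Bool.and_eq_true] at h13
        have h14 : c.2.1 ∈ [2, 3, 4, 5, 6, 7, 8, 9, 10, 12, 14, 15, 18, 20, 24, 30] := by simpa only [_root_.List.mem_cons, _root_.List.not_mem_nil, _root_.or_false, _root_.List.contains_eq_mem, _root_.Bool.decide_or, _root_.Bool.or_eq_true, _root_.decide_eq_true_eq] using h13.2
        refine chkR_spec h13.1.2 hp h12.2.symm ?_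
        have h15 := dvd_of_res h13.1.1 (x := x) (p := p) (by rw [h12.1]; exact h4) (dvd_Phi hp h12.2.symm h14)
        exact_mod_cast h15

/-- prime divisors of the order of a finite field -/
theorem prime_of_card {K : Type u} [Field K] [Fintype K] {x n : ℕ} (hn : n ≠ 0) (hK : Fintype.card K = x ^ n) {r : ℕ}
    [hr : CharP K r] : r.Prime ∧ ∀ p : ℕ, p.Prime → p ∣ x → p = r := by
  have hrp : r.Prime := CharP.char_is_prime K r
  refine ⟨hrp, fun p hp h => ?_⟩
  obtain ⟨f, _, hf⟩ := FiniteField.card K r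
  have h1 : p ∣ r ^ (f : ℕ) := by
    rw [← hf, hK]
    exact h.trans (dvd_pow_self _ hn)
  exact (Nat.prime_dvd_prime_iff_eq hp hrp).1 (hp.dvd_of_dvd_pow h1)

/-- **The row `E₆`.** -/
theorem row_E6_of (K : Type) [Field K] [Fintype K]
    (h23 : Kill ↥(chevE6.group K) (Fintype.card K) 2 3) (h26 : Kill ↥(chevE6.group K) (Fintype.card K) 2 6) :
    Row ↥(chevE6.group K) := by
  obtain ⟨r, hr⟩ := CharP.exists K
  obtain ⟨hrp, hrq⟩ := prime_of_card (K := K) (x := Fintype.card K) one_ne_zero (pow_one _).symm (r := r)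
  have : Fact r.Prime := ⟨hrp⟩
  have hx : 2 ≤ Fintype.card K := Fintype.one_lt_card
  have hL : IsLieTypeChar r ↥(chevE6.group K) :=
    Or.inr (Or.inr (Or.inr (Or.inr (Or.inr (Or.inr (Or.inl
      ⟨K, inferInstance, inferInstance, hr, Or.inr (Or.inr (Or.inl ⟨MulEquiv.refl _⟩))⟩))))))
  refine row_of_kill hrq (fun l hl hlr hlG => H947.PQ.row_own hrp hl hlr hL hlG) (H526.PQ.lin_E6 (F := K))
    (H526.PQ.linTwo_E6 (F := K)) [2, 3, 4, 5, 6, 8, 9, 12]
    (es_of hx hrq (E6b.card_dvd K) (ex := []) (by decide) (by decide +kernel) (by decide +kernel) (by decide +kernel)) ?_ ?_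
  · intro e he f hf hef
    by_cases hne : e = f
    · subst hne
      exact H755.PQ.tor_E6 K e he
    have key : ∀ e ∈ ([2, 3, 4, 5, 6, 8, 9, 12] : List ℕ), ∀ f ∈ ([2, 3, 4, 5, 6, 8, 9, 12] : List ℕ), e ≤ f → e ≠ f →
        (e, f) = (2, 3) ∨ (e, f) = (2, 6) ∨ (e, f) = (3, 6) ∨ (e, f) ∈ E6b.prs := by decide +kernel
    rcases key e he f hf hef hne with h | h | h | h
    · obtain ⟨rfl, rfl⟩ := Prod.mk.inj h
      exact h23
    · obtain ⟨rfl, rfl⟩ := Prod.mk.inj h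
      exact h26
    · obtain ⟨rfl, rfl⟩ := Prod.mk.inj h
      exact H755.PQ.kill_E6_36 K
    · exact kill_E6 K _ h
  · intro h4 f hf
    have key : ∀ f ∈ ([2, 3, 4, 5, 6, 8, 9, 12] : List ℕ), f = 2 ∨ f ∈ ([3, 5, 6, 12] : List ℕ) ∨
        f ∈ ([4, 5, 8, 9, 12] : List ℕ) := by decide
    rcases key f hf with rfl | h | h
    · exact H755.PQ.killTwo_E6_2 K h4
    · exact H526.PQ.killTwo_E6 h4 h
    · exact killTwo_E6_blk K (by omega) f h

/-- **The row `²E₆`.** -/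
theorem row_2E6_of {K : Type} [Field K] [Fintype K] {x : ℕ} (hq : IsPrimePow x) (hK : Fintype.card K = x ^ 2)
    (h26 : Kill ↥(twistedE6 K x) x 2 6) (h412 : Kill ↥(twistedE6 K x) x 4 12) : Row ↥(twistedE6 K x) := by
  obtain ⟨r, hr⟩ := CharP.exists K
  obtain ⟨hrp, hrq⟩ := prime_of_card (K := K) (x := x) two_ne_zero hK (r := r)
  have : Fact r.Prime := ⟨hrp⟩
  have hx : 2 ≤ x := hq.two_le
  have := finite_twE6 K x
  have hL : IsLieTypeChar r ↥(twistedE6 K x) :=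
    Or.inr (Or.inr (Or.inr (Or.inr (Or.inr (Or.inr (Or.inr (Or.inl
      ⟨K, inferInstance, inferInstance, hr, x, hq, Or.inl ⟨hK, ⟨MulEquiv.refl _⟩⟩⟩)))))))
  refine row_of_kill hrq (fun l hl hlr hlG => H947.PQ.row_own hrp hl hlr hL hlG) (lin_twE6 hq hK)
    (linTwo_twE6 hq hK) [2, 3, 4, 6, 8, 10, 12, 18]
    (es_of hx hrq (TwEa.card_dvd hq hK)
      (ex := [(10, 5, 2, [1, 1], [1, -1]), (18, 9, 2, [1, 0, 0, 1], [1, 0, 0, -1])]) (by decide +kernel) (by decide +kernel)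
      (by decide +kernel) (by decide +kernel)) ?_ ?_
  · intro e he f hf hef
    by_cases hne : e = f
    · subst hne
      exact H755.PQ.tor_2E6 K hq hK e he
    have key : ∀ e ∈ ([2, 3, 4, 6, 8, 10, 12, 18] : List ℕ), ∀ f ∈ ([2, 3, 4, 6, 8, 10, 12, 18] : List ℕ), e ≤ f →
        e ≠ f → (e, f) = (2, 6) ∨ (e, f) = (4, 12) ∨ (e, f) ∈ TwEa.prs := by decide +kernel
    rcases key e he f hf hef hne with h | h | h
    · obtain ⟨rfl, rfl⟩ := Prod.mk.inj h
      exact h26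
    · obtain ⟨rfl, rfl⟩ := Prod.mk.inj h
      exact h412
    · exact kill_2E6 hq hK _ h
  · intro h4 f hf
    exact killTwo_2E6_blk hq hK (by omega) f hf

end Cfsg.Agent.H632.PQ
end

private theorem dce_f8d3345f7bc0 : _root_.True := by
  try have : _root_.True := by simp only [_root_.Cfsg.Agent.H526.PQ.vk.eq_1]
  try have : _root_.True := by simp only [_root_.Cfsg.Agent.H526.PQ.VV.congr_simp]
  try have : _root_.True := by simp only [_root_.Cfsg.Agent.H526.PQ.vk.congr_simp]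
  try have : _root_.True := by simp only [_root_.Cfsg.Agent.H526.PQ.ex.eq_1]
  try have : _root_.True := by simp only [_root_.Cfsg.Agent.Nodes.Bruhat.LJ.congr_simp]
  try have : _root_.True := by simp only [_root_.Cfsg.Agent.H526.PQ.tau.congr_simp]
  try have : _root_.True := by simp only [_root_.Cfsg.Agent.H526.PQ.exv.eq_1]
  try have : _root_.True := by simp only [_root_.Cfsg.Agent.H526.PQ.PP.congr_simp]
  exact _root_.True.intro
end
end
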